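import Cfsg.Agent.M12R.Search
import Cfsg.Agent.Small.Facts

/-!
# The principal block for a Sylow subgroup of prime order, in two stages
-/

set_option autoImplicit false
set_option linter.unusedSectionVars false

namespace Cfsg.Agent.M12R

open Finset Subgroup Cfsg.Agent.Char Cfsg.Agent.Block Cfsg.Agent.Zass Cfsg.Agent.Local
  Cfsg.Agent.M11 Cfsg.Agent.Small
open scoped ComplexConjugate

def dL (N p X : ℕ) : List ℕ :=
  (List.range 310).filter fun d => Nat.ble 2 d && (N % d == 0 && (X == 1 || Nat.ble (2 * p) d))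

def vL (N c p : ℕ) (r3 : Bool) (vf : ℕ → ℤ → Bool) (d : ℕ) (m : ℤ) : List ℤ :=
  (Small.vL N c d r3 p m).filter fun v => (c % p != 0 || ((d : ℤ) - v) % p == 0) && vf d v

def xi (N : ℕ) (l : List Row) : ℤ :=
  N + (l.map fun x : Row => x.2.1 * (x.2.2 * x.2.2) * ((N / x.1 : ℕ) : ℤ)).sum

/-- first stage: the degrees -/
def B1 (N p e X : ℕ) (L : List (List ℕ)) : Bool :=
  fL (dL N p X) fun dl => B dl (fun d _ => [(d : ℤ)]) N p e (N / (p * X)) (N - 1) fun l r =>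
    (X != 1 || r % (p * p) == 0) && !L.any fun D => (l.map (·.1)).isPerm D

def finW (p e X c : ℕ) (r3 : Bool) (ξ : ℤ) : Bool :=
  decide (0 ≤ ξ) && fN (ξ.toNat * p * X) fun W =>
    W % (c * c) == 0 && ((e % 2 == 0 || W == 0) && ((r3 == (W != 0)) &&
      fN (W / (c * c)) fun J => Nat.sqrt J * Nat.sqrt J == J))

/-- second stage: the values at an involution -/
def B2 (N p e X c : ℕ) (r3 : Bool) (D : List ℕ) (vf : ℕ → ℤ → Bool) (L : List (List (ℕ × ℤ))) : Bool :=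
  fL D.dedup fun dl => B dl (vL N c p r3 vf) N p e (N / (p * X)) (c - 1) fun l _ =>
    (l.map (·.1)).isPerm D && (fI (xi N l) (finW p e X c r3) &&
      !L.any fun V => (l.map fun x => (x.1, x.2.2)).isPerm V)

theorem mem_dL {N p X d : ℕ} (hN : d * d ≤ 96000) (h2 : 2 ≤ d) (hd : d ∣ N) (hX : X = 1 ∨ 2 * p ≤ d) :
    d ∈ dL N p X := by
  have : d < 310 := by nlinarith
  simp [dL, this, h2, Nat.mod_eq_zero_of_dvd hd, hX]

theorem finW_of {p e X c j : ℕ} {ξ : ℤ} (hp : 0 < p) (hX : 0 < X) (hc : 0 < c)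
    (h : ξ * p * X = ((c * j : ℕ) : ℤ) ^ 2) (he : e % 2 = 1 → j = 0) :
    finW p e X c (decide (j ≠ 0)) ξ = true := by
  have h0 : 0 ≤ ξ := by
    by_contra hh
    have : ξ * p * X < 0 := mul_neg_of_neg_of_pos (mul_neg_of_neg_of_pos (by omega)
      (by exact_mod_cast hp)) (by exact_mod_cast hX)
    have := sq_nonneg ((c * j : ℕ) : ℤ)
    omega
  have h1 : ξ.toNat * p * X = c * c * (j * j) := by
    zify
    rw [Int.toNat_of_nonneg h0, h]
    push_cast
    ring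
  simp only [finW, fN_eq, h1, h0, Nat.mul_mod_right, Nat.mul_div_cancel_left _ (Nat.mul_pos hc hc),
    Nat.sqrt_eq]
  by_cases hj : j = 0
  · simp [hj]
  · have : e % 2 = 0 := by omega
    simp [hj, this, hc.ne']

variable {G : Type*} [Group G] [Fintype G] {p : ℕ} [hp : Fact p.Prime] {x : G}
  {h : PP p x} {ψ : AddChar (ZMod p) ℂ} {φ θ : ZMod p → G → ℂ} (H : Phi h ψ φ θ)
  {a : ZMod p → IrrCharacter G → ℤ} (ha : ∀ k (χ : IrrCharacter G), classInner (θ k) χ = a k χ)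
include H ha

theorem val_x {χ : IrrCharacter G} (h0 : a 1 χ ≠ 0) (hc : ∀ k, k ≠ 0 → a k χ = a 1 χ) :
    χ.1 x = a 1 χ := by
  classical
  have hB := H.inB0 ha h0
  have h1 : ∀ k, (p : ℂ) * a k χ = ∑ i : ZMod p, (1 - ψ (i * k)) * conj (χ.1 (x ^ i.val)) := fun k => by
    have := H.coef χ.2 k
    rwa [if_pos hB, ha] at this
  have h5 : ∀ i : ZMod p, ∑ k, ψ (k * i) = if i = 0 then (p : ℂ) else 0 := fun i => by
    simpa using AddChar.sum_mulShift i H.prim
  have h3 : (p : ℂ) ≠ 0 := Nat.cast_ne_zero.2 hp.out.ne_zero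
  have h6 := h5 (-1)
  rw [if_neg (neg_ne_zero.2 one_ne_zero)] at h6
  have h2 : ∑ k, ψ (k * -1) * ((p : ℂ) * a k χ) = -(p * conj (χ.1 x)) := by
    simp only [h1, mul_sum]
    rw [sum_comm]
    have h7 : ∀ i k : ZMod p, ψ (k * -1) * ((1 - ψ (i * k)) * conj (χ.1 (x ^ i.val))) =
        (ψ (k * -1) - ψ (k * (i - 1))) * conj (χ.1 (x ^ i.val)) := fun i k => by
      rw [show k * (i - 1) = k * -1 + i * k by ring, AddChar.map_add_eq_mul]; ring
    simp only [h7, ← sum_mul, sum_sub_distrib, h6, h5, sub_eq_zero, zero_sub, neg_mul, ite_mul,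
      zero_mul, sum_neg_distrib, sum_ite_eq', mem_univ, if_true, h.one']
  have h4 : ∑ k, ψ (k * -1) * ((p : ℂ) * a k χ) = -(p * a 1 χ) := by
    rw [← add_sum_erase _ _ (mem_univ 0)] at h6 ⊢
    have h8 := h1 0
    simp only [mul_zero, AddChar.map_zero_eq_one, sub_self, zero_mul, sum_const_zero] at h8 h6
    rw [h8, mul_zero, zero_add, sum_congr rfl fun k hk => by rw [hc k (ne_of_mem_erase hk)], ← sum_mul,
      eq_neg_of_add_eq_zero_right h6, neg_mul, one_mul]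
  have := congrArg conj (mul_left_cancel₀ h3 (neg_injective (h2.symm.trans h4)))
  simpa using this

theorem bd [IsSimpleGroup G] [DecidableEq (IrrCharacter G)] (hna : ¬ IsMulCommutative G)
    (h80 : p ≤ 80) :
    BD (Nat.card G) (EE p x).card (Nat.card G / cc x) ⟨1, irr_one⟩ (fun χ => deg χ.1) a
      (EE p x) where
  e80 := (card_le_univ _).trans (by rwa [ZMod.card])
  E0 := h.E0
  E1 := h.E1
  Emul := h.Emul
  Einv := h.Einv
  Ecard := rfl
  gram k l hk hl := by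
    have := H.gram hk hl
    rw [inner_eq_sum_irr (gen_isClassFunction (H.gen k))] at this
    simp only [ha, map_intCast] at this
    exact_mod_cast this
  deg0 k _ := by
    have := H.reg k (g := 1) (by simp)
    simp only [H.apply ha, fun χ : IrrCharacter G => irr_deg χ.2] at this
    exact_mod_cast this
  ao k hk := by
    classical
    have := H.coef irr_one k
    rw [if_pos (one_inB0 p G), ha k ⟨1, irr_one⟩] at this
    simp only [Pi.one_apply, map_one, mul_one, sum_sub_distrib, AddChar.sum_mulShift _ H.prim,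
      if_neg hk, sum_const, card_univ, ZMod.card, nsmul_eq_mul, Nat.cast_zero, sub_zero] at this
    exact_mod_cast (mul_eq_left₀ (Nat.cast_ne_zero.2 hp.out.ne_zero)).1 this
  a0 χ := by
    have := ha 0 χ
    simp only [classInner, H.zero, zero_mul, sum_const_zero, mul_zero] at this
    exact_mod_cast this.symm
  d1 := deg_one
  dpos χ := irr_deg_pos χ.2
  sumd := sum_deg
  mult χ k h0 := (H.mult χ.2 (H.inB0 ha h0) fun k => ha k χ).2
  cen χ h1 h0 hc := by
    have := inv_row hna χ.2 (fun e => h1 (Subtype.ext e))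
      (ne_one_of_orderOf_eq_prime hp.out h.ord) (val_x H ha h0 hc)
    exact ⟨by omega, this.2⟩

omit H ha in
theorem sect {χ : G → ℂ} (hχ : IsIrrCharacter G χ) (hB : InB0 p χ) {i : ZMod p} (hi : i ≠ 0) {u : G}
    (hu : u ∈ h.npc.compl) : χ (x ^ i.val * u) = χ (x ^ i.val) := by
  have h3 := h.cen_eq hi
  simpa using hB.apply_section hχ (Commute.one_right (x ^ i.val)) (n := 1)
    (by rw [pow_one, h.xp_pow]) (by simp)
    (h.npc.compl_le.trans h3.ge) (h3.le.trans h.npc.le_normalizer) (h.npc.coprime_card hp.out) hu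

theorem two_mul_le' [IsSimpleGroup G] (hna : ¬ IsMulCommutative G) {χ : IrrCharacter G} {k : ZMod p}
    (h0 : a k χ ≠ 0) (h1 : χ.1 ≠ 1) : Nat.card h.npc.compl = 1 ∨ 2 * p ≤ deg χ.1 := by
  have hB := H.inB0 ha h0
  refine or_iff_not_imp_left.2 fun hX => ?_
  obtain ⟨q, hq, hqX⟩ := Nat.exists_prime_and_dvd hX
  obtain ⟨u, hu, huq⟩ := exists_mem_orderOf_eq_of_dvd_card hq hqX
  have := Fact.mk hq
  refine two_mul_le_deg hna χ.2 h1 (fun e => ?_) h.pow_p huq
    (by simpa using h.comm hu 1) fun i j i0 ip => ?_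
  · have := hu.2
    rw [huq, ← e, Nat.coprime_self] at this
    exact hp.out.one_lt.ne' this
  · have h2 : (i : ZMod p) ≠ 0 := fun e =>
      (Nat.le_of_dvd i0 ((ZMod.natCast_eq_zero_iff i p).1 e)).not_gt ip
    have := sect (h := h) χ.2 hB h2 (pow_mem hu j)
    rwa [ZMod.val_cast_of_lt ip] at this

omit H ha in
theorem cong (h : PP p x) {χ : G → ℂ} (hχ : IsIrrCharacter G χ) (hB : InB0 p χ) {s : G} (hs : orderOf s = 2)
    (hd : p ∣ cc s) {v : ℤ} (hv : χ s = v) : (p : ℤ) ∣ deg χ - v := by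
  classical
  obtain ⟨y, hy, hc⟩ := exists_of_prime_dvd_cc hp.out hd
  obtain ⟨g, hg⟩ := exists_conj_zpowers hp.out h.sq h.ord hy
  have h1 : orderOf (g⁻¹ * s * g) = 2 := by simpa [hs] using Local.orderOf_conj' g⁻¹ s
  have h2 : g⁻¹ * s * g ∈ h.npc.compl := by
    refine ⟨?_, by rw [h1]; exact (Nat.coprime_primes Nat.prime_two hp.out).2 h.odd.symm⟩
    rw [← Wong.centralizer_zpowers, ← hg, Wong.centralizer_zpowers, mem_centralizer_singleton_iff]
    simp only [mul_assoc, mul_inv_cancel_left, mul_right_inj]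
    rw [← mul_assoc, hc.symm.eq, mul_assoc]
  have h3 : χ (g⁻¹ * s * g) = v := by
    rw [← hv]; simpa using irr_isClassFunction hχ s g⁻¹
  generalize g⁻¹ * s * g = t at h1 h2 h3
  have ht : t ^ 2 = 1 := h1 ▸ pow_orderOf_eq_one t
  obtain ⟨m, hm⟩ := char_param_mult (irr_isCharacter hχ) (fun i : ZMod p => x ^ i.val) h.add
    (fun _ => 1) (by simp)
  obtain ⟨n, hn⟩ := char_param_mult (irr_isCharacter hχ)
    (fun i : ZMod p × ZMod 2 => x ^ i.1.val * t ^ i.2.val) (fun u w => by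
      rw [Prod.fst_add, Prod.snd_add, h.add, pow_val_add ht,
        (h.comm (pow_mem h2 _) _).mul_mul_mul_comm]) (fun _ => 1) (by simp)
  rw [Fintype.sum_prod_type_right, show (univ : Finset (ZMod 2)) = {0, 1} from rfl,
    sum_pair (by decide)] at hn
  simp only [one_mul, ZMod.val_zero, ZMod.val_one, pow_zero, pow_one, mul_one, Fintype.card_prod,
    ZMod.card] at hm hn
  rw [← add_sum_erase _ (fun i : ZMod p => χ (x ^ i.val * t)) (mem_univ 0),
    sum_congr rfl fun i hi => sect (h := h) hχ hB (ne_of_mem_erase hi) h2, hm] at hn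
  rw [← add_sum_erase _ _ (mem_univ 0)] at hm
  simp only [ZMod.val_zero, pow_zero, one_mul, h3, irr_deg hχ] at hm hn
  refine ⟨2 * m - 2 * n, ?_⟩
  have : ((deg χ - v : ℤ) : ℂ) = ((p * (2 * m - 2 * n) : ℤ) : ℂ) := by
    push_cast at hm hn ⊢
    linear_combination hm - hn
  exact_mod_cast this

theorem stage1 [IsSimpleGroup G] [DecidableEq (IrrCharacter G)] (hna : ¬ IsMulCommutative G)
    (hN : Nat.card G ≤ 96000) (h80 : p ≤ 80) {L : List (List ℕ)}
    (hB : B1 (Nat.card G) p (EE p x).card (Nat.card h.npc.compl) L = false) :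
    ∃ D ∈ L, (TT ⟨1, irr_one⟩ a).val.map (fun χ => deg χ.1) = (D : Multiset ℕ) := by
  by_contra hL
  have hb := bd H ha hna h80
  have h1 := sum_TT_le (o := ⟨1, irr_one⟩) (a := a) fun χ => deg χ.1 * deg χ.1
  rw [sum_deg, deg_one] at h1
  rw [B1, fL_eq, ← h.cc_eq, hb.search (v := fun χ => deg χ.1) (fun χ hχ => ?_) (by simp)
    (by simp [deg_one]) hb.deg0 (by simp only [Int.natAbs_natCast]; omega) fun l hl => ?_] at hB
  · cases hB
  · obtain ⟨h2, k, h3⟩ := mem_TT.1 hχ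
    have h4 : χ.1 ≠ 1 := fun e => h2 (Subtype.ext e)
    exact mem_dL ((deg_sq_le χ.2).trans hN) (two_le_deg (perfect hna) χ.2 h4) (deg_dvd_card χ.2)
      (two_mul_le' H ha hna h3 h4)
  simp only [Bool.and_eq_true, Bool.or_eq_true, bne_iff_ne, beq_iff_eq, Bool.not_eq_true',
    List.any_eq_false, List.isPerm_iff]
  refine ⟨or_iff_not_imp_left.2 fun hX => ?_, fun D hD e => hL ⟨D, hD, ?_⟩⟩
  · rw [not_ne_iff] at hX
    have h2 := sum_add_sum_compl (insert ⟨1, irr_one⟩ (TT ⟨1, irr_one⟩ a))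
      fun χ : IrrCharacter G => deg χ.1 * deg χ.1
    rw [sum_deg, sum_insert (by simp [mem_TT]), deg_one] at h2
    rw [← h2, add_assoc, Nat.mul_one, Nat.add_sub_cancel_left, Nat.add_sub_cancel_left]
    refine Nat.mod_eq_zero_of_dvd (dvd_sum fun χ hχ => ?_)
    simp only [mem_compl, mem_insert, mem_TT, not_or, not_and, not_exists, not_not] at hχ
    have := H.dvd_deg ha hX (hχ.2 hχ.1)
    exact mul_dvd_mul this this
  · rw [← Multiset.coe_eq_coe.2 e, ← Multiset.map_coe, hl, Multiset.map_map]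
    rfl

theorem stage2 [IsSimpleGroup G] [DecidableEq (IrrCharacter G)] (hna : ¬ IsMulCommutative G)
    (h80 : p ≤ 80) {s : G} (hs : orderOf s = 2) :
    ∃ r3 : Bool, (s * x * s⁻¹ = x⁻¹ → r3 = true) ∧ ((EE p x).card % 2 = 1 → r3 = false) ∧ ∀ D : List ℕ,
      (TT ⟨1, irr_one⟩ a).val.map (fun χ => deg χ.1) = (D : Multiset ℕ) → ∀ vf : ℕ → ℤ → Bool,
      (∀ χ ∈ TT ⟨1, irr_one⟩ a, vf (deg χ.1) (iv χ.1 s) = true) → ∀ L : List (List (ℕ × ℤ)),
      B2 (Nat.card G) p (EE p x).card (Nat.card h.npc.compl) (cc s) r3 D vf L = false →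
      ∃ V ∈ L, (TT ⟨1, irr_one⟩ a).val.map (fun χ => (deg χ.1, iv χ.1 s)) = (V : Multiset (ℕ × ℤ)) := by
  classical
  set J := univ.filter fun u => IsConj s u ∧ u * x * u⁻¹ = x⁻¹ with hJ
  have hodd : (EE p x).card % 2 = 1 → J.card = 0 := fun he => by
    rw [card_eq_zero, filter_eq_empty_iff]
    rintro u - ⟨h8, h9⟩
    obtain ⟨j', hj'⟩ := H.vd ha hna ((isConj_orderOf h8).symm.trans hs) (r3 := true) fun _ => h9
    exact hj'.r3j rfl (hj'.odd he)
  refine ⟨decide (J.card ≠ 0), fun e => decide_eq_true (card_ne_zero.2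
    ⟨s, mem_filter.2 ⟨mem_univ _, IsConj.refl s, e⟩⟩), fun e => by simp [hodd e],
    fun D hD vf hvf L hB => ?_⟩
  by_contra hL
  obtain ⟨j, hj⟩ := H.vd ha hna hs (r3 := false) (by simp)
  have hss := mul_self_of_orderOf hs
  have hv := fun χ : IrrCharacter G => iv_spec (perfect hna) χ.2 hss
  have hb := bd H ha hna h80
  have h1 := sum_TT_le (o := ⟨1, irr_one⟩) (a := a) fun χ => (iv χ.1 s).natAbs * (iv χ.1 s).natAbs
  rw [hj.sumv, hj.vo] at h1
  rw [B2, fL_eq, ← h.cc_eq, hb.search (v := fun χ => iv χ.1 s) (fun χ hχ => ?_) (fun χ hχ => ?_)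
    hj.vo hj.val0 (by simp only [Int.natAbs_one] at h1; omega) fun l hl => ?_] at hB
  · cases hB
  · rw [List.mem_dedup, ← Multiset.mem_coe, ← hD]
    exact Multiset.mem_map_of_mem _ hχ
  · obtain ⟨h2, k, h3⟩ := mem_TT.1 hχ
    obtain ⟨h4, h5, h6⟩ := hj.row χ h2
    have h7 := single_le_sum (f := fun χ : IrrCharacter G => (iv χ.1 s).natAbs * (iv χ.1 s).natAbs)
      (fun _ _ => Nat.zero_le _) (mem_univ χ)
    rw [hj.sumv] at h7
    simp only [vL, List.mem_filter, Bool.and_eq_true, Bool.or_eq_true, bne_iff_ne, beq_iff_eq]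
    refine ⟨mem_vL h4 h7 h5 h6 fun e => ?_, or_iff_not_imp_left.2 fun e => Int.emod_eq_zero_of_dvd
      (cong h χ.2 (H.inB0 ha h3) hs (Nat.dvd_of_mod_eq_zero (not_ne_iff.1 e)) (hv χ).1), hvf χ hχ⟩
    obtain ⟨u, hu⟩ := card_ne_zero.1 (of_decide_eq_true e)
    obtain ⟨-, h8, h9⟩ := mem_filter.1 hu
    obtain ⟨j', hj'⟩ := H.vd ha hna ((isConj_orderOf h8).symm.trans hs) (r3 := true) fun _ => h9
    have := hj'.r3b rfl χ k h3
    rwa [iv, ← classFun_of_isConj (irr_isClassFunction χ.2) h8] at this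
  have h2 : ∀ {β : Type} (f : Row → β), ((l.map f : List β) : Multiset β) =
      (TT ⟨1, irr_one⟩ a).val.map fun χ => f (deg χ.1, a 1 χ, iv χ.1 s) := fun f => by
    rw [← Multiset.map_coe, hl, Multiset.map_map]
    rfl
  simp only [Bool.and_eq_true, Bool.not_eq_true', List.any_eq_false, List.isPerm_iff, fI_eq]
  refine ⟨Multiset.coe_eq_coe.1 ((h2 _).trans hD), finW_of hp.out.pos Nat.card_pos (cc_pos s) ?_
    hodd, fun V hV e => hL ⟨V, hV, (h2 _).symm.trans (Multiset.coe_eq_coe.2 e)⟩⟩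
  · have h1 := H.classSum hss
    rw [classFun_sum_conj_mul (gen_isClassFunction (H.gen 1)), mul_sum, h.cc_eq] at h1
    have h3 : ∀ χ : IrrCharacter G, (Nat.card G : ℂ) * (classInner (θ 1) χ * (χ.1 s * χ.1 s / χ.1 1)) =
        ((a 1 χ * (iv χ.1 s * iv χ.1 s * (Nat.card G / deg χ.1 : ℕ)) : ℤ) : ℂ) := fun χ => by
      have h4 : (deg χ.1 : ℂ) ≠ 0 := Nat.cast_ne_zero.2 (irr_deg_pos χ.2).ne'
      rw [ha, irr_deg χ.2]
      nth_rw 1 [(hv χ).1]
      nth_rw 1 [(hv χ).1]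
      rw [Int.cast_mul, Int.cast_mul, Int.cast_natCast, Nat.cast_div (deg_dvd_card χ.2) h4]
      push_cast
      ring
    simp only [h3] at h1
    have h4 : xi (Nat.card G) l = ∑ χ, a 1 χ * (iv χ.1 s * iv χ.1 s * (Nat.card G / deg χ.1 : ℕ)) := by
      rw [sum_TT (o := ⟨1, irr_one⟩), xi, ← Multiset.sum_coe, h2, hb.ao 1 one_ne_zero, hj.vo, deg_one]
      simp only [mul_assoc, Nat.div_one, one_mul]
      rfl
    rw [h4, mul_assoc, mul_comm]
    exact_mod_cast h1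

end Cfsg.Agent.M12R

namespace Cfsg.Agent.M12R

open Finset Subgroup Cfsg.Agent.Char Cfsg.Agent.Zass Cfsg.Agent.M11 Cfsg.Agent.Small

variable {G : Type*} [Group G] [Finite G]

/-- The data attached to a Sylow subgroup of odd prime order. -/
structure PD (p e X : ℕ) (x : G) (T : Finset (IrrCharacter G)) : Prop where
  ord : orderOf x = p
  ccx : cc x = p * X
  dvd : e ∣ p - 1
  ne : e ≠ 1
  idx : ∃ H : Subgroup G, H ≠ ⊤ ∧ H.index % p = 1 ∧ p * X * e * H.index = Nat.card G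
  inv : 2 ∣ e → ¬ 2 ∣ X → ∃ s : G, orderOf s = 2 ∧ s * x * s⁻¹ = x⁻¹
  rat : e + 1 = p → ∀ i, 0 < i → i < p → IsConj x (x ^ i)
  ne1 : ∀ χ ∈ T, χ.1 ≠ 1
  mem : X = 1 → ∀ χ : IrrCharacter G, χ.1 ≠ 1 → ¬ p ∣ deg χ.1 → χ ∈ T
  st1 : ∀ L, B1 (Nat.card G) p e X L = false → ∃ D ∈ L, T.val.map (fun χ => deg χ.1) = (D : Multiset ℕ)
  st2 : ∀ s : G, orderOf s = 2 → ∃ r3 : Bool, (s * x * s⁻¹ = x⁻¹ → r3 = true) ∧
      (e % 2 = 1 → r3 = false) ∧ ∀ D : List ℕ,
      T.val.map (fun χ => deg χ.1) = (D : Multiset ℕ) → ∀ vf : ℕ → ℤ → Bool,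
      (∀ χ ∈ T, vf (deg χ.1) (iv χ.1 s) = true) → ∀ L : List (List (ℕ × ℤ)),
      B2 (Nat.card G) p e X (cc s) r3 D vf L = false →
      ∃ V ∈ L, T.val.map (fun χ => (deg χ.1, iv χ.1 s)) = (V : Multiset (ℕ × ℤ))

theorem exists_PD [IsSimpleGroup G] (hna : ¬ IsMulCommutative G) (hN : Nat.card G ≤ 96000) {p : ℕ}
    (hp : p.Prime) (h2 : p ≠ 2) (h80 : p ≤ 80) (hd : p ∣ Nat.card G) (hsq : ¬ p * p ∣ Nat.card G) :
    ∃ e X, ∃ x : G, ∃ T, PD p e X x T := by
  classical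
  have := Fintype.ofFinite G
  have := Fact.mk hp
  obtain ⟨x, hx⟩ := exists_prime_orderOf_dvd_card' p hd
  have h : PP p x := ⟨h2, hx, hsq⟩
  obtain ⟨ψ, φ, θ, H⟩ := h.exists_phi
  choose a ha using fun k (χ : IrrCharacter G) =>
    inner_gen_gen (H.gen k) (gen_of_char (irr_isCharacter χ.2))
  obtain ⟨h3, h4, h5, h6⟩ := h.data hna
  have h7 : p * Nat.card h.npc.compl * (EE p x).card * (normalizer (zpowers x : Set G)).index =
      Nat.card G := by rw [← h.cc_eq, h.card_norm, card_mul_index]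
  refine ⟨_, _, x, TT ⟨1, irr_one⟩ a, hx, h.cc_eq, h3, h4, ⟨_, h6, h5, h7⟩,
    fun e1 e2 => h.exists_inv e1 fun e3 => ?_, fun e i i0 ip => ?_,
    fun χ hχ e => (mem_TT.1 hχ).1 (Subtype.ext e),
    fun hX χ h1 h8 => mem_TT.2 ⟨fun e => h1 (congrArg Subtype.val e), ?_⟩,
    fun L => stage1 H ha hna hN h80, fun s => stage2 H ha hna h80⟩
  · rw [h.cc_eq, Nat.prime_two.dvd_mul] at e3
    exact e3.elim (fun e => h2 ((Nat.prime_dvd_prime_iff_eq Nat.prime_two hp).1 e).symm) e2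
  · have h8 : EE p x = univ.erase 0 := eq_of_subset_of_card_le
      (fun i hi => mem_erase.2 ⟨fun e => h.E0 (e ▸ hi), mem_univ _⟩) (by
        rw [card_erase_of_mem (mem_univ _), card_univ, ZMod.card]; omega)
    have := mem_EE.1 (h8.ge (mem_erase.2 ⟨fun e =>
      (Nat.le_of_dvd i0 ((ZMod.natCast_eq_zero_iff i p).1 e)).not_gt ip, mem_univ (i : ZMod p)⟩))
    rwa [ZMod.val_cast_of_lt ip] at this
  · by_contra e
    push Not at e
    exact h8 (H.dvd_deg ha hX e)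

end Cfsg.Agent.M12R
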