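import Cfsg.Agent.M12R.Kill
import Cfsg.Agent.Small.L33

/-!
# The simple group of order `7920`
-/

set_option autoImplicit false

namespace Cfsg.Agent.M12R

open Finset Subgroup Cfsg.Agent.Char Cfsg.Agent.Zass Cfsg.Agent.M11 Cfsg.Agent.Small Cfsg.Agent.Local
open scoped ComplexConjugate

def allC (N p e X : ℕ) (D : List ℕ) (P : ℕ → Bool) (vf : ℕ → ℕ → ℤ → Bool)
    (L : List (ℕ × List (ℕ × ℤ))) : Bool :=
  (call N).all fun c => fN c fun c => !P c || [false, true].all fun r => (r && e % 2 == 1) ||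
    !B2 N p e X c r D (vf c) ((L.filter (·.1 == c)).map (·.2))

variable {G : Type*} [Group G] [Finite G] {p e X : ℕ} {x : G} {T : Finset (IrrCharacter G)}

theorem PD.vals [IsSimpleGroup G] (h : PD p e X x T) (hna : ¬ IsMulCommutative G) {N : ℕ}
    (hG : Nat.card G = N) (hN : N ≤ 96000 ∧ 11 ∣ N) {D : List ℕ}
    (hD : T.val.map (fun χ => deg χ.1) = (D : Multiset ℕ)) {s : G} (hs : orderOf s = 2)
    {P : ℕ → Bool} (hP : P (cc s) = true) {vf : ℕ → ℕ → ℤ → Bool}
    (hvf : ∀ χ ∈ T, vf (cc s) (deg χ.1) (iv χ.1 s) = true) {L : List (ℕ × List (ℕ × ℤ))}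
    (hB : allC N p e X D P vf L = true) :
    ∃ V ∈ L, cc s = V.1 ∧ T.val.map (fun χ => (deg χ.1, iv χ.1 s)) = (V.2 : Multiset (ℕ × ℤ)) := by
  subst hG
  obtain ⟨r, -, r2, r3⟩ := h.st2 s hs
  simp only [allC, List.all_eq_true, fN_eq, Bool.or_eq_true, Bool.not_eq_true', Bool.and_eq_true,
    beq_iff_eq] at hB
  have h1 := ((hB _ (mem_call hna hN.1 hN.2 hs)).resolve_left (by simp [hP]) r
    (by cases r <;> simp)).resolve_left fun e => by simpa [e.1] using r2 e.2
  obtain ⟨V, hV, h2⟩ := r3 D hD _ hvf _ h1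
  obtain ⟨W, hW, rfl⟩ := List.mem_map.1 hV
  exact ⟨W, (List.mem_filter.1 hW).1, (beq_iff_eq.1 (List.mem_filter.1 hW).2).symm, h2⟩

omit [Finite G] in
theorem mem_of_map {β : Type*} {f : IrrCharacter G → β} {l : List β}
    (h : T.val.map f = (l : Multiset β)) {b : β} : b ∈ l ↔ ∃ χ ∈ T, f χ = b := by
  rw [← Multiset.mem_coe, ← h, Multiset.mem_map]
  rfl

omit [Finite G] in
theorem sum_of_map {β M : Type*} [AddCommMonoid M] {f : IrrCharacter G → β} {l : List β}
    (h : T.val.map f = (l : Multiset β)) (F : β → M) : ∑ χ ∈ T, F (f χ) = (l.map F).sum := by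
  rw [← Multiset.sum_coe, ← Multiset.map_coe, ← h, Multiset.map_map]
  rfl

omit [Finite G] in
theorem PD.link (h : PD p e 1 x T) {D D' : List ℕ}
    (hD : T.val.map (fun χ => deg χ.1) = (D : Multiset ℕ)) {U : Finset (IrrCharacter G)}
    (hU : ∀ χ ∈ U, χ.1 ≠ 1) (hD' : U.val.map (fun χ => deg χ.1) = (D' : Multiset ℕ)) :
    ∀ d ∈ D', ¬ p ∣ d → d ∈ D := fun d hd hp => by
  obtain ⟨χ, h1, rfl⟩ := (mem_of_map hD').1 hd
  exact (mem_of_map hD).2 ⟨χ, h.mem rfl χ (hU χ h1) hp, rfl⟩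

/-- restriction to a subgroup on which the character is constant off the identity -/
theorem res_const {χ : G → ℂ} (hχ : IsCharacter G χ) (E : Subgroup G) {v : ℤ}
    (h : ∀ u ∈ E, u ≠ 1 → χ u = v) : ∃ m : ℕ, deg χ + (Nat.card E - 1 : ℤ) * v = Nat.card E * m := by
  classical
  have := Fintype.ofFinite E
  obtain ⟨m, hm⟩ := inner_char_char (char_restrict hχ E) (char_one' (G := E))
  have h0 := card_ne_zero' E
  refine ⟨m, ?_⟩
  simp only [classInner, Pi.one_apply, map_one, mul_one] at hm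
  rw [← add_sum_erase _ _ (mem_univ 1), sum_congr rfl fun (u : E) hu =>
    h u u.2 fun e => ne_of_mem_erase hu (Subtype.ext e), sum_const, card_erase_of_mem (mem_univ _),
    card_univ, inv_mul_eq_iff_eq_mul₀ h0, nsmul_eq_mul, Nat.cast_pred Fintype.card_pos,
    ← Nat.card_eq_fintype_card] at hm
  have h1 : ((deg χ + (Nat.card E - 1 : ℤ) * v : ℤ) : ℂ) = ((Nat.card E * m : ℤ) : ℂ) := by
    push_cast
    rw [← hm, ← char_deg hχ]
    rfl
  exact_mod_cast h1

variable [IsSimpleGroup G] (hG : Nat.card G = 7920)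
include hG

theorem data11 : (∀ y : G, orderOf y = 11 → cc y = 11) ∧ (∀ y : G, orderOf y = 5 → cc y = 5) ∧
    ¬ Rho G 33 ∧ ∃ T : Finset (IrrCharacter G), (∀ χ ∈ T, χ.1 ≠ 1) ∧ ∀ s : G, orderOf s = 2 →
      cc s = 48 ∧ T.val.map (fun χ => (deg χ.1, iv χ.1 s)) =
        ([(11, 3), (16, 0), (16, 0), (44, 4)] : List (ℕ × ℤ)) := by
  have hna := Wong.not_comm (G := G) (by rw [hG]; norm_num)
  obtain ⟨_, _, x, T, h1, e1⟩ := exists_surv hna hG (by norm_num) (by norm_num) k7920a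
  obtain ⟨_, _, y, U, h2, e2⟩ := exists_surv hna hG (by norm_num) (by norm_num) k7920b
  cases List.mem_singleton.1 e1
  cases List.mem_singleton.1 e2
  obtain ⟨D, d1, d2⟩ := h1.st1 [[5, 5, 10, 10, 12, 12], [10, 10, 10, 16, 16, 45]]
    (by rw [hG]; decide +kernel)
  obtain ⟨D', d3, d4⟩ := h2.st1 [[4, 4, 4, 11], [4, 4, 9, 16], [4, 6, 6, 9], [4, 9, 24, 36],
    [4, 11, 16, 24], [4, 11, 36, 44], [6, 6, 11, 24], [6, 9, 9, 11], [9, 16, 16, 24], [9, 16, 36, 44],
    [11, 16, 16, 44], [11, 24, 24, 36]] (by rw [hG]; decide +kernel)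
  have l1 := h1.link d2 h2.ne1 d4
  have l2 := h2.link d4 h1.ne1 d2
  obtain ⟨rfl, rfl⟩ : D = [10, 10, 10, 16, 16, 45] ∧ D' = [11, 16, 16, 44] := by
    clear d2 d4
    revert D D'
    decide
  have s11 : ¬ 11 * 11 ∣ Nat.card G := by rw [hG]; norm_num
  have s5 : ¬ 5 * 5 ∣ Nat.card G := by rw [hG]; norm_num
  refine ⟨fun y hy => (cc_eq_of_ord (by norm_num) s11 h1.ord hy).trans h1.ccx,
    fun y hy => (cc_eq_of_ord (by norm_num) s5 h2.ord hy).trans h2.ccx, ?_, U, h2.ne1, fun s hs => ?_⟩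
  · rintro ⟨χ, hχ, h3⟩
    have h4 : χ ≠ 1 := by rintro rfl; simp [deg_one] at h3
    have h5 := deg_sq_le hχ
    have h6 := irr_deg_pos hχ
    have h7 : ¬ 5 ∣ deg χ := fun e => by
      have := Nat.le_of_dvd h6 (Nat.Coprime.mul_dvd_of_dvd_of_dvd (by norm_num) h3 e)
      nlinarith
    have h8 := (mem_of_map d4).2 ⟨⟨χ, hχ⟩, h2.mem rfl _ h4 h7, rfl⟩
    simp only [List.mem_cons, List.not_mem_nil, or_false] at h8
    omega
  · have h3 : ¬ 5 ∣ cc s := fun e => by
      simpa using h2.two_dvd (by norm_num) (by norm_num) s5 hs e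
    have h4 : ¬ 11 ∣ cc s := fun e => by
      simpa using h1.two_dvd (by norm_num) (by norm_num) s11 hs e
    obtain ⟨V, h5, h6⟩ := h2.vals hna hG (by norm_num) d4 hs (P := fun c => c % 5 != 0 && c % 11 != 0)
      (by simpa [← Nat.dvd_iff_mod_eq_zero] using ⟨h3, h4⟩) (vf := fun _ _ _ => true) (fun _ _ => rfl)
      (L := [(48, [(11, 3), (16, 0), (16, 0), (44, 4)])]) (by decide +kernel)
    cases List.mem_singleton.1 h5
    exact h6

theorem one11 {s t : G} (hs : orderOf s = 2) (ht : orderOf t = 2) : IsConj s t := by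
  classical
  obtain ⟨-, -, -, T, -, h1⟩ := data11 hG
  have hp := perfect (Wong.not_comm (G := G) (by rw [hG]; norm_num))
  have ss := Block.mul_self_of_orderOf hs
  have tt := Block.mul_self_of_orderOf ht
  by_contra h
  have e1 := sum_iv hp ss ss
  have e2 := sum_iv hp tt tt
  have e3 := sum_iv hp tt ss
  rw [if_pos (IsConj.refl _), (h1 _ ‹_›).1] at e1 e2
  rw [if_neg h] at e3
  have h3 : ∀ s : G, orderOf s = 2 → ∀ χ ∈ T, iv χ.1 s = (deg χ.1 % 8 : ℕ) := fun s hs χ hχ => by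
    have := (mem_of_map (h1 s hs).2).2 ⟨χ, hχ, rfl⟩
    simp only [List.mem_cons, Prod.mk.injEq, List.not_mem_nil, or_false] at this
    omega
  have h2 := sum_of_map (h1 s hs).2 fun x => x.2 * x.2
  have e4 := sum_le_sum_of_subset_of_nonneg (f := fun χ : IrrCharacter G =>
    (iv χ.1 s + iv χ.1 t) * (iv χ.1 s + iv χ.1 t)) (subset_univ T) fun _ _ _ => mul_self_nonneg _
  rw [sum_congr rfl fun χ hχ => by rw [h3 t ht χ hχ, ← h3 s hs χ hχ, ← two_mul, mul_mul_mul_comm],
    ← mul_sum, h2, sum_congr rfl fun χ _ => show _ = iv χ.1 s * iv χ.1 s + iv χ.1 t * iv χ.1 t +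
      2 * (iv χ.1 t * iv χ.1 s) by ring, sum_add_distrib, sum_add_distrib, ← mul_sum, e1, e2,
    e3] at e4
  simp at e4

theorem not_eight11 {r : G} (hr : orderOf r = 3) : ¬ 8 ∣ cc r := fun h8 => by
  classical
  obtain ⟨h11, h5, -, T, -, h4⟩ := data11 hG
  obtain ⟨s, hs, -⟩ := exists_two_central (G := G) (by rw [hG]; norm_num)
  have r3 : r ^ 3 = 1 := hr ▸ pow_orderOf_eq_one r
  have h1 : ∀ χ : IrrCharacter G, deg χ.1 = 16 → ∀ m : ℕ, m ∣ 16 → m ∣ cc r →
      ((m * m : ℕ) : ℝ) ≤ Complex.normSq (χ.1 r) := fun χ h m hm h8 => by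
    obtain ⟨n, h0, hn⟩ := normSq3 (irr_isCharacter χ.2) r3 (irr_deg χ.2) (by omega)
    obtain ⟨j, hj⟩ := hm
    have m0 : (m : ℂ) ≠ 0 := by rintro e; rw [Nat.cast_eq_zero.1 e] at hj; omega
    have j0 : (j : ℂ) ≠ 0 := by rintro e; rw [Nat.cast_eq_zero.1 e] at hj; omega
    have h2 : ∀ g : G, cc g = cc r → IsIntegral ℤ (495 * χ.1 g / m) := fun g hg => by
      have hi := (centralizer ({g} : Set G)).card_mul_index
      change cc g * _ = _ at hi
      obtain ⟨k, hk⟩ := h8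
      rw [hg, hk, hG, show 7920 = 16 * 495 from rfl, hj, mul_assoc, mul_assoc] at hi
      have h3 : (k * (centralizer ({g} : Set G)).index : ℂ) = j * 495 := by
        exact_mod_cast Nat.eq_of_mul_eq_mul_left (Nat.pos_of_ne_zero (Nat.cast_ne_zero.1 m0)) hi
      have := (isIntegral_natCast k).mul (irr_isIntegral_centralChar χ.2 g)
      rwa [irr_deg χ.2, h, mul_div_assoc', ← mul_assoc, h3, hj, show j * 495 * χ.1 g / (m * j : ℕ) =
        495 * χ.1 g / m by push_cast; field_simp] at this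
    have h3 := (h2 r rfl).mul (h2 r⁻¹ (by
      rw [cc, cc, ← Wong.centralizer_zpowers, zpowers_inv, Wong.centralizer_zpowers]))
    rw [char_apply_inv (irr_isCharacter χ.2)] at h3
    have h5 := int_dvd_of_isIntegral_div (a := 495 * 495 * n) (b := m * m)
      (Nat.pos_of_ne_zero (by simpa using m0))
      (by rwa [div_mul_div_comm, mul_mul_mul_comm, hn, show (495 * 495 * n / (m * m) : ℂ) =
        (495 * 495 * n : ℕ) / (m * m : ℕ) by push_cast; ring] at h3)
    rw [Complex.mul_conj] at hn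
    rw [show Complex.normSq (χ.1 r) = n by exact_mod_cast hn]
    have h6 : m.Coprime 495 := Nat.Coprime.coprime_dvd_left ⟨j, hj⟩ (by norm_num)
    exact_mod_cast Nat.le_of_dvd (by omega) (Nat.Coprime.dvd_of_dvd_mul_left
      (Nat.Coprime.mul_left (h6.mul_right h6) (h6.mul_right h6)) h5)
  have h2 := sum_irr_mul_conj r r
  simp only [if_pos (IsConj.refl r), Complex.mul_conj] at h2
  have h3 : ∑ χ : IrrCharacter G, Complex.normSq (χ.1 r) = cc r := by exact_mod_cast h2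
  have h9 : #{χ ∈ T | deg χ.1 = 16} = 2 := by
    rw [card_filter]
    exact sum_of_map (h4 s hs).2 fun x => if x.1 = 16 then 1 else 0
  have h6 : ∀ m, m ∣ 16 → m ∣ cc r → 2 * (m * m) ≤ cc r := fun m h h' => by
    have h5 := (card_nsmul_le_sum _ _ _ fun χ hχ => h1 χ (mem_filter.1 hχ).2 m h h').trans
      (sum_le_sum_of_subset_of_nonneg (subset_univ {χ ∈ T | deg χ.1 = 16})
        fun _ _ _ => Complex.normSq_nonneg _)
    rw [h9, h3, nsmul_eq_mul] at h5
    exact_mod_cast h5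
  have h10 : ∀ q : ℕ, q.Prime → (∀ y : G, orderOf y = q → cc y = q) → ¬ 3 ∣ q → (cc r).Coprime q :=
    fun q hq h h' => Nat.Coprime.symm <| hq.coprime_iff_not_dvd.2 fun e => by
      obtain ⟨y, hy, e⟩ := exists_of_prime_dvd_cc hq e
      have := orderOf_dvd_cc e.symm
      rw [hr, h y hy] at this
      exact h' this
  have h7 : cc r ∣ 144 := Nat.Coprime.dvd_of_dvd_mul_left (m := 11 * 5)
    ((h10 11 (by norm_num) h11 (by norm_num)).mul_right (h10 5 (by norm_num) h5 (by norm_num)))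
    (hG ▸ cc_dvd r :)
  have h12 := h6 8 (by norm_num) h8
  have h13 := h6 16 (by norm_num)
  obtain ⟨k, hk⟩ := h7
  have h9 : cc r = 144 := by rcases k with _ | _ | k <;> nlinarith
  omega

theorem m11 : Nonempty (G ≃* Mx) := by
  classical
  have := Fact.mk Nat.prime_two
  obtain ⟨-, -, -, T, -, hT⟩ := data11 hG
  have hc := fun s hs => (hT s hs).1
  obtain ⟨P⟩ : Nonempty (Sylow 2 G) := inferInstance
  obtain ⟨z, hzP, hz, hP⟩ := M11.exists_central_involution (k := 3)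
    (card_sylow_eq P 4 495 hG (by norm_num))
  obtain ⟨g, h1, h2⟩ := Block.exists_conj_ne_of_simple (by omega) P hz hzP
  have z1 := ne_one_of_orderOf_eq_prime Nat.prime_two hz
  have zz := Block.mul_self_of_orderOf hz
  have one : ∀ t : G, t ≠ 1 → t * t = 1 → IsConj z t := fun t h1 h2 =>
    one11 hG hz (orderOf_eq_prime (by rwa [pow_two]) h1)
  have mC : ∀ {g x : G}, g ∈ centralizer {x} ↔ Commute g x := mem_centralizer_singleton_iff
  set C := centralizer ({z} : Set G) with hC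
  have uu : g * z * g⁻¹ * (g * z * g⁻¹) = 1 := by rw [conj_mul, zz, mul_one, mul_inv_cancel]
  rcases s48 (G := C) (z := ⟨z, mC.2 rfl⟩) (hc z hz) ((orderOf_mk _ _).trans hz)
    (fun g => Subtype.ext (mC.1 g.2)) (fun r hr h => not_eight11 hG ((orderOf_coe r).trans hr)
      (h.trans ((FT.card_centralizer_coe r).dvd.trans (card_dvd_of_le inf_le_right))))
    with ⟨u, r, hu, hr, h3, h4⟩ | ⟨h3, h4⟩ | ⟨s, h3, h4, h5, h6⟩
  · have h5 : ∀ u : C, Commute u r → u * r * u⁻¹ ≠ r⁻¹ := fun u h e =>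
      ne_inv3 hr (by rw [← e, h.eq, mul_inv_cancel_right])
    exact Wong.Loc.m11 (z := z) (u := u) (r := r) ⟨z1, zz, fun e => h5 u (by
      rw [show u = 1 from Subtype.ext e]; exact Commute.one_left r) h3, fun e => h5 u
      (Subtype.ext (e ▸ (mC.1 r.2).symm :)) h3, congrArg Subtype.val hu, (mC.1 u.2).symm, hc z hz,
      one, (orderOf_coe r).trans hr, (mC.1 r.2).symm, congrArg Subtype.val h3,
      (FT.card_centralizer_coe r).symm.trans_le h4⟩ hG
  · obtain ⟨a, b, aa, bb, a1, az, b1, bz, ba, bza⟩ := h4 ⟨_, mC.2 (hP _ h1)⟩ (Subtype.ext uu)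
      (fun e => z1 (by simpa using congrArg Subtype.val e)) fun e => h2 (congrArg Subtype.val e)
    have h5 : ∀ {v w : G}, v ∈ C → w ∈ C → v * v = 1 → w * w = 1 → Commute v w :=
      fun h h' e e' => congrArg Subtype.val (h3 ⟨_, h⟩ ⟨_, h'⟩ (Subtype.ext e) (Subtype.ext e'))
    let E : Subgroup G :=
      { carrier := {v | v ∈ C ∧ v * v = 1}
        mul_mem' := fun {v w} h h' => ⟨mul_mem h.1 h'.1, by
          rw [(h5 h'.1 h.1 h'.2 h.2).mul_mul_mul_comm, h.2, h'.2, one_mul]⟩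
        one_mem' := ⟨one_mem _, one_mul 1⟩
        inv_mem' := fun h => ⟨inv_mem h.1, by rw [← mul_inv_rev, h.2, inv_one]⟩ }
    have h9 : Nat.card E ∣ 48 := hc z hz ▸ card_dvd_of_le fun v h => h.1
    have h10 : 5 ≤ Nat.card E := by
      have := Set.ncard_le_ncard (s := Subtype.val '' ({1, ⟨z, mC.2 rfl⟩, a, ⟨z, mC.2 rfl⟩ * a, b} :
        Set C)) (t := E) (by
          have ha : (a : G) ∈ E := ⟨a.2, congrArg Subtype.val aa⟩
          have hz : z ∈ E := ⟨mC.2 rfl, zz⟩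
          rintro _ ⟨_, rfl | rfl | rfl | rfl | rfl, rfl⟩
          exacts [E.one_mem, hz, ha, E.mul_mem hz ha, ⟨Subtype.prop _, congrArg Subtype.val bb⟩])
      have z1' : (⟨z, mC.2 rfl⟩ : C) ≠ 1 := fun e => z1 (congrArg Subtype.val e)
      have za : (⟨z, mC.2 rfl⟩ : C) * a ≠ 1 := fun e => az (by
        rw [← inv_eq_of_mul_eq_one_left e, inv_eq_of_mul_eq_one_right aa])
      rwa [Set.ncard_image_of_injective _ Subtype.val_injective, Set.ncard_insert_of_notMem
        (by simp [z1'.symm, a1.symm, za.symm, b1.symm]), Set.ncard_insert_of_notMem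
        (by simp [az.symm, a1, bz.symm]), Set.ncard_insert_of_notMem (by simp [z1', ba.symm]),
        Set.ncard_pair bza.symm] at this
    have h11 := Nat.le_of_dvd (by norm_num) h9
    have key : ∀ d v, (d, v) ∈ ([(11, 3), (16, 0), (16, 0), (44, 4)] : List (ℕ × ℤ)) →
        ∃ m : ℕ, d + (Nat.card E - 1 : ℤ) * v = Nat.card E * m := fun d v h => by
      obtain ⟨χ, -, h6⟩ := (mem_of_map (hT z hz).2).1 h
      cases h6
      exact res_const (irr_isCharacter χ.2) E fun u hu u1 => by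
        rw [← classFun_of_isConj (irr_isClassFunction χ.2) (one u u1 hu.2)]
        exact (iv_spec (perfect (Wong.not_comm (by rw [hG]; norm_num))) χ.2 zz).1
    obtain ⟨m, hm⟩ := key 11 3 (by simp)
    obtain ⟨n, hn⟩ := key 44 4 (by simp)
    have h6 := card_inf_centralizer_mul (normalizer (E : Set G)) z
    have h7 : {w | ∃ r ∈ normalizer (E : Set G), r * z * r⁻¹ = w} = (E : Set G) \ {1} := by
      ext w
      refine ⟨?_, fun ⟨h, h'⟩ => ?_⟩
      · rintro ⟨r, h, rfl⟩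
        exact ⟨conj_mem_of_mem_normalizer h ⟨mC.2 rfl, zz⟩, by simpa using z1⟩
      · obtain ⟨r, rfl⟩ := isConj_iff.1 (one w h' h.2)
        refine ⟨r, inv_mem_iff.1 (mem_normalizer_of_conj_mem fun v hv => ⟨mC.2 ?_, ?_⟩), rfl⟩
        · simpa [mul_assoc] using (h5 hv.1 h.1 hv.2 h.2).map (MulAut.conj r⁻¹)
        · rw [conj_mul, hv.2, mul_one, mul_inv_cancel]
    rw [h7, Set.ncard_sdiff_singleton_of_mem E.one_mem, ← Nat.card_coe_set_eq] at h6
    have h8 := (Dvd.intro_left _ h6).trans (card_subgroup_dvd_card _)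
    rw [hG] at h8
    exfalso
    interval_cases Nat.card E <;> omega
  have h7 : ∀ s' : G, Commute s' z → s' ^ 4 = 1 → s' * s' = 1 ∨ s' * s' = s * s := fun s' h h' =>
    (h5 ⟨s', mC.2 h⟩ (Subtype.ext h')).imp (congrArg Subtype.val) (congrArg Subtype.val)
  have h8 : ∀ h : G, (h * s * h⁻¹) ^ 4 = 1 := fun h => by
    rw [conj_pow, show (s : G) ^ 4 = 1 from congrArg Subtype.val h3, mul_one, mul_inv_cancel]
  exfalso
  rcases h6 with ⟨h6, h9⟩ | ⟨t, h6, tt, t1, h9⟩
  · have h9 : (s : G) * s = z := congrArg Subtype.val h9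
    have h10 : Commute (g⁻¹ * z * g) s := congrArg Subtype.val (h6 ⟨_, mC.2 (by
      simpa [mul_assoc] using (show Commute z _ from (hP _ h1).symm).map (MulAut.conj g⁻¹))⟩)
    have := h7 _ (by simpa [mul_assoc] using h10.symm.map (MulAut.conj g)) (h8 g)
    rw [conj_mul, h9] at this
    exact this.elim (by simpa using z1) h2
  · have h10 : (s : G) * s ≠ 1 := fun e => h4 (Subtype.ext e)
    have t1' : (t : G) ≠ 1 := fun e => t1 (Subtype.ext e)
    have tt' : (t : G) * t = 1 := congrArg Subtype.val tt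
    obtain ⟨h, hh⟩ := isConj_iff.1 ((one _ h10 (by
      rw [← pow_two, ← pow_two, ← pow_mul]; exact congrArg Subtype.val h3)).symm.trans (one t t1' tt'))
    have h11 : C = centralizer {(t : G)} := eq_of_le_of_card_ge
      (fun x hx => mC.2 (congrArg Subtype.val (h6 ⟨x, hx⟩)))
      ((hc t (orderOf_eq_prime (by rwa [pow_two]) t1')).trans (hc z hz).symm).le
    have := h7 _ (mC.1 (h11.ge (mC.2 (by
      rw [← hh]; exact ((Commute.refl (s : G)).mul_right (Commute.refl _)).map (MulAut.conj h))))) (h8 h)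
    rw [conj_mul, hh] at this
    exact this.elim t1' fun e => h9 (Subtype.ext e)

end Cfsg.Agent.M12R
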