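import Cfsg.Agent.M11.Count

/-!
# Involution data of a simple group of order `95040`
-/

set_option autoImplicit false

namespace Cfsg.Agent.M12R

open Subgroup Cfsg.Agent.M11

/-- Two classes of involutions, with their multiplication counts. -/
structure H12 {G : Type*} [Group G] (z t : G) : Prop where
  card : Nat.card G = 95040
  z2 : orderOf z = 2
  t2 : orderOf t = 2
  cz : cc z = 192
  ct : cc t = 240
  cls : ∀ u : G, orderOf u = 2 → IsConj z u ∨ IsConj t u
  n1 : {a | IsConj t a ∧ IsConj t (a * z)}.ncard = 12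
  n2 : ∀ u, IsConj z u → ¬ IsConj t (u * z)
  n3 : {u | IsConj t u ∧ IsConj t (u * t)}.ncard = 20
  n4 : {u | IsConj t u ∧ IsConj z (u * t)}.ncard = 15
  c5 : ∀ x : G, orderOf x = 5 → cc x = 10
  noE : ∀ E : Subgroup G, Nat.card E = 16 → ¬ ∀ u ∈ E, u = 1 ∨ IsConj z u

end Cfsg.Agent.M12R
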