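import Cfsg.Agent.M12R.D12b
import Cfsg.Agent.M12R.H12

/-!
# Involutions and degrees of a simple group of order `95040`
-/

set_option autoImplicit false

namespace Cfsg.Agent.M12R

open Finset Subgroup Cfsg.Agent.Char Cfsg.Agent.Zass Cfsg.Agent.M11 Cfsg.Agent.Small Cfsg.Agent.Local
open scoped ComplexConjugate

variable {G : Type*} [Group G] [Finite G]

theorem rat_val {χ : G → ℂ} (hχ : IsIrrCharacter G χ) {y : G} (hy : orderOf y = 5)
    (h : ∀ i, 0 < i → i < 5 → IsConj y (y ^ i)) : ∃ k : ℤ, χ y = k ∧ (5 : ℤ) ∣ deg χ + 4 * k := by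
  obtain ⟨m, hm⟩ := char_param_mult (irr_isCharacter hχ) (fun i : ZMod 5 => y ^ i.val)
    (pow_val_add (hy ▸ pow_orderOf_eq_one y)) (fun _ => 1) (by simp)
  rw [← add_sum_erase _ _ (mem_univ 0), sum_congr rfl fun i hi => by
    rw [← classFun_of_isConj (irr_isClassFunction hχ) (h i.val (Nat.pos_of_ne_zero fun e =>
      ne_of_mem_erase hi ((ZMod.val_eq_zero i).1 e)) i.val_lt)], sum_const,
    show (univ.erase (0 : ZMod 5)).card = 4 from rfl, ZMod.val_zero, pow_zero, irr_deg hχ,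
    ZMod.card] at hm
  have h19 : χ y = ((5 * m - deg χ : ℤ) : ℂ) / (4 : ℤ) := by
    push_cast at hm ⊢
    linear_combination hm / 4
  obtain ⟨k, hk⟩ := FT.int_dvd_of_isIntegral (by norm_num) (h19 ▸ char_isIntegral (irr_isCharacter hχ) y)
  rw [hk, Int.cast_mul, mul_div_cancel_left₀ _ (by norm_num)] at h19
  exact ⟨k, h19, m, by omega⟩

theorem row_kv {k : ℕ} {v : ℤ} {m : ℕ} (h1 : 11 * k ∣ 95040) (h2 : k * k ≤ 77) (h3 : v * v ≤ 69)
    (h4 : ((11 * k : ℕ) : ℤ) + ((16 : ℕ) - 1 : ℤ) * v = (16 : ℕ) * m) :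
    0 ≤ k * v ∧ (3 ∣ k * v ∨ 35 ≤ k * v) := by
  have h5 : k ≤ 8 := by nlinarith
  have h6 : v ≤ 8 := by nlinarith
  have h7 : -8 ≤ v := by nlinarith
  interval_cases k <;> omega

theorem exists_H12 [IsSimpleGroup G] (hG : Nat.card G = 95040) :
    (∃ z t : G, H12 z t) ∧ Rho G 33 ∧ Rho G 55 := by
  classical
  have := Fintype.ofFinite G
  have hna := Wong.not_comm (G := G) (by rw [hG]; norm_num)
  have hp := perfect hna
  obtain ⟨c5, ⟨y, hy, yr⟩, ⟨t, ht, ct⟩, W, hW, h11, hv⟩ := data12 hG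
  obtain ⟨z, hz, hz'⟩ := exists_two_central (G := G) (by rw [hG]; norm_num)
  obtain ⟨cz, vz⟩ := (hv z hz).resolve_left fun h => hz' (by rw [hG, h.1]; norm_num)
  obtain ⟨-, vt⟩ := (hv t ht).resolve_right fun h => by omega
  have sq := fun {s : G} (hs : orderOf s = 2) => Block.mul_self_of_orderOf hs
  have hR : ∑ χ ∈ Wᶜ, (deg χ.1 : ℤ) * deg χ.1 = 9317 := by
    have h1 := sum_add_sum_compl W fun χ => deg χ.1 * deg χ.1
    rw [sum_deg, sum_of_map hW fun d => d * d, hG] at h1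
    exact_mod_cast (by simp [DW] at h1; omega : ∑ χ ∈ Wᶜ, deg χ.1 * deg χ.1 = 9317)
  have hd : ∀ {s : G} {f : ℕ → ℤ}, orderOf s = 2 → (∀ χ ∈ W, iv χ.1 s = f (deg χ.1)) →
      ∑ χ ∈ Wᶜ, deg χ.1 * iv χ.1 s = -(DW.map fun d : ℕ => d * f d).sum := fun {s f} hs h => by
    have h1 := sum_degree_mul (ne_one_of_orderOf_eq_prime Nat.prime_two hs)
    rw [sum_congr rfl fun χ _ => by rw [irr_deg χ.2, (iv_spec hp χ.2 (sq hs)).1]] at h1
    have h2 : ∑ χ : IrrCharacter G, deg χ.1 * iv χ.1 s = 0 := by exact_mod_cast h1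
    rw [← sum_add_sum_compl W, sum_congr rfl fun χ hχ => by rw [h χ hχ],
      sum_of_map hW fun d : ℕ => d * f d] at h2
    omega
  have hq : ∀ {s s' : G} {f f' : ℕ → ℤ}, orderOf s = 2 → orderOf s' = 2 →
      (∀ χ ∈ W, iv χ.1 s = f (deg χ.1)) → (∀ χ ∈ W, iv χ.1 s' = f' (deg χ.1)) →
      ∑ χ ∈ Wᶜ, iv χ.1 s * iv χ.1 s' = (if IsConj s' s then (cc s' : ℤ) else 0) -
        (DW.map fun d => f d * f' d).sum := fun {s s' f f'} hs hs' h h' => by
    rw [← sum_iv hp (sq hs) (sq hs'), ← sum_add_sum_compl W,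
      sum_congr rfl fun χ (hχ : χ ∈ W) => by rw [h χ hχ, h' χ hχ], sum_of_map hW fun d => f d * f' d]
    ring
  have hA : ∀ {s : G}, orderOf s = 2 → cc s = 240 → ∀ χ ∈ Wᶜ, 11 * iv χ.1 s + deg χ.1 = 0 :=
    fun {s} hs hc => by
      obtain ⟨-, h⟩ := (hv s hs).resolve_right fun h => by omega
      have h1 := hd hs h
      have h2 := hq hs hs h h
      rw [if_pos (IsConj.refl s), hc] at h2
      have h3 : ∑ χ ∈ Wᶜ, (11 * iv χ.1 s + deg χ.1) * (11 * iv χ.1 s + deg χ.1) = 0 := by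
        rw [sum_congr rfl fun χ _ => show _ = 121 * (iv χ.1 s * iv χ.1 s) +
          22 * (deg χ.1 * iv χ.1 s) + deg χ.1 * deg χ.1 by ring, sum_add_distrib, sum_add_distrib,
          ← mul_sum, ← mul_sum, h1, h2, hR]
        decide
      exact fun χ hχ => mul_self_eq_zero.1
        ((sum_eq_zero_iff_of_nonneg fun _ _ => mul_self_nonneg _).1 h3 χ hχ)
  have ztn : ¬ IsConj z t := fun h => by rw [cc_eq_of_isConj h] at cz; omega
  have qtt := hq ht ht vt vt
  have qzz := hq hz hz vz vz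
  have qtz := hq ht hz vt vz
  rw [if_pos (IsConj.refl _), ct] at qtt
  rw [if_pos (IsConj.refl _), cz] at qzz
  rw [if_neg ztn] at qtz
  have cls : ∀ u : G, orderOf u = 2 → IsConj z u ∨ IsConj t u := fun u hu => by
    refine (hv u hu).symm.imp (fun h => by_contra fun e => ?_) fun h => by_contra fun e => ?_
    · have h1 := hq hu hz h.2 vz
      have h2 := hq hu hu h.2 h.2
      rw [if_neg e] at h1
      rw [if_pos (IsConj.refl _), h.1] at h2
      have h3 : 0 ≤ ∑ χ ∈ Wᶜ, (iv χ.1 u + iv χ.1 z) * (iv χ.1 u + iv χ.1 z) :=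
        sum_nonneg fun _ _ => mul_self_nonneg _
      rw [sum_congr rfl fun χ _ => show _ = iv χ.1 u * iv χ.1 u + iv χ.1 z * iv χ.1 z +
        2 * (iv χ.1 u * iv χ.1 z) by ring, sum_add_distrib, sum_add_distrib, ← mul_sum, h1, h2,
        qzz] at h3
      exact absurd h3 (by decide)
    · have h1 := hq hu ht h.2 vt
      rw [if_neg e, sum_congr rfl fun χ hχ => by
        rw [show iv χ.1 u = iv χ.1 t by have := hA hu h.1 χ hχ; have := hA ht ct χ hχ; omega],
        qtt] at h1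
      exact absurd h1 (by decide)
  have cm : ∀ {a b c : G}, orderOf a = 2 → orderOf b = 2 → orderOf c = 2 →
      ({u | IsConj a u ∧ IsConj c (u * b)}.ncard : ℤ) * (cc a * cc c) =
        ∑ χ : IrrCharacter G, (95040 / deg χ.1 : ℕ) * (iv χ.1 a * iv χ.1 b * iv χ.1 c) :=
    fun {a b c} ha hb hc => by
      have h1 := card_classMul a b c
      rw [mul_sum, sum_congr rfl fun χ _ => show _ =
        (((95040 / deg χ.1 : ℕ) * (iv χ.1 a * iv χ.1 b * iv χ.1 c) : ℤ) : ℂ) by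
          have h4 : (deg χ.1 : ℂ) ≠ 0 := Nat.cast_ne_zero.2 (irr_deg_pos χ.2).ne'
          rw [irr_deg χ.2, (iv_spec hp χ.2 (sq ha)).1, (iv_spec hp χ.2 (sq hb)).1,
            (iv_spec hp χ.2 (sq hc)).1, map_intCast, Int.cast_mul, Int.cast_natCast, ← hG,
            Nat.cast_div (deg_dvd_card χ.2) h4]
          push_cast
          ring] at h1
      exact_mod_cast h1
  have sm : ∀ {a b : G} {f f' : ℕ → ℤ}, (∀ χ ∈ W, iv χ.1 a = f (deg χ.1)) →
      (∀ χ ∈ W, iv χ.1 b = f' (deg χ.1)) →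
      ∑ χ : IrrCharacter G, (95040 / deg χ.1 : ℕ) * (iv χ.1 a * iv χ.1 b * iv χ.1 t) =
        (DW.map fun d => (95040 / d : ℕ) * (f d * f' d * fA d)).sum -
          8640 * ∑ χ ∈ Wᶜ, iv χ.1 a * iv χ.1 b := fun {a b f f'} h h' => by
    rw [← sum_add_sum_compl W, sum_congr rfl fun χ (hχ : χ ∈ W) => by rw [h χ hχ, h' χ hχ, vt χ hχ],
      sum_of_map hW fun d => (95040 / d : ℕ) * (f d * f' d * fA d), mul_sum, sub_eq_add_neg,
      ← sum_neg_distrib]
    refine congrArg _ (sum_congr rfl fun χ hχ => ?_)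
    have h1 := hA ht ct χ hχ
    have h2 : ((95040 / deg χ.1 : ℕ) : ℤ) * deg χ.1 = 95040 := by
      exact_mod_cast Nat.div_mul_cancel (hG ▸ deg_dvd_card χ.2)
    have h3 : ((95040 / deg χ.1 : ℕ) : ℤ) * iv χ.1 t = -8640 := by nlinarith
    linear_combination iv χ.1 a * iv χ.1 b * h3
  refine ⟨⟨z, t, hG, hz, ht, cz, ct, cls, ?_, fun u h1 h2 => ?_, ?_, ?_, c5, fun E hE h => ?_⟩, ?_, ?_⟩
  · have := cm ht hz ht
    rw [sm vt vz, qtz, ct] at this
    simp [DW, fA, fB, -isConj_iff] at this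
    omega
  · have := cm hz hz ht
    rw [sm vz vz, qzz, ct, cz] at this
    simp [DW, fA, fB, Set.ncard_eq_zero (Set.toFinite _), Set.eq_empty_iff_forall_notMem,
      -isConj_iff] at this
    exact this u h1 h2
  · have := cm ht ht ht
    rw [sm vt vt, qtt, ct] at this
    simp [DW, fA, -isConj_iff] at this
    omega
  · have := cm ht ht hz
    rw [sum_congr rfl fun χ _ => by rw [mul_right_comm (iv χ.1 t)], sm vt vz, qtz, ct, cz] at this
    simp [DW, fA, fB, -isConj_iff] at this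
    omega
  · have h1 : ∀ χ ∈ Wᶜ, ∃ k : ℕ, deg χ.1 = 11 * k ∧ 0 ≤ k * iv χ.1 z ∧
        (3 ∣ k * iv χ.1 z ∨ 35 ≤ k * iv χ.1 z) := fun χ hχ => by
      obtain ⟨k, hk⟩ := h11 χ (mem_compl.1 hχ)
      obtain ⟨m, hm⟩ := res_const (irr_isCharacter χ.2) E (v := iv χ.1 z) fun u hu u1 => by
        rw [← classFun_of_isConj (irr_isClassFunction χ.2) ((h u hu).resolve_left u1)]
        exact (iv_spec hp χ.2 (sq hz)).1
      have h2 := single_le_sum (f := fun χ : IrrCharacter G => (deg χ.1 : ℤ) * deg χ.1)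
        (fun _ _ => mul_self_nonneg _) hχ
      have h3 := single_le_sum (f := fun χ : IrrCharacter G => iv χ.1 z * iv χ.1 z)
        (fun _ _ => mul_self_nonneg _) hχ
      simp only [hR, qzz, hk] at h2 h3
      rw [hE, hk] at hm
      exact ⟨k, hk, row_kv (hk ▸ hG ▸ deg_dvd_card χ.2) (by push_cast at h2; nlinarith)
        (h3.trans (by decide)) hm⟩
    have h2 := hd hz vz
    have h3 : (33 : ℤ) ∣ ∑ χ ∈ Wᶜ, deg χ.1 * iv χ.1 z := dvd_sum fun χ hχ => by
      have h4 := single_le_sum (f := fun χ : IrrCharacter G => deg χ.1 * iv χ.1 z) (fun χ hχ => by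
        obtain ⟨k, e, h, -⟩ := h1 χ hχ
        simp only [e]
        push_cast
        linarith) hχ
      obtain ⟨k, e, -, h5⟩ := h1 χ hχ
      simp only [h2, e] at h4 ⊢
      simp [DW, fB] at h4
      push_cast
      rw [mul_assoc] at h4 ⊢
      omega
    rw [h2] at h3
    exact absurd h3 (by decide)
  · obtain ⟨χ, -, h⟩ := (mem_of_map hW (b := 66)).1 (by decide)
    exact ⟨χ.1, χ.2, by omega⟩
  by_contra h55
  choose k hk hk5 using fun χ : IrrCharacter G => rat_val χ.2 hy yr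
  have h1 := sum_irr_mul_conj y y
  simp only [if_pos (IsConj.refl y), hk, map_intCast] at h1
  have h2 : ∑ χ, k χ * k χ = cc y := by exact_mod_cast h1
  have h3 : ∀ χ : IrrCharacter G, (if 5 ∣ deg χ.1 then 0 else 1) ≤ k χ * k χ := fun χ => by
    have := hk5 χ
    split_ifs with h
    · exact mul_self_nonneg _
    · exact Int.add_one_le_of_lt (mul_self_pos.2 (by omega))
  have h4 := sum_le_sum fun χ (_ : χ ∈ univ) => h3 χ
  rw [h2, c5 y hy, ← sum_add_sum_compl W, sum_of_map hW fun d => if 5 ∣ d then (0 : ℤ) else 1,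
    sum_congr rfl fun χ (hχ : χ ∈ Wᶜ) => if_neg fun e => h55 ⟨χ.1, χ.2,
      Nat.Coprime.mul_dvd_of_dvd_of_dvd (by norm_num) e (h11 χ (mem_compl.1 hχ))⟩] at h4
  have h5 : #Wᶜ ≤ 2 := by
    simp [DW] at h4
    omega
  have h6 : ∀ a b : ℕ, 11 ∣ a → 11 ∣ b → (a : ℤ) * a + b * b ≠ 9317 := by
    rintro _ _ ⟨a, rfl⟩ ⟨b, rfl⟩ h
    push_cast at h
    have h7 : a ≤ 8 := by nlinarith
    have h8 : b ≤ 8 := by nlinarith
    interval_cases a <;> interval_cases b <;> omega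
  have h7 : ∀ χ ∈ Wᶜ, 11 ∣ deg χ.1 := fun χ hχ => h11 χ (mem_compl.1 hχ)
  generalize Wᶜ = R at hR h5 h7
  interval_cases h8 : #R
  · rw [card_eq_zero.1 h8] at hR
    simp at hR
  · obtain ⟨a, rfl⟩ := card_eq_one.1 h8
    exact h6 _ 0 (h7 a (by simp)) (by simp) (by simpa using hR)
  · obtain ⟨a, b, h9, rfl⟩ := card_eq_two.1 h8
    exact h6 _ _ (h7 a (by simp)) (h7 b (by simp)) (by rwa [sum_pair h9] at hR)

end Cfsg.Agent.M12R
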