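import Cfsg.Agent.M12R.D11

/-!
# Character values of a simple group of order `95040`: the searches
-/

set_option autoImplicit false

namespace Cfsg.Agent.M12R

def L11 : List (List ℕ) := [[5, 5, 10, 10, 12, 12], [5, 5, 10, 10, 120, 144], [5, 5, 12, 12, 12, 32],
  [5, 5, 12, 32, 120, 144], [5, 5, 32, 45, 45, 54], [5, 5, 32, 54, 54, 144], [6, 6, 10, 10, 32, 45],
  [6, 6, 10, 12, 45, 54], [6, 6, 12, 32, 32, 45], [10, 10, 10, 16, 16, 45], [10, 12, 12, 12, 27, 27],
  [10, 12, 12, 45, 60, 60], [10, 12, 16, 16, 32, 45], [10, 12, 27, 27, 120, 144],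
  [10, 12, 45, 72, 72, 120], [10, 27, 27, 45, 45, 54], [10, 27, 27, 54, 54, 144],
  [10, 45, 54, 54, 72, 72], [10, 45, 60, 60, 120, 144], [12, 12, 16, 16, 45, 54],
  [16, 16, 45, 45, 45, 120], [16, 16, 45, 54, 120, 144], [27, 27, 32, 32, 45, 45],
  [27, 27, 32, 32, 54, 144], [32, 32, 45, 54, 72, 72], [32, 45, 54, 120, 160, 160]]

def L5 : List (List ℕ) := [[11, 16, 16, 44], [11, 24, 24, 36], [11, 24, 54, 66], [11, 36, 96, 144],
  [11, 44, 144, 176], [11, 54, 54, 96], [11, 66, 66, 144], [16, 16, 66, 99], [24, 54, 99, 176],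
  [66, 99, 144, 176]]

def V1 : List (ℕ × ℤ) := [(11, -9), (44, -16), (144, 24), (176, 16)]
def V2 : List (ℕ × ℤ) := [(11, -9), (24, -16), (54, -6), (66, -14)]
def V3 : List (ℕ × ℤ) := [(66, 6), (99, -1), (144, 4), (176, -4)]
def V4 : List (ℕ × ℤ) := [(66, 2), (99, 3), (144, 0), (176, 0)]
def VA : List (ℕ × ℤ) := [(16, 4), (16, 4), (45, 5), (54, 6), (120, 0), (144, 4)]
def VB : List (ℕ × ℤ) := [(16, 0), (16, 0), (45, -3), (54, 6), (120, -8), (144, 0)]
def VC : List (ℕ × ℤ) := [(16, -8), (16, -8), (45, -15), (54, 18), (120, 0), (144, 24)]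

theorem c11 : B1 95040 11 5 1 L11 = false := by decide +kernel

theorem c5a : B1 95040 5 4 12 L5 = false := by decide +kernel

theorem c5b : B1 95040 5 4 2 L5 = false := by decide +kernel

theorem c5c : (L5.all fun D => allC 95040 5 4 12 D (fun c => c % 5 == 0 && c % 11 != 0)
    (fun _ _ _ => true) [(1440, V1)]) = true := by decide +kernel

theorem c5d : (L5.all fun D => allC 95040 5 4 2 D (fun c => c % 5 == 0 && c % 11 != 0)
    (fun _ _ _ => true) [(1440, V1), (960, V2), (80, V3), (120, V3), (240, V3)]) = true := by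
  decide +kernel

theorem c11a : (L11.all fun D => !D.contains 24 && (!D.contains 144 || (Nat.ble (D.count 144) 1 &&
    allC 95040 11 5 1 D (fun c => [80, 120, 240, 1440].contains c)
    (fun c d v => d != 144 || v == if c = 1440 then 24 else 4) [(120, VA), (240, VA), (1440, VC)]))) =
    true := by decide +kernel

theorem c11b : allC 95040 11 5 1 [16, 16, 45, 54, 120, 144] (fun c => c % 5 != 0 && c % 11 != 0)
    (fun _ _ _ => true) [(192, VB)] = true := by decide +kernel

theorem c5e : allC 95040 5 4 2 [66, 99, 144, 176] (fun c => c == 192)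
    (fun _ _ _ => true) [(192, V4)] = true := by decide +kernel

end Cfsg.Agent.M12R
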