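import Cfsg.Agent.M12R.D12a

/-!
# Character values of a simple group of order `95040`
-/

set_option autoImplicit false

namespace Cfsg.Agent.M12R

open Finset Subgroup Cfsg.Agent.Char Cfsg.Agent.Zass Cfsg.Agent.M11 Cfsg.Agent.Small Cfsg.Agent.Local

variable {G : Type*} [Group G] [Finite G]

omit [Finite G] in
theorem uniq_of_count {T : Finset (IrrCharacter G)} {D : List ℕ}
    (hD : T.val.map (fun χ => deg χ.1) = (D : Multiset ℕ)) {d : ℕ} (h : D.count d ≤ 1)
    {χ χ' : IrrCharacter G} (hχ : χ ∈ T) (hχ' : χ' ∈ T) (e : deg χ.1 = d) (e' : deg χ'.1 = d) :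
    χ = χ' := by
  rw [← Multiset.coe_count, ← hD, Multiset.count_map] at h
  exact (card_le_one (s := T.filter fun a : IrrCharacter G => d = deg a.1)).1 h χ (mem_filter.2 ⟨hχ, e.symm⟩) χ'
    (mem_filter.2 ⟨hχ', e'.symm⟩)

omit [Finite G] in
theorem map_fst {T : Finset (IrrCharacter G)} {s : G} {V : List (ℕ × ℤ)}
    (h : T.val.map (fun χ => (deg χ.1, iv χ.1 s)) = (V : Multiset (ℕ × ℤ))) :
    T.val.map (fun χ => deg χ.1) = (V.map (·.1) : List ℕ) := by
  rw [← Multiset.map_coe, ← h, Multiset.map_map]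
  rfl

omit [Finite G] in
theorem map_union [DecidableEq (IrrCharacter G)] {β : Type*} {T U : Finset (IrrCharacter G)}
    (hT : ∀ χ ∈ T, χ.1 ≠ 1 ∧ ¬ 11 ∣ deg χ.1) (f : IrrCharacter G → β) (g : β → ℕ)
    (hg : ∀ χ, g (f χ) = deg χ.1) {A B : List β} (hA : T.val.map f = A) (hB : U.val.map f = B) :
    (insert ⟨1, irr_one⟩ (T ∪ U.filter fun χ => 11 ∣ deg χ.1)).val.map f =
      (f ⟨1, irr_one⟩ :: (A ++ B.filter fun b => 11 ∣ g b) : List β) := by
  have h1 : Disjoint T (U.filter fun χ => 11 ∣ deg χ.1) :=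
    disjoint_left.2 fun χ h h' => (hT χ h).2 (mem_filter.1 h').2
  rw [insert_val_of_notMem (by
      simp only [mem_union, mem_filter, deg_one, not_or]
      exact ⟨fun h => (hT _ h).1 rfl, by simp⟩), Multiset.map_cons, ← disjUnion_eq_union _ _ h1,
    ← Multiset.cons_coe, ← Multiset.coe_add, ← hA]
  congr 1
  rw [disjUnion_val, Multiset.map_add, filter_val, ← Multiset.filter_coe, ← hB, Multiset.filter_map]
  simp only [Function.comp_def, hg]

def fA (d : ℕ) : ℤ := if d = 1 then 1 else if d = 45 then 5 else if d = 54 then 6 else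
  if d = 120 then 0 else if d = 66 then 6 else if d = 99 then -1 else if d = 176 then -4 else 4

def fB (d : ℕ) : ℤ := if d = 1 then 1 else if d = 45 then -3 else if d = 54 then 6 else
  if d = 120 then -8 else if d = 66 then 2 else if d = 99 then 3 else 0

def DW : List ℕ := [1, 16, 16, 45, 54, 120, 144, 66, 99, 176]

theorem data12 [IsSimpleGroup G] (hG : Nat.card G = 95040) :
    (∀ y : G, orderOf y = 5 → cc y = 10) ∧
    (∃ y : G, orderOf y = 5 ∧ ∀ i, 0 < i → i < 5 → IsConj y (y ^ i)) ∧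
    (∃ t : G, orderOf t = 2 ∧ cc t = 240) ∧
    ∃ W : Finset (IrrCharacter G), W.val.map (fun χ => deg χ.1) = DW ∧ (∀ χ ∉ W, 11 ∣ deg χ.1) ∧
      ∀ s : G, orderOf s = 2 → (cc s = 240 ∧ ∀ χ ∈ W, iv χ.1 s = fA (deg χ.1)) ∨
        (cc s = 192 ∧ ∀ χ ∈ W, iv χ.1 s = fB (deg χ.1)) := by
  classical
  have hna := Wong.not_comm (G := G) (by rw [hG]; norm_num)
  obtain ⟨_, _, x, T, h1, e1⟩ := exists_surv hna hG (by norm_num) (by norm_num) k95040a
  obtain ⟨e, X, y, U, h2, e2⟩ := exists_surv hna hG (by norm_num) (by norm_num) k95040b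
  cases List.mem_singleton.1 e1
  obtain ⟨rfl, hX⟩ : e = 4 ∧ (X = 12 ∨ X = 2) := by
    simp only [List.mem_cons, Prod.mk.injEq, List.not_mem_nil, or_false] at e2
    omega
  obtain ⟨D, d1, d2⟩ := h1.st1 L11 (by rw [hG]; exact c11)
  obtain ⟨D', d3, d4⟩ := h2.st1 L5 (by rw [hG]; rcases hX with rfl | rfl; exacts [c5a, c5b])
  have s11 : ¬ 11 * 11 ∣ Nat.card G := by rw [hG]; norm_num
  have s5 : ¬ 5 * 5 ∣ Nat.card G := by rw [hG]; norm_num
  have n11 : ∀ s : G, orderOf s = 2 → ¬ 11 ∣ cc s := fun s hs e => by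
    simpa using h1.two_dvd (by norm_num) (by norm_num) s11 hs e
  have hT : ∀ χ ∈ T, χ.1 ≠ 1 ∧ ¬ 11 ∣ deg χ.1 := fun χ hχ => ⟨h1.ne1 χ hχ,
    (by decide : ∀ D ∈ L11, ∀ d ∈ D, ¬ 11 ∣ d) D d1 _ ((mem_of_map d2).2 ⟨χ, hχ, rfl⟩)⟩
  have hv1 : ∀ s : G, iv (1 : G → ℂ) s = 1 := fun s => iv_of_eq (by simp)
  have bd : ∀ s : G, orderOf s = 2 → ∀ A B : List (ℕ × ℤ),
      T.val.map (fun χ => (deg χ.1, iv χ.1 s)) = A → U.val.map (fun χ => (deg χ.1, iv χ.1 s)) = B →
      (((1, 1) :: (A ++ B.filter fun b => 11 ∣ b.1)).map fun b => b.2 * b.2).sum ≤ cc s :=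
    fun s hs A B hA hB => by
      have h3 := sum_of_map (map_union hT _ (·.1) (fun _ => rfl) hA hB) fun b => b.2 * b.2
      have ss := Block.mul_self_of_orderOf hs
      have h4 := sum_iv (perfect hna) ss ss
      rw [if_pos (IsConj.refl s)] at h4
      simp only [deg_one, hv1] at h3
      rw [← h3, ← h4]
      exact sum_le_sum_of_subset_of_nonneg (subset_univ _) fun _ _ _ => mul_self_nonneg _
  have key : ∀ s : G, orderOf s = 2 → 5 ∣ cc s → X = 2 ∧ cc s = 240 ∧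
      T.val.map (fun χ => (deg χ.1, iv χ.1 s)) = VA ∧ U.val.map (fun χ => (deg χ.1, iv χ.1 s)) = V3 :=
    fun s hs h5 => by
      have hP : (cc s % 5 == 0 && cc s % 11 != 0) = true := by
        simpa [← Nat.dvd_iff_mod_eq_zero] using ⟨h5, n11 s hs⟩
      obtain ⟨V, v1, v2, v3⟩ : ∃ V ∈ [(1440, V1), (960, V2), (80, V3), (120, V3), (240, V3)],
          (cc s = V.1 ∧ U.val.map (fun χ => (deg χ.1, iv χ.1 s)) = (V.2 : Multiset (ℕ × ℤ))) ∧
            (X = 2 ∨ V.1 = 1440) := by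
        rcases hX with rfl | rfl
        · obtain ⟨V, v1, v2⟩ := h2.vals hna hG (by norm_num) d4 hs hP (fun _ _ => rfl)
            (List.all_eq_true.1 c5c D' d3)
          cases List.mem_singleton.1 v1
          exact ⟨_, by simp, v2, Or.inr rfl⟩
        · obtain ⟨V, v1, v2⟩ := h2.vals hna hG (by norm_num) d4 hs hP (fun _ _ => rfl)
            (List.all_eq_true.1 c5d D' d3)
          exact ⟨V, v1, v2, Or.inl rfl⟩
      have h6 := List.all_eq_true.1 c11a D d1
      simp only [Bool.and_eq_true, Bool.not_eq_true', Bool.or_eq_true, Nat.ble_eq,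
        List.contains_eq_mem, decide_eq_false_iff_not] at h6
      have h7 : ∀ d v, (d, v) ∈ V.2 → ¬ 11 ∣ d → ∃ χ ∈ T, deg χ.1 = d ∧ iv χ.1 s = v :=
        fun d v h h' => by
          obtain ⟨χ, h8, h9⟩ := (mem_of_map v2.2).1 h
          cases h9
          exact ⟨χ, h1.mem rfl χ (h2.ne1 χ h8) h', rfl, rfl⟩
      have h8 : V ≠ (960, V2) := by
        rintro rfl
        obtain ⟨χ, h8, h9, -⟩ := h7 24 (-16) (by decide) (by decide)
        exact h6.1 ((mem_of_map d2).2 ⟨χ, h8, h9⟩)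
      have h9 : (144, if V.1 = 1440 then 24 else 4) ∈ V.2 ∧ V.1 ∈ [80, 120, 240, 1440] := by
        clear v2 v3 h7
        revert V
        decide
      obtain ⟨χ, h10, h11, h12⟩ := h7 _ _ h9.1 (by decide)
      obtain ⟨h13, h14⟩ := h6.2.resolve_left (not_not.2 ((mem_of_map d2).2 ⟨χ, h10, h11⟩))
      obtain ⟨W, w1, w2, w3⟩ := h1.vals hna hG (by norm_num) d2 hs (by simpa [v2.1] using h9.2)
        (fun χ' h => by
          simp only [Bool.or_eq_true, bne_iff_ne, beq_iff_eq]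
          exact or_iff_not_imp_left.2 fun e => by
            rw [uniq_of_count d2 h13 h h10 (not_ne_iff.1 e) h11, h12, v2.1]) h14
      have h15 := bd s hs _ _ w3 v2.2
      have h16 := w2.symm.trans v2.1
      rw [w2] at h15
      obtain ⟨rfl, rfl⟩ : W = (240, VA) ∧ V = (240, V3) := by
        clear w3 w2 v2 h7 h12 v3 h9
        revert V W
        decide
      exact ⟨v3.resolve_right (by decide), w2, w3, v2.2⟩
  obtain ⟨t, ht, t5⟩ := h2.exists_comm (by omega)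
  obtain ⟨rfl, k1, k2, k3⟩ := key t ht t5
  have d5 := map_fst k2
  have d6 := map_fst k3
  refine ⟨fun y hy => (cc_eq_of_ord (by norm_num) s5 h2.ord hy).trans h2.ccx,
    ⟨y, h2.ord, h2.rat rfl⟩, ⟨t, ht, k1⟩, insert ⟨1, irr_one⟩ (T ∪ U.filter fun χ => 11 ∣ deg χ.1),
    ?_, fun χ hχ => ?_, fun s hs => ?_⟩
  · rw [map_union hT (fun χ => deg χ.1) id (fun _ => rfl) d5 d6, deg_one]
    rfl
  · simp only [mem_insert, mem_union, not_or] at hχ
    exact by_contra fun e => hχ.2.1 (h1.mem rfl χ (fun e' => hχ.1 (Subtype.ext e')) e)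
  have fin : ∀ (f : ℕ → ℤ) (A B : List (ℕ × ℤ)), T.val.map (fun χ => (deg χ.1, iv χ.1 s)) = A →
      U.val.map (fun χ => (deg χ.1, iv χ.1 s)) = B → (∀ b ∈ (1, 1) :: (A ++ B), b.2 = f b.1) →
      ∀ χ ∈ insert ⟨1, irr_one⟩ (T ∪ U.filter fun χ => 11 ∣ deg χ.1), iv χ.1 s = f (deg χ.1) :=
    fun f A B hA hB h χ hχ => by
      simp only [mem_insert, mem_union, mem_filter] at hχ
      rcases hχ with rfl | hχ | hχ
      · simpa [hv1, deg_one] using h (1, 1) (by simp)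
      · exact h (deg χ.1, iv χ.1 s) (List.mem_cons_of_mem _
          (List.mem_append_left _ ((mem_of_map hA).2 ⟨χ, hχ, rfl⟩)))
      · exact h (deg χ.1, iv χ.1 s) (List.mem_cons_of_mem _
          (List.mem_append_right _ ((mem_of_map hB).2 ⟨χ, hχ.1, rfl⟩)))
  by_cases h5 : 5 ∣ cc s
  · obtain ⟨-, k4, k5, k6⟩ := key s hs h5
    exact Or.inl ⟨k4, fin fA _ _ k5 k6 (by decide)⟩
  obtain ⟨V, v1, v2, v3⟩ := h1.vals hna hG (by norm_num) d5 hs
    (by simpa [← Nat.dvd_iff_mod_eq_zero] using ⟨h5, n11 s hs⟩) (fun _ _ => rfl) c11b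
  cases List.mem_singleton.1 v1
  obtain ⟨W, w1, -, w3⟩ := h2.vals hna hG (by norm_num) d6 hs (by simp [v2]) (fun _ _ => rfl) c5e
  cases List.mem_singleton.1 w1
  exact Or.inr ⟨v2, fin fB _ _ v3 w3 (by decide)⟩

end Cfsg.Agent.M12R
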