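import Cfsg.Agent.M12R.B0

/-!
# Simple groups whose order divides `95040`
-/

set_option autoImplicit false

namespace Cfsg.Agent.M12R

open Subgroup Cfsg.Agent.Char Cfsg.Agent.Zass Cfsg.Agent.M11 Cfsg.Agent.Small Cfsg.Agent.Local

def dvs (N : ℕ) : List ℕ := (List.range 310).flatMap fun d => if N % d == 0 then [d, N / d] else []

theorem mem_dvs {N d : ℕ} (h0 : 0 < N) (hN : N ≤ 96000) (hd : d ∣ N) : d ∈ dvs N := by
  obtain ⟨k, rfl⟩ := hd
  simp only [dvs, List.mem_flatMap, List.mem_range]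
  by_cases h : d < 310
  · exact ⟨d, h, by simp⟩
  · have hk : 0 < k := Nat.pos_of_mul_pos_left h0
    exact ⟨k, by nlinarith, by simp [hk]⟩

def call (N : ℕ) : List ℕ := (dvs N).filter fun c => c % 4 == 0 && Nat.ble 11 (N / c)

def cands (N p : ℕ) : List (ℕ × ℕ) := (dvs N).flatMap fun n =>
  if n % p == 1 && Nat.ble 11 n then ((List.range p).filter fun e =>
    Nat.ble 2 e && ((p - 1) % e == 0 && N % (p * e * n) == 0)).map fun e => (e, N / (p * e * n)) else []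

def cs (N p e X mode : ℕ) : List (ℕ × Bool) :=
  ((call N).filter fun c => if mode = 1 then c % p == 0 else
    (X % 2 == 0 || c % p != 0) && (mode == 2 || N / c % 2 == 1)).flatMap fun c =>
      (if mode = 2 then [] else [(c, false)]) ++ if e % 2 = 1 then [] else [(c, true)]

def kill (N p : ℕ) (t : ℕ × ℕ × ℕ × List (List ℕ)) : Bool :=
  (t.2.2.1 != 1 || t.2.1 % 2 == 0) && ((t.2.2.1 != 2 || (t.2.1 % 2 == 1 && t.1 % 2 == 0)) &&
    (!B1 N p t.1 t.2.1 t.2.2.2 && t.2.2.2.all fun D => (cs N p t.1 t.2.1 t.2.2.1).all fun c =>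
      fN c.1 fun c1 => !B2 N p t.1 t.2.1 c1 c.2 D (fun _ _ => true) []))

def killAll (N p : ℕ) (S : List (ℕ × ℕ)) (T : List (ℕ × ℕ × ℕ × List (List ℕ))) : Bool :=
  ((cands N p).all fun c => S.contains c || T.any fun t => c == (t.1, t.2.1)) && T.all (kill N p)

variable {G : Type*} [Group G] [Finite G] [IsSimpleGroup G] (hna : ¬ IsMulCommutative G)
include hna

theorem le_index (h11 : 11 ∣ Nat.card G) {H : Subgroup G} (hH : H ≠ ⊤) : 11 ≤ H.index :=
  (Nat.Prime.dvd_factorial (by norm_num)).1 ((h11.mul_left 2).trans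
    (two_mul_card_dvd_factorial (two_lt_card hna) hH))

theorem mem_call (hN : Nat.card G ≤ 96000) (h11 : 11 ∣ Nat.card G) {s : G} (hs : orderOf s = 2) :
    cc s ∈ call (Nat.card G) := by
  have h1 : s ∉ center G := fun e =>
    ne_one_of_orderOf_eq_prime Nat.prime_two hs (eq_one_of_center hna e)
  have h2 : centralizer ({s} : Set G) ≠ ⊤ := fun e => h1 (mem_center_iff.2 fun g =>
    mem_centralizer_singleton_iff.1 (e ▸ mem_top g))
  simp only [call, List.mem_filter, Bool.and_eq_true, beq_iff_eq, card_div_cc, Nat.ble_eq]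
  exact ⟨mem_dvs Nat.card_pos hN (cc_dvd s), Nat.mod_eq_zero_of_dvd (four_dvd_cc (four_dvd hna) hs),
    le_index hna h11 h2⟩

variable {p e X : ℕ} {x : G} {T : Finset (IrrCharacter G)}

omit hna [IsSimpleGroup G] in
theorem PD.two_dvd (h : PD p e X x T) (hp : p.Prime) (h2 : p ≠ 2)
    (hsq : ¬ p * p ∣ Nat.card G) {s : G} (hs : orderOf s = 2) (hd : p ∣ cc s) : 2 ∣ X := by
  obtain ⟨y, hy, hc⟩ := exists_of_prime_dvd_cc hp hd
  have := orderOf_dvd_cc hc.symm
  rw [hs, cc_eq_of_ord hp hsq h.ord hy, h.ccx, Nat.prime_two.dvd_mul] at this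
  exact this.resolve_left fun e => h2 ((Nat.prime_dvd_prime_iff_eq Nat.prime_two hp).1 e).symm

omit hna [IsSimpleGroup G] in
theorem PD.exists_comm (h : PD p e X x T) (hX : 2 ∣ X) : ∃ s : G, orderOf s = 2 ∧ p ∣ cc s := by
  obtain ⟨s, hs, hc⟩ := exists_of_prime_dvd_cc Nat.prime_two (h.ccx ▸ hX.mul_left p)
  exact ⟨s, hs, h.ord ▸ orderOf_dvd_cc hc.symm⟩

theorem PD.mem_cands (h : PD p e X x T) (hp : p.Prime) (hN : Nat.card G ≤ 96000)
    (h11 : 11 ∣ Nat.card G) : (e, X) ∈ cands (Nat.card G) p := by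
  obtain ⟨H, h1, h2, h3⟩ := h.idx
  have h0 : 0 < Nat.card G := Nat.card_pos
  have h4 : Nat.card G = p * e * H.index * X := by rw [← h3]; ring
  have h5 : 0 < p * e * H.index := Nat.pos_of_mul_pos_right (h4 ▸ h0)
  have h6 : e ≠ 0 := by rintro rfl; simp at h5
  have h7 := h.ne
  have h8 := Nat.le_of_dvd (by have := hp.two_le; omega) h.dvd
  simp only [cands, List.mem_flatMap]
  refine ⟨H.index, mem_dvs h0 hN H.index_dvd_card, ?_⟩
  rw [if_pos (by simp [h2, le_index hna h11 h1])]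
  simp only [List.mem_map, List.mem_filter, List.mem_range, Bool.and_eq_true, Nat.ble_eq, beq_iff_eq]
  refine ⟨e, ⟨by have := hp.two_le; omega, by omega, Nat.mod_eq_zero_of_dvd h.dvd,
    Nat.mod_eq_zero_of_dvd ⟨X, h4⟩⟩, ?_⟩
  rw [h4, Nat.mul_div_cancel_left _ h5]

theorem PD.not_kill (h : PD p e X x T) (hp : p.Prime) (h2 : p ≠ 2) (hsq : ¬ p * p ∣ Nat.card G)
    (hN : Nat.card G ≤ 96000) (h11 : 11 ∣ Nat.card G) {m : ℕ} {L : List (List ℕ)}
    (hk : kill (Nat.card G) p (e, X, m, L) = true) : False := by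
  simp only [kill, Bool.and_eq_true, Bool.or_eq_true, bne_iff_ne, beq_iff_eq, Bool.not_eq_true',
    List.all_eq_true, fN_eq] at hk
  obtain ⟨k1, k2, k3, k4⟩ := hk
  obtain ⟨D, hD, h3⟩ := h.st1 L k3
  obtain ⟨s, hs, h4, h5⟩ : ∃ s : G, orderOf s = 2 ∧ (m = 2 → s * x * s⁻¹ = x⁻¹) ∧
      if m = 1 then cc s % p = 0 else (X % 2 = 0 ∨ cc s % p ≠ 0) ∧
        (m = 2 ∨ Nat.card G / cc s % 2 = 1) := by
    have h4 : ∀ s : G, orderOf s = 2 → X % 2 = 0 ∨ cc s % p ≠ 0 := fun s hs =>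
      or_iff_not_imp_right.2 fun e => Nat.mod_eq_zero_of_dvd
        (h.two_dvd hp h2 hsq hs (Nat.dvd_of_mod_eq_zero (not_ne_iff.1 e)))
    by_cases m1 : m = 1
    · obtain ⟨s, hs, h5⟩ := h.exists_comm (by omega)
      exact ⟨s, hs, by omega, by rw [if_pos m1]; exact Nat.mod_eq_zero_of_dvd h5⟩
    by_cases m2 : m = 2
    · obtain ⟨s, hs, h5⟩ := h.inv (by omega) (by omega)
      exact ⟨s, hs, fun _ => h5, by rw [if_neg m1]; exact ⟨h4 s hs, Or.inl m2⟩⟩
    · obtain ⟨s, hs, h5⟩ := exists_two_central ((by norm_num : 2 ∣ 4).trans (four_dvd hna))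
      exact ⟨s, hs, fun e => absurd e m2, by rw [if_neg m1]; exact ⟨h4 s hs, Or.inr (by omega)⟩⟩
  obtain ⟨r, r1, r2, r3⟩ := h.st2 s hs
  obtain ⟨V, hV, -⟩ := r3 D h3 _ (fun _ _ => rfl) [] (k4 D hD (cc s, r) (by
    simp only [cs, List.mem_flatMap, List.mem_filter, List.mem_append]
    refine ⟨cc s, ⟨mem_call hna hN h11 hs, by split_ifs at h5 ⊢ <;> simpa using h5⟩, ?_⟩
    cases r
    · exact Or.inl (by rw [if_neg fun e => by simpa using r1 (h4 e)]; simp)
    · exact Or.inr (by rw [if_neg fun e => by simpa using r2 e]; simp)))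
  cases hV

theorem exists_surv {N : ℕ} (hG : Nat.card G = N) (hp : p.Prime) {S T}
    (hN : N ≤ 96000 ∧ 11 ∣ N ∧ p ≠ 2 ∧ p ≤ 80 ∧ p ∣ N ∧ ¬ p * p ∣ N) (hk : killAll N p S T = true) :
    ∃ e X, ∃ x : G, ∃ T, PD p e X x T ∧ (e, X) ∈ S := by
  subst hG
  obtain ⟨h1, h2, h3, h4, h5, h6⟩ := hN
  obtain ⟨e, X, x, U, h⟩ := exists_PD hna h1 hp h3 h4 h5 h6
  simp only [killAll, Bool.and_eq_true, List.all_eq_true, Bool.or_eq_true, List.contains_iff_mem,
    List.any_eq_true, beq_iff_eq] at hk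
  refine ⟨e, X, x, U, h, (hk.1 _ (h.mem_cands hna hp h1 h2)).resolve_right ?_⟩
  rintro ⟨⟨e', X', m, L⟩, ht, h7⟩
  cases h7
  exact h.not_kill hna hp h3 h6 h1 h2 (hk.2 _ ht)

omit hna

theorem k6336 : killAll 6336 11 [] [(2, 24, 3, []), (2, 2, 3, [])] = true := by decide +kernel

theorem k9504 : killAll 9504 11 [] [(2, 36, 3, []), (2, 3, 3, [])] = true := by decide +kernel

theorem k10560 : killAll 10560 11 [] [(2, 40, 3, []), (5, 16, 3, []), (10, 8, 3, [])] = true := by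
  decide +kernel

theorem k19008 : killAll 19008 11 [] [(2, 72, 3, []), (2, 6, 3, [])] = true := by decide +kernel

theorem k23760 : killAll 23760 11 [] [(2, 90, 3, []), (5, 36, 3, []), (10, 18, 3, []), (2, 24, 3, []), (5, 3, 3, []), (2, 2, 3, [])] = true := by
  decide +kernel

theorem k11880 : killAll 11880 11 [] [(2, 45, 3, []), (5, 18, 3, []), (10, 9, 3, []), (2, 12, 3, []), (2, 1, 2, [[9, 9, 9, 9, 9, 10]])] = true := by
  decide +kernel

theorem k15840 : killAll 15840 11 [] [(2, 60, 3, []), (5, 24, 3, []), (10, 12, 3, []), (2, 16, 3, []), (2, 5, 3, []), (5, 2, 3, []), (10, 1, 2, [[10, 10, 10, 10, 10, 10, 10, 12, 12, 45], [10, 10, 10, 10, 10, 12, 12, 12, 32, 45], [10, 10, 10, 10, 32, 32, 32, 45, 45, 45], [10, 10, 10, 12, 12, 12, 12, 32, 32, 45], [10, 10, 10, 12, 12, 20, 45], [10, 10, 10, 24, 32, 32, 45], [10, 10, 12, 32, 32, 32, 32, 45, 45, 45], [10, 12, 12, 12, 12, 12, 32, 32, 32, 45], [10, 12, 12, 12, 20, 32,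 45], [10, 12, 24, 32, 32, 32, 45], [12, 12, 32, 32, 32, 32, 32, 45, 45, 45], [20, 32, 32, 32, 45, 45, 45]])] = true := by
  decide +kernel

theorem k31680 : killAll 31680 11 [] [(2, 120, 3, []), (5, 48, 3, []), (10, 24, 3, []), (2, 32, 3, []), (2, 10, 3, []), (5, 4, 3, []), (10, 2, 1, [[24, 32, 32, 45, 45, 45, 120]])] = true := by
  decide +kernel

theorem k47520 : killAll 47520 11 [] [(2, 180, 3, []), (5, 72, 3, []), (10, 36, 3, []), (2, 48, 3, []), (2, 15, 3, []), (5, 6, 3, []), (10, 3, 3, [[24, 32, 32, 45, 45, 45, 120], [32, 32, 32, 32, 32, 45, 45, 45, 120, 144]]), (2, 4, 3, [])] = true := by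
  decide +kernel

theorem k95040a : killAll 95040 11 [(5, 1)] [(2, 360, 3, []), (5, 144, 3, []), (10, 72, 3, []), (2, 96, 3, []), (2, 30, 3, []), (5, 12, 3, []), (10, 6, 1, [[24, 32, 32, 45, 45, 45, 120], [32, 32, 32, 32, 32, 45, 45, 45, 120, 144], [32, 32, 45, 45, 45, 120, 120, 120, 144, 144], [32, 45, 45, 45, 64, 120, 144]]), (2, 8, 3, [])] = true := by
  decide +kernel

theorem k95040b : killAll 95040 5 [(4, 12), (4, 2)] [(2, 864, 1, [[11, 12, 12]]), (4, 432, 3, []), (2, 594, 3, []), (4, 297, 3, []), (2, 264, 3, []), (4, 132, 3, []), (2, 144, 1, [[11, 12, 12]]), (4, 72, 3, []), (2, 99, 3, []), (2, 54, 1, [[11, 12, 12]]), (4, 27, 3, [[11, 16, 16, 44]]), (2, 44, 3, []), (4, 22, 3, []), (2, 24, 1, [[11, 12, 12]]), (2, 9, 3, [[11, 12, 12]]), (2, 4, 1, [[11, 12, 12]])] = true := by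
  decide +kernel

theorem k7920a : killAll 7920 11 [(5, 1)] [(2, 30, 3, []), (5, 12, 3, []), (10, 6, 3, []), (2, 8, 3, [])] = true := by
  decide +kernel

theorem k7920b : killAll 7920 5 [(4, 1)] [(2, 72, 1, [[11, 12, 12]]), (4, 36, 3, []), (2, 22, 3, []), (4, 11, 3, []), (2, 12, 1, [[11, 12, 12]]), (4, 6, 3, []), (2, 2, 1, [[11, 12, 12]])] = true := by
  decide +kernel

theorem simple_card (hna : ¬ IsMulCommutative G) (hd : Nat.card G ∣ 95040) (h11 : 11 ∣ Nat.card G)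
    (h6 : 6000 ≤ Nat.card G) : Nat.card G = 7920 ∨ Nat.card G = 95040 := by
  have key : ∀ {N T}, (N ≤ 96000 ∧ 11 ∣ N ∧ 11 ≠ 2 ∧ 11 ≤ 80 ∧ 11 ∣ N ∧ ¬ 11 * 11 ∣ N) →
      killAll N 11 [] T = true → Nat.card G ≠ N := fun h1 h2 h => by
    obtain ⟨_, _, _, _, -, h3⟩ := exists_surv hna h (by norm_num) h1 h2
    cases h3
  have k1 := key (by norm_num) k6336
  have k2 := key (by norm_num) k9504
  have k3 := key (by norm_num) k10560
  have k4 := key (by norm_num) k19008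
  have k5 := key (by norm_num) k23760
  have k6 := key (by norm_num) k11880
  have k7 := key (by norm_num) k15840
  have k8 := key (by norm_num) k31680
  have k9 := key (by norm_num) k47520
  obtain ⟨k, hk⟩ := hd
  have h1 : k < 16 := by nlinarith
  interval_cases k <;> omega

end Cfsg.Agent.M12R
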