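import Cfsg.Agent.M12R.LocA
import Cfsg.Agent.M12C.Main

/-!
# The involution centraliser of order 192 has shape `2^{1+4}.S₃`
-/

set_option autoImplicit false
set_option linter.unusedSectionVars false

namespace Cfsg.Agent.M12R

open Subgroup Cfsg.Agent.M11 Cfsg.Agent.M12C

variable {G : Type*} [Group G] [Finite G] {z t : G}

theorem dbl {H : Subgroup G} {x : G} (hx : x * x = 1) (hc : H ≤ centralizer {x}) (hn : x ∉ H) :
    ∃ K : Subgroup G, Nat.card K = 2 * Nat.card H ∧ ∀ g, g ∈ K ↔ g ∈ H ∨ x * g ∈ H := by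
  have xi := inv_eq_of_mul_eq_one_right hx
  have c : ∀ g ∈ H, g * x = x * g := fun g hg => mem_centralizer_singleton_iff.mp (hc hg)
  let K : Subgroup G :=
    { carrier := {g | g ∈ H ∨ x * g ∈ H}
      one_mem' := Or.inl (one_mem H)
      mul_mem' := fun {a b} ha hb => by
        rcases ha with ha | ha <;> rcases hb with hb | hb
        · exact Or.inl (mul_mem ha hb)
        · exact Or.inr (by rw [← mul_assoc, ← c a ha, mul_assoc]; exact mul_mem ha hb)
        · exact Or.inr (by rw [← mul_assoc]; exact mul_mem ha hb)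
        · refine Or.inl ?_
          have := mul_mem ha hb
          rwa [← mul_assoc, c _ ha, ← mul_assoc, hx, one_mul] at this
      inv_mem' := fun {a} ha => ha.imp (inv_mem ·) fun ha => by
        have h1 := inv_mem ha
        have h2 := c _ h1
        rw [mul_inv_rev, xi] at h1 h2
        rw [mul_assoc, hx, mul_one] at h2
        rwa [h2, ← mul_assoc, hx, one_mul] }
  refine ⟨K, ?_, fun g => Iff.rfl⟩
  have h1 : H.relIndex K = 2 := relIndex_eq_two_iff_exists_notMem_and'.mpr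
    ⟨x, Or.inr (by rw [hx]; exact one_mem H), hn, fun b hb => Or.symm hb⟩
  rw [← (H.subgroupOf K).card_mul_index, show (H.subgroupOf K).index = 2 from h1, mul_comm,
    Nat.card_congr (subgroupOfEquivOfLe (show H ≤ K from fun g hg => Or.inl hg)).toEquiv]

theorem six {H : Type*} [Group H] [Finite H] (hH : Nat.card H = 6) {σ τ : H} (h1 : σ ^ 3 = 1) (h2 : σ ≠ 1)
    (h3 : (τ * σ * τ⁻¹ * σ⁻¹) ^ 64 = 1) : τ * σ * τ⁻¹ * σ⁻¹ = 1 := by
  have h4 : Nat.card (zpowers σ) = 3 := by rw [Nat.card_zpowers, orderOf_eq_prime h1 h2]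
  have h5 : (zpowers σ).index = 2 := by
    have := (zpowers σ).card_mul_index
    rw [h4, hH] at this
    omega
  have h6 : τ * σ * τ⁻¹ * σ⁻¹ ∈ zpowers σ :=
    mul_mem ((normal_of_index_eq_two h5).conj_mem _ (mem_zpowers σ) τ) (inv_mem (mem_zpowers σ))
  have h7 : (τ * σ * τ⁻¹ * σ⁻¹) ^ 3 = 1 := by
    rw [← h4]
    exact congrArg Subtype.val (pow_card_eq_one' (x := (⟨_, h6⟩ : zpowers σ)))
  rwa [show 64 = 3 * 21 + 1 from rfl, pow_succ, pow_mul, h7, one_pow, one_mul] at h3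

namespace H12

variable (h : H12 z t) (hl : HL z t)
include h hl

theorem gen' {a : G} (ha : AA z t a) (P : G → Prop) (h1 : P 1)
    (hm : ∀ p ∈ Nn z a h.zz, ∀ q ∈ Nn z a h.zz, P p → P q → P (p * q)) (hA : ∀ c, AA z t c → P c) :
    ∀ q ∈ Nn z a h.zz, P q := by
  let K : Subgroup G :=
    { carrier := {g | g ∈ Nn z a h.zz ∧ P g}
      one_mem' := ⟨one_mem _, h1⟩
      mul_mem' := fun {p q} hp hq => ⟨mul_mem hp.1 hq.1, hm p hp.1 q hq.1 hp.2 hq.2⟩
      inv_mem' := fun {p} hp => ⟨inv_mem hp.1, by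
        have : ∀ n : ℕ, P (p ^ n) := fun n => by
          induction n with
          | zero => simpa using h1
          | succ n ih => rw [pow_succ]; exact hm _ (pow_mem hp.1 n) p hp.1 ih hp.2
        rw [show p⁻¹ = p ^ (orderOf p - 1) by
          rw [inv_eq_iff_mul_eq_one, ← pow_succ', Nat.sub_add_cancel (orderOf_pos p), pow_orderOf_eq_one]]
        exact this _⟩ }
  exact fun q hq => (h.gen hl ha (K := K) (fun c hc => ⟨h.mem_N hl ha hc, hA c hc⟩) hq).2

theorem com {a p q : G} (ha : AA z t a) (hp : p ∈ Nn z a h.zz) (hq : q ∈ Nn z a h.zz) : Ez z (p * q) (q * p) := by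
  have := h.gen' hl ha (fun q => Ez z (p * q * p⁻¹) q) (Or.inl (by simp)) (fun q _ r hr e e' => by
    rw [← conj_mul]; exact e.mul h.zz e' hr.1) (fun c hc => (h.N_le' hl ha hc hp).2) q hq
  simpa using this.mul_right hp.1

theorem sq {a q : G} (ha : AA z t a) (hq : q ∈ Nn z a h.zz) : Ez z (q * q) 1 :=
  h.gen' hl ha (fun q => Ez z (q * q) 1) (Or.inl (by simp)) (fun p hp q hq e e' => by
    have e1 := ((h.com hl ha hq hp).mul_left p).mul_right hq.1
    have e2 := e.mul h.zz e' (Commute.one_left z)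
    simp only [mul_assoc, mul_one] at e1 e2 ⊢
    exact e1.trans h.zz e2) (fun c hc => Or.inl (h.sqA hc.1)) q hq

theorem comm_mul {a p q r : G} (ha : AA z t a) (hp : p ∈ Nn z a h.zz) (hq : q ∈ Nn z a h.zz) (hr : r ∈ Nn z a h.zz) :
    Commute (p * q) r ↔ (Commute p r ↔ Commute q r) := by
  refine ⟨fun e => ⟨fun e1 => by simpa using e1.inv_left.mul_left e, fun e1 => by simpa using e.mul_left e1.inv_left⟩,
    fun e => ?_⟩
  by_cases e1 : Commute p r
  · exact e1.mul_left (e.mp e1)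
  have e2 := (h.com hl ha hp hr).resolve_left e1
  have e3 := (h.com hl ha hq hr).resolve_left (mt e.mpr e1)
  rw [commute_iff_eq, mul_assoc, e3, ← mul_assoc, ← mul_assoc, e2, mul_assoc _ z, ← hq.1.eq, mul_assoc, mul_assoc q, h.zz,
    mul_one, mul_assoc]

theorem normQ {a g q : G} (ha : AA z t a) (hg : Commute g z) (hq : q ∈ Nn z a h.zz) : g * q * g⁻¹ ∈ Nn z a h.zz := by
  refine ⟨(hg.mul_left hq.1).mul_left hg.inv_left, ?_⟩
  have := (h.N_le' hl ha (AA_conj ha hg.inv_left) hq).2.conj hg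
  convert this using 1 <;> group

variable {y : G} (y3 : orderOf y = 3) (yz : Commute y z)
include y3 yz

omit h hl yz in
theorem cyc (q : G) : y * (y * (y * q * y⁻¹) * y⁻¹) * y⁻¹ = q := by
  calc _ = y ^ 3 * q * (y ^ 3)⁻¹ := by rw [pow_succ, pow_two]; group
    _ = q := by rw [← y3, pow_orderOf_eq_one]; group

omit yz in
theorem y_notMem {a : G} (ha : AA z t a) : y ∉ Nn z a h.zz := fun e => by
  have := orderOf_dvd_natCard _ e
  rw [y3, h.card_N hl ha] at this
  norm_num at this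

theorem ny {c : G} (hc : AA z t c) : ¬ Ez z (y * c * y⁻¹) c := fun e => h.y_notMem hl y3 hc ⟨yz, e⟩

theorem tri {c : G} (hc : AA z t c) : Commute c (y * c * y⁻¹) := by
  by_contra e
  have e1 := mt (commute_conj_iff y).mp e
  have e2 := mt (commute_conj_iff y).mp e1
  rw [cyc y3] at e2
  exact e1 (h.hexagon hl hc (AA_conj hc yz) (AA_conj (AA_conj hc yz) yz) (fun e' => e e'.symm) e2)

theorem tri2 {c : G} (hc : AA z t c) : Ez z (c * (y * c * y⁻¹) * (y * (y * c * y⁻¹) * y⁻¹)) 1 ∧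
    ∀ d, AA z t d → Commute d c → ¬ Ez z d c → ¬ Ez z d (y * c * y⁻¹) → ¬ Ez z d (y * (y * c * y⁻¹) * y⁻¹) →
      IsConj z (c * d) ∧ c * d ≠ z := by
  obtain ⟨v, b, l⟩ := hl.lc hc
  have a2 := AA_conj hc yz
  have a3 := AA_conj a2 yz
  have c12 := h.tri hl y3 yz hc
  have c23 := h.tri hl y3 yz a2
  have c31 := h.tri hl y3 yz a3
  have n21 := h.ny hl y3 yz hc
  have n32 := h.ny hl y3 yz a2
  have n13 := h.ny hl y3 yz a3
  rw [cyc y3] at c31 n13
  generalize y * (y * c * y⁻¹) * y⁻¹ = c3 at *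
  generalize y * c * y⁻¹ = c2 at *
  have k0 : ∀ {w}, Ez z c2 w → ¬ Ez z c3 w := fun e e' => n32 (e'.trans h.zz (e.symm h.zz))
  have k1 : ∀ {w w'}, Commute w' z → Ez z c2 w → Ez z c3 w' → Commute w w' := fun w1 e e' =>
    (e.symm h.zz).comm w1.symm ((e'.symm h.zz).comm a2.2.symm c23.symm).symm
  have k2 : ∀ d, AA z t d → Commute d c → ¬ Ez z d c → ¬ Ez z d b → ¬ Ez z d (c * b) → IsConj z (c * d) ∧ c * d ≠ z :=
    fun d d1 d2 d3 d4 d5 => h.B_ez l.zv l.vz l.cvz (by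
      have := (((l.repA h hc d1 d2).resolve_left d3).resolve_right (not_or.mpr ⟨d4, d5⟩)).mul_left c
      rwa [← mul_assoc, h.sqA hc.1, one_mul] at this)
  rcases (l.repA h hc a2 c12.symm).resolve_left n21 with e | e | e <;>
    rcases (l.repA h hc a3 c31).resolve_left (fun e => n13 (e.symm h.zz)) with e' | e' | e'
  · exact absurd e' (k0 e)
  · exact absurd (k1 l.cbz e e') (l.n_av_b h hc)
  · exact absurd (k1 (l.aab h hc).2 e e') (l.n_av_ab h hc)
  · exact absurd (k1 (l.aav h hc).2 e e').symm (l.n_av_b h hc)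
  · exact absurd e' (k0 e)
  · refine ⟨?_, fun d d1 d2 d3 d4 d5 => k2 d d1 d2 d3 (fun e1 => d4 (e1.trans h.zz (e.symm h.zz)))
      fun e1 => d5 (e1.trans h.zz (e'.symm h.zz))⟩
    have := (e.mul_left c).mul h.zz e' (l.aab h hc).2
    rwa [h.sqA l.tab] at this
  · exact absurd (k1 (l.aav h hc).2 e e').symm (l.n_av_ab h hc)
  · refine ⟨?_, fun d d1 d2 d3 d4 d5 => k2 d d1 d2 d3 (fun e1 => d5 (e1.trans h.zz (e'.symm h.zz)))
      fun e1 => d4 (e1.trans h.zz (e.symm h.zz))⟩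
    have := (e.mul_left c).mul h.zz e' l.cbz
    rwa [← mul_assoc c c, h.sqA hc.1, one_mul, h.sqA l.tb] at this
  · exact absurd e' (k0 e)

theorem fr {a : G} (ha : AA z t a) : Fr z (Nn z a h.zz) y := by
  obtain ⟨v, b, l⟩ := hl.lc ha
  refine ⟨h.zz, h.z1, ⟨Commute.refl z, Or.inl (conj_eq_of_commute ha.2.symm)⟩, fun q hq => hq.1.eq,
    fun p hp q hq => h.com hl ha hp hq, fun p hp e => ?_, h.card_N hl ha, y3 ▸ pow_orderOf_eq_one y,
    conj_eq_of_commute yz, fun q hq => h.normQ hl ha yz hq, fun q hq e => ?_⟩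
  · rcases l.cen h ha (e a (h.mem_N hl ha ha)) hp.1 (e v ⟨l.cvz, Or.inl (conj_eq_of_commute l.cva)⟩)
      (e b (h.mem_N hl ha (l.ab h ha))) with e1 | e1
    · simpa [Ez] using e1
    · obtain ⟨x, x1, x2⟩ := h.exists_nc hl ha
      exact absurd ((e1.symm h.zz).comm x1.2.symm (e x (h.mem_N hl ha x1))).symm x2
  · have e1 := h.gen' hl ha (fun q => Ez z (q * (y * q * y⁻¹) * (y * (y * q * y⁻¹) * y⁻¹)) 1) (Or.inl (by simp))
      (fun p hp q hq e e' => by
        have p2 := h.normQ hl ha yz hp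
        have p3 := h.normQ hl ha yz p2
        have q2 := h.normQ hl ha yz hq
        have q3 := h.normQ hl ha yz q2
        rw [← conj_mul, ← conj_mul]
        generalize y * (y * p * y⁻¹) * y⁻¹ = p'', y * (y * q * y⁻¹) * y⁻¹ = q'' at *
        generalize y * p * y⁻¹ = p', y * q * y⁻¹ = q' at *
        have e1 := ((h.com hl ha hq p2).mul_left p).mul_right (mul_mem q2 (mul_mem p3 q3)).1
        have e2 := ((h.com hl ha (mul_mem hq q2) p3).mul_left (p * p')).mul_right q3.1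
        have e3 := e.mul h.zz e' (Commute.one_left z)
        simp only [mul_assoc, mul_one] at e1 e2 e3 ⊢
        exact (e1.trans h.zz e2).trans h.zz e3) (fun c hc => (h.tri2 hl y3 yz hc).1) q hq
    rw [conj_eq_of_commute e, conj_eq_of_commute e] at e1
    have e2 := ((h.sq hl ha hq).mul_right hq.1).symm h.zz
    rw [one_mul] at e2
    simpa [Ez] using e2.trans h.zz e1

theorem no_six {a s : G} (ha : AA z t a) (sB : IsConj z s) (sz : Commute s z) (sQ : s ∉ Nn z a h.zz)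
    (hw : s * y * s⁻¹ * y⁻¹ ∈ Nn z a h.zz) : False := by
  have F := h.fr hl y3 yz ha
  have ss : ∀ c : G, s * (s * c * s⁻¹) * s⁻¹ = c := fun c => by
    calc _ = s * s * c * (s * s)⁻¹ := by group
      _ = c := by rw [h.sqB sB]; group
  have mA : ∀ {c}, AA z t c → c ∈ Nn z a h.zz := h.mem_N hl ha
  have k1 : ∀ {c}, AA z t c → Ez z (s * (y * c * y⁻¹) * s⁻¹) (y * (s * c * s⁻¹) * y⁻¹) := fun hc => by
    have := (h.N_le' hl ha (AA_conj (AA_conj hc sz) yz) hw).2
    convert this using 1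
    group
  have k2 : ∀ {c}, AA z t c → ¬ Ez z (s * c * s⁻¹) c := fun hc e => sQ (h.N_le' hl hc ha ⟨sz, e⟩)
  have k3 : ∀ {c}, AA z t c → ¬ Ez z (s * c * s⁻¹) (y * c * y⁻¹) := fun {c} hc e => by
    have e1 := ((e.conj sz).trans h.zz (k1 hc)).trans h.zz (e.conj yz)
    rw [ss] at e1
    exact h.ny hl y3 yz (AA_conj (AA_conj hc yz) yz) (by rwa [cyc y3])
  have k4 : ∀ {c}, AA z t c → ¬ Ez z (s * c * s⁻¹) (y * (y * c * y⁻¹) * y⁻¹) := fun {c} hc e => by
    have e1 := (((e.conj sz).trans h.zz (k1 (AA_conj hc yz))).trans h.zz ((k1 hc).conj yz)).trans h.zz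
      ((e.conj yz).conj yz)
    rw [ss, cyc y3] at e1
    exact h.ny hl y3 yz hc (e1.symm h.zz)
  have k5 : ∀ {c}, AA z t c → Commute (s * c * s⁻¹) c := fun {c} hc => by
    have a2 := AA_conj hc yz
    have a3 := AA_conj a2 yz
    have e1 : Commute (s * (y * (y * c * y⁻¹) * y⁻¹) * s⁻¹) c ↔ Commute (s * (y * c * y⁻¹) * s⁻¹) c := by
      have e2 := k1 a3
      rw [cyc y3] at e2
      rw [← commute_conj_iff y, ← commute_conj_iff s (b := c), ss]
      exact ⟨fun e => (e2.comm a2.2.symm e).symm, fun e => (e2.symm h.zz).comm a2.2.symm e.symm⟩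
    have e3 := (h.comm_mul hl ha (mA (AA_conj a2 sz)) (mA (AA_conj a3 sz)) (mA hc)).mpr e1.symm
    have e4 := ((h.tri2 hl y3 yz hc).1.conj sz).comm hc.2.symm (by simp)
    rw [← conj_mul, ← conj_mul, mul_assoc (s * c * s⁻¹)] at e4
    have e5 := e4.mul_left e3.inv_left
    rwa [mul_inv_cancel_right] at e5
  have k6 : ∀ {c}, AA z t c → IsConj z (c * (s * c * s⁻¹)) ∧ c * (s * c * s⁻¹) ≠ z := fun hc =>
    (h.tri2 hl y3 yz hc).2 _ (AA_conj hc sz) (k5 hc) (k2 hc) (k3 hc) (k4 hc)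
  have k7 : ∀ {c}, AA z t c → Commute (c * (s * c * s⁻¹)) s := fun hc =>
    (commute_of_conj_eq (by rw [← conj_mul, ss, (k5 hc).eq])).symm
  have k8 : ∀ {c}, AA z t c → c * (s * c * s⁻¹) ∈ Nn z a h.zz := fun hc => mul_mem (mA hc) (mA (AA_conj hc sz))
  have a2 := AA_conj ha yz
  have e1 : Ez z (y * a * y⁻¹ * (s * (y * a * y⁻¹) * s⁻¹)) (y * (a * (s * a * s⁻¹)) * y⁻¹) := by
    rw [← conj_mul (a := a)]
    exact (k1 ha).mul_left _
  have e2 : Commute (a * (s * a * s⁻¹)) (y * a * y⁻¹ * (s * (y * a * y⁻¹) * s⁻¹)) := by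
    have e3 := h.tri hl y3 yz ha
    have e4 : Commute (s * (y * a * y⁻¹) * s⁻¹) a ↔ Commute (y * a * y⁻¹) (s * a * s⁻¹) := by
      rw [← commute_conj_iff s, ss]
    rw [h.comm_mul hl ha (mA ha) (mA (AA_conj ha sz)) (k8 a2), Commute.symm_iff, Commute.symm_iff (a := s * a * s⁻¹),
      h.comm_mul hl ha (mA a2) (mA (AA_conj a2 sz)) (mA ha),
      h.comm_mul hl ha (mA a2) (mA (AA_conj a2 sz)) (mA (AA_conj ha sz)), e4, commute_conj_iff s]
    simp only [e3.symm, true_iff, iff_true]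
  obtain ⟨B1, n1⟩ := k6 ha
  obtain ⟨B2, n2⟩ := k6 a2
  have s1 := k7 ha
  have s2 := k7 a2
  have Q1 := k8 ha
  have Q2 := k8 a2
  generalize y * a * y⁻¹ * (s * (y * a * y⁻¹) * s⁻¹) = v2 at *
  generalize a * (s * a * s⁻¹) = v1 at *
  have n12 : ¬ Ez z v2 v1 := fun e => by
    have e3 : y * v1 * y⁻¹ = v1 := ((e1.symm h.zz).trans h.zz e).resolve_right fun e3 => h.z1 (by
      have := cyc y3 v1
      rw [e3, ← conj_mul (a := v1), F.xs, e3, mul_assoc v1, h.zz, mul_one, e3] at this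
      exact mul_eq_left.mp this)
    exact (F.fix v1 Q1 (commute_of_conj_eq e3)).elim (h.neB B1) n1
  have step : ∀ {H : Subgroup G} {x : G}, (∀ u ∈ H, u = 1 ∨ IsConj z u) → IsConj z x → H ≤ centralizer {x} → x ∉ H →
      ∃ K : Subgroup G, Nat.card K = 2 * Nat.card H ∧ (∀ u ∈ K, u = 1 ∨ IsConj z u) ∧
        (∀ M : Subgroup G, H ≤ M → x ∈ M → K ≤ M) ∧ ∀ g ∈ K, g ∈ H ∨ x * g ∈ H := fun {H x} h1 h2 h3 h4 => by
    obtain ⟨K, c, m⟩ := dbl (h.sqB h2) h3 h4
    have e : ∀ u, u = x * (x * u) := fun u => by rw [← mul_assoc, h.sqB h2, one_mul]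
    refine ⟨K, c, fun u hu => ((m u).mp hu).elim (h1 u) fun hu => ?_, fun M m1 m2 u hu =>
      ((m u).mp hu).elim (fun hu => m1 hu) fun hu => e u ▸ mul_mem m2 (m1 hu), fun g hg => (m g).mp hg⟩
    rw [e u]
    rcases h1 _ hu with e1 | e1
    · exact Or.inr (by rw [e1, mul_one]; exact h2)
    · exact h.BB h2 e1 (mem_centralizer_singleton_iff.mp (h3 hu)).symm
  have mc : ∀ {p q : G}, Commute p q → p ∈ centralizer {q} := fun e => mem_centralizer_singleton_iff.mpr e
  obtain ⟨K1, c1, b1, l1, m1⟩ := step (H := ⊥) (fun u hu => Or.inl hu) (IsConj.refl z) bot_le h.z1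
  have m1' : ∀ g ∈ K1, Ez z g 1 := fun g hg => (m1 g hg).imp id fun e => by
    rw [one_mul, ← mul_one z, ← mem_bot.mp e, ← mul_assoc, h.zz, one_mul]
  obtain ⟨K2, c2, b2, l2, m2⟩ := step b1 B1 (l1 _ bot_le (mc Q1.1.symm)) fun e =>
    (m1' _ e).elim (h.neB B1) (by simpa using n1)
  obtain ⟨K3, c3, b3, l3, m3⟩ := step b2 B2 (l2 _ (l1 _ bot_le (mc Q2.1.symm)) (mc e2)) fun e =>
    (m2 _ e).elim (fun e => (m1' _ e).elim (h.neB B2) (by simpa using n2)) fun e => n12 (by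
      have := (m1' _ e).mul_left v1
      rwa [← mul_assoc, h.sqB B1, one_mul, mul_one] at this)
  obtain ⟨K4, c4, b4, -, -⟩ := step b3 sB (l3 _ (l2 _ (l1 _ bot_le (mc sz.symm)) (mc s1)) (mc s2)) fun e =>
    sQ (l3 _ (l2 _ (l1 _ bot_le F.sQ) Q1) Q2 e)
  exact h.noE K4 (by rw [c4, c3, c2, c1, card_bot]) b4

omit y3 yz in
theorem m12_of_loc [IsSimpleGroup G] : Spor.IsoM12 G := by
  obtain ⟨a, ha⟩ : {a | AA z t a}.Nonempty := Set.nonempty_of_ncard_ne_zero (by rw [h.ncard_AA]; norm_num)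
  obtain ⟨v, b, l⟩ := hl.lc ha
  obtain ⟨y, y3, yz⟩ := exists_of_prime_dvd_cc (g := z) Nat.prime_three (by rw [h.cz]; norm_num)
  have vQ : v ∈ Nn z a h.zz := ⟨l.cvz, Or.inl (conj_eq_of_commute l.cva)⟩
  obtain ⟨g, rfl⟩ := isConj_iff.mp l.zv
  obtain ⟨s, ss, sz, sQ⟩ := (h.fr hl y3 yz ha).exists_out vQ l.vz
  have sB : IsConj z s := (h.cls' ss fun e => sQ (e ▸ one_mem _)).resolve_right fun e => sQ (h.mem_N hl ha ⟨e, sz⟩)
  have cL : Nat.card (centralizer {z} : Subgroup G) = 192 := h.cz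
  have mL : ∀ {p : G}, Commute p z → p ∈ centralizer {z} := fun e => mem_centralizer_singleton_iff.mpr e
  have wz : Commute (s * y * s⁻¹ * y⁻¹) z := ((Commute.mul_left sz yz).mul_left (Commute.inv_left sz)).mul_left yz.inv_left
  have y1 : (s * y * s⁻¹ * y⁻¹) ^ 64 ≠ 1 := fun e => by
    refine h.no_six hl y3 yz ha sB sz sQ ?_
    have hN : ((Nn z a h.zz).subgroupOf (centralizer {z})).Normal := ⟨fun q hq k =>
      mem_subgroupOf.mpr (h.normQ hl ha (mem_centralizer_singleton_iff.mp k.2) (mem_subgroupOf.mp hq))⟩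
    have c6 : Nat.card (centralizer {z} ⧸ (Nn z a h.zz).subgroupOf (centralizer {z})) = 6 := by
      have := card_eq_card_quotient_mul_card_subgroup ((Nn z a h.zz).subgroupOf (centralizer {z}))
      rw [cL, Nat.card_congr (subgroupOfEquivOfLe fun q hq => mL (mem_Nn.mp hq).1).toEquiv, h.card_N hl ha] at this
      omega
    have := six c6 (σ := QuotientGroup.mk ⟨y, mL yz⟩) (τ := QuotientGroup.mk ⟨s, mL sz⟩)
      (by rw [← QuotientGroup.mk_pow, show (⟨y, mL yz⟩ : centralizer {z}) ^ 3 = 1 from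
        Subtype.ext (y3 ▸ pow_orderOf_eq_one y), QuotientGroup.mk_one])
      (fun e => h.y_notMem hl y3 ha (mem_subgroupOf.mp ((QuotientGroup.eq_one_iff _).mp e)))
      (by
        simp only [← QuotientGroup.mk_inv, ← QuotientGroup.mk_mul, ← QuotientGroup.mk_pow]
        rw [show ((⟨s, mL sz⟩ * ⟨y, mL yz⟩ * ⟨s, mL sz⟩⁻¹ * ⟨y, mL yz⟩⁻¹ : centralizer {z})) ^ 64 = 1 from Subtype.ext e,
          QuotientGroup.mk_one])
    simp only [← QuotientGroup.mk_inv, ← QuotientGroup.mk_mul] at this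
    exact mem_subgroupOf.mp ((QuotientGroup.eq_one_iff _).mp this)
  have x3 : orderOf ((s * y * s⁻¹ * y⁻¹) ^ 64) = 3 := orderOf_eq_prime (by
    rw [← pow_mul, show 64 * 3 = 192 from rfl, ← cL]
    exact congrArg Subtype.val (pow_card_eq_one' (x := (⟨_, mL wz⟩ : centralizer {z})))) y1
  have si := inv_eq_of_mul_eq_one_right ss
  rcases (h.fr hl x3 (wz.pow_left _) ha).typ ss (conj_eq_of_commute sz) (fun q hq => h.normQ hl ha sz hq) (by
    rw [← conj_pow, ← inv_pow, si]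
    simp only [mul_inv_rev, inv_inv, si, ← mul_assoc, ss, one_mul]) cL vQ l.zv l.vz with e | e | e | e
  · obtain ⟨N, hN, -, -, c, -⟩ := e
    rcases hN.eq_bot_or_eq_top with rfl | rfl
    · simp at c
    · rw [card_top, h.card] at c
      cases c
  · obtain ⟨e⟩ := e
    have := two_mul_nat_card_alternatingGroup (α := Fin 8)
    rw [← Nat.card_congr e.toEquiv, h.card, Nat.card_perm, Nat.card_fin] at this
    exact absurd this (by decide)
  · obtain ⟨e⟩ := e
    have := two_mul_nat_card_alternatingGroup (α := Fin 9)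
    rw [← Nat.card_congr e.toEquiv, h.card, Nat.card_perm, Nat.card_fin] at this
    exact absurd this (by decide)
  · exact e

end H12

end Cfsg.Agent.M12R
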