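import Cfsg.Agent.M12R.H12
import Cfsg.Agent.Small.L33

/-!
# The centraliser of a non-central involution
-/

set_option autoImplicit false

namespace Cfsg.Agent.M12R

open Subgroup MulAction Equiv Cfsg.Agent.Local Cfsg.Agent.M11 Cfsg.Agent.Small

theorem s5_of_s6 (H : Subgroup (Perm (Fin 6))) (hH : Nat.card H = 120) :
    Nonempty (H ≃* Perm (Fin 5)) := by
  classical
  have hi : H.index = 6 := by
    have := H.card_mul_index
    rw [hH, Nat.card_perm, Nat.card_fin] at this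
    change _ = 720 at this
    omega
  have h1 : H.normalCore = ⊥ := by_contra fun e => by
    have := (nontrivial_iff_ne_bot _).2 e
    have h2 := card_le_of_le ((Perm.alternatingGroup_le_of_normal (N := H.normalCore)
      (by simp) this).trans H.normalCore_le)
    have h3 := alternatingGroup.index_eq_two (α := Fin 6)
    have h4 := (alternatingGroup (Fin 6)).card_mul_index
    rw [h3, Nat.card_perm, Nat.card_fin] at h4
    change _ = 720 at h4
    omega
  have h2 : ∀ g : H, ∀ c : Perm (Fin 6) ⧸ H, g.1 • c ≠ (1 : Perm (Fin 6)) ↔ c ≠ (1 : Perm (Fin 6)) :=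
    fun g c => not_congr (by
      rw [smul_eq_iff_eq_inv_smul, show g.1⁻¹ • ((1 : Perm (Fin 6)) : Perm (Fin 6) ⧸ H) =
        (1 : Perm (Fin 6)) from QuotientGroup.eq.2 (by simp)])
  let σ : H →* Perm {c : Perm (Fin 6) ⧸ H // c ≠ (1 : Perm (Fin 6))} :=
    { toFun := fun g => (toPerm g.1).subtypePerm (h2 g)
      map_one' := Equiv.ext fun c => Subtype.ext (one_smul (Perm (Fin 6)) c.1)
      map_mul' := fun g g' => Equiv.ext fun c => Subtype.ext (mul_smul g.1 g'.1 c.1) }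
  have h3 : Function.Injective σ := (injective_iff_map_eq_one σ).2 fun g hg => by
    refine Subtype.ext (mem_bot.1 (h1 ▸ H.normalCore_eq_ker ▸ Equiv.ext fun c => ?_))
    by_cases e : c = (1 : Perm (Fin 6))
    · exact e ▸ not_not.1 fun e' => (h2 g _).1 e' rfl
    · exact congrArg Subtype.val (congrArg (· ⟨c, e⟩) hg)
  have h4 : Nat.card {c : Perm (Fin 6) ⧸ H // c ≠ (1 : Perm (Fin 6))} = 5 := by
    have := Fintype.ofFinite (Perm (Fin 6) ⧸ H)
    rw [Nat.card_eq_fintype_card, Fintype.card_subtype_compl, ← Nat.card_eq_fintype_card, ← index, hi]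
    simp
  let τ := (Finite.equivFinOfCardEq h4).permCongrHom.toMonoidHom.comp σ
  have h5 : Function.Injective τ := (Finite.equivFinOfCardEq h4).permCongrHom.injective.comp h3
  exact ⟨MulEquiv.ofBijective τ (h5.bijective_of_nat_card_le (by
    rw [hH, Nat.card_perm, Nat.card_fin]; rfl))⟩

theorem s5_of {K : Type*} [Group K] [Finite K] (hK : Nat.card K = 240) {a : K} (ha : orderOf a = 2)
    (hc : ∀ g, Commute g a) (h5 : ∀ x : K, orderOf x = 5 → cc x ≤ 10) :
    ∃ f : K →* Perm (Fin 5), Function.Surjective f ∧ ∀ g, f g = 1 ↔ g = 1 ∨ g = a := by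
  classical
  have := Fintype.ofFinite K
  have := Fact.mk Nat.prime_five
  obtain ⟨x, hx⟩ := exists_prime_orderOf_dvd_card' (G := K) 5 (by rw [hK]; norm_num)
  have h : PP 5 x := ⟨by norm_num, hx, by rw [hK]; norm_num⟩
  obtain ⟨P, hP⟩ := h.syl.exists_sylow_of_top
  have hN : Nat.card (Sylow 5 K) = 6 := by
    have h1 := h.card_norm
    have h2 := Finset.card_le_card (s := EE 5 x) (t := Finset.univ.erase 0) fun i hi =>
      Finset.mem_erase.2 ⟨fun e => h.E0 (e ▸ hi), Finset.mem_univ _⟩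
    have h3 := P.card_eq_index_normalizer
    have h4 := card_sylow_modEq_one 5 K
    rw [← Sylow.coe_coe, hP] at h3
    have h6 := (normalizer (zpowers x : Set K)).card_mul_index
    have h7 := orderOf_dvd_cc (hc x).symm
    have h8 := orderOf_dvd_cc (rfl : x * x = x * x)
    have h9 := h5 x hx
    have h10 := cc_pos x
    rw [← h3, ← h1, hK] at h6
    change _ ≤ 4 at h2
    rw [Nat.ModEq] at h4
    rw [ha] at h7
    rw [hx] at h8
    rw [show cc x = 10 by omega] at h6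
    interval_cases (EE 5 x).card <;> omega
  let e := Finite.equivFinOfCardEq hN
  let ρ := e.permCongrHom.toMonoidHom.comp (toPermHom K (Sylow 5 K))
  have hρ : ∀ g i, ρ g i = i ↔ g ∈ normalizer ((e.symm i : Subgroup K) : Set K) := fun g i =>
    (e.eq_symm_apply).symm.trans Sylow.smul_eq_iff_mem_normalizer
  have h1 : ¬ 5 ∣ Nat.card ρ.ker := fun h1 => by
    obtain ⟨y, hy, h2⟩ := exists_mem_orderOf_eq_of_dvd_card Nat.prime_five h1
    obtain ⟨Q, hQ⟩ := (PP.syl ⟨by norm_num, h2, h.sq⟩).exists_sylow_of_top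
    have h1 : ∀ i, e.symm i = Q := fun i => by
      have h1 := Q.isPGroup'.inf_normalizer_sylow (e.symm i)
      rw [← Sylow.coe_coe, inf_eq_left.2 (hQ.le.trans (zpowers_le_of_mem ((hρ y i).1 (by
        rw [hy]; rfl)))), eq_comm, inf_eq_left] at h1
      exact Sylow.ext (Q.is_maximal' (e.symm i).isPGroup' h1)
    exact absurd (e.symm.injective ((h1 0).trans (h1 1).symm)) (by decide)
  have h2 : ρ.ker ≤ centralizer {x} := fun l hl => by
    have h2 := (hρ l (e P)).1 (by rw [hl]; rfl)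
    rw [e.symm_apply_apply, hP] at h2
    have h3 : l * x * l⁻¹ * x⁻¹ ∈ zpowers x :=
      mul_mem (conj_mem_of_mem_normalizer h2 (mem_zpowers x)) (inv_mem (mem_zpowers x))
    have h4 : l * x * l⁻¹ * x⁻¹ ∈ ρ.ker := by
      simpa only [mul_assoc] using mul_mem hl (ρ.normal_ker.conj_mem _ (inv_mem hl) x)
    have h6 := orderOf_dvd_card_of_mem h3
    rw [Nat.card_zpowers, hx, Nat.dvd_prime Nat.prime_five, orderOf_eq_one_iff] at h6
    rw [mem_centralizer_singleton_iff, ← mul_inv_eq_iff_eq_mul, ← mul_inv_eq_one]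
    exact h6.resolve_right fun e => h1 (e ▸ orderOf_dvd_card_of_mem h4)
  have h3 : a ∈ ρ.ker := Equiv.ext fun i => (hρ a i).2 (mem_normalizer_of_conj_mem fun n hn => by
    rwa [← (hc n).eq, mul_inv_cancel_right])
  have h4 : Nat.card ρ.ker = 2 := by
    have h6 : Nat.card ρ.ker ∣ cc x := card_dvd_of_le h2
    have h7 := orderOf_dvd_cc (hc x).symm
    have h8 := orderOf_dvd_cc (rfl : x * x = x * x)
    have h9 := h5 x hx
    have h10 := cc_pos x
    have h11 := ha ▸ orderOf_dvd_card_of_mem h3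
    rw [ha] at h7
    rw [hx] at h8
    rw [show cc x = 10 by omega] at h6
    have := Nat.le_of_dvd (by norm_num) h6
    interval_cases Nat.card ρ.ker <;> omega
  obtain ⟨τ⟩ := s5_of_s6 ρ.range (by
    have h2 := ρ.ker.card_mul_index
    rw [index_ker, h4, hK] at h2
    omega)
  refine ⟨τ.toMonoidHom.comp ρ.rangeRestrict, τ.surjective.comp ρ.rangeRestrict_surjective, fun g => ?_⟩
  rw [MonoidHom.comp_apply, MulEquiv.coe_toMonoidHom, map_eq_one_iff τ τ.injective, Subtype.ext_iff]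
  exact ⟨eq_or_of_card_two h4 h3 (ne_one_of_orderOf_eq_prime Nat.prime_two ha),
    by rintro (rfl | rfl); exacts [map_one ρ, h3]⟩

/-- double transpositions -/
def DT (σ : Perm (Fin 5)) : Prop := σ * σ = 1 ∧ σ ≠ 1 ∧ Perm.sign σ = 1

/-- transpositions -/
def TP (σ : Perm (Fin 5)) : Prop := σ * σ = 1 ∧ Perm.sign σ ≠ 1

instance : DecidablePred DT := fun _ => inferInstanceAs (Decidable (_ ∧ _))

instance : DecidablePred TP := fun _ => inferInstanceAs (Decidable (_ ∧ _))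

def d0 : Perm (Fin 5) := swap 0 1 * swap 2 3

def n0 : Perm (Fin 5) := swap 0 2 * swap 1 3

theorem s5_a : (Finset.univ.filter DT).card = 15 ∧ (Finset.univ.filter TP).card = 10 ∧
    (Finset.univ.filter fun σ => σ * d0 = d0 * σ).card = 8 := by decide +kernel

theorem s5_b : ∀ σ, (DT σ → ∃ c, c * σ * c⁻¹ = d0) ∧ (TP σ → ∃ c, c * σ * c⁻¹ = swap 0 1) := by
  decide +kernel

theorem s5_c : (∀ σ, σ * d0 = d0 * σ → ∃ j k l : Fin 2, σ = d0 ^ j.val * n0 ^ k.val * swap 0 1 ^ l.val) ∧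
    DT n0 ∧ TP (swap 0 1) ∧ n0 * d0 = d0 * n0 ∧ swap 0 1 * d0 = d0 * swap 0 1 ∧ n0 ≠ d0 ∧
    n0 * swap 0 1 * n0 = swap 0 1 * d0 := by decide +kernel

theorem DT.conj {σ : Perm (Fin 5)} (h : DT σ) (c : Perm (Fin 5)) : DT (c * σ * c⁻¹) :=
  ⟨by rw [conj_mul, h.1]; simp, by simpa using h.2.1, by simp [h.2.2]⟩

theorem TP.conj {σ : Perm (Fin 5)} (h : TP σ) (c : Perm (Fin 5)) : TP (c * σ * c⁻¹) :=
  ⟨by rw [conj_mul, h.1]; simp, by
    rw [map_mul, map_mul, map_inv, mul_right_comm, mul_inv_cancel, one_mul]; exact h.2⟩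

theorem le_of_inv {S : Set (Perm (Fin 5))} (hS : ∀ σ ∈ S, ∀ c, c * σ * c⁻¹ ∈ S) {P : Perm (Fin 5) → Prop}
    {ρ : Perm (Fin 5)} (hP : ∀ σ, P σ → ∃ c, c * σ * c⁻¹ = ρ) {σ : Perm (Fin 5)} (h1 : σ ∈ S) (h2 : P σ) :
    {σ | P σ} ⊆ S := fun τ hτ => by
  obtain ⟨c, hc⟩ := hP σ h2
  obtain ⟨d, hd⟩ := hP τ hτ
  have := hS _ (hc ▸ hS σ h1 c : ρ ∈ S) d⁻¹
  rwa [← hd, show d⁻¹ * (d * τ * d⁻¹) * d⁻¹⁻¹ = τ by group] at this

namespace H12

variable {G : Type*} [Group G] [Finite G] {z t : G} (h : H12 z t)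
include h

theorem nc {u : G} (h1 : IsConj z u) (h2 : IsConj t u) : False := by
  have := h.cz
  rw [cc_eq_of_isConj (h1.trans h2.symm), h.ct] at this
  omega

omit [Finite G] in
theorem oA {u : G} (h1 : IsConj t u) : orderOf u = 2 := (Char.isConj_orderOf h1).symm.trans h.t2

omit [Finite G] in
theorem oB {u : G} (h1 : IsConj z u) : orderOf u = 2 := (Char.isConj_orderOf h1).symm.trans h.z2

omit [Finite G] in
theorem n2' {u w : G} (h1 : IsConj z u) (h2 : IsConj z w) : ¬ IsConj t (u * w) := fun h3 => by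
  obtain ⟨c, rfl⟩ := isConj_iff.1 h2
  refine h.n2 (c⁻¹ * u * c) (h1.trans (isConj_iff.2 ⟨c⁻¹, by simp⟩))
    (h3.trans (isConj_iff.2 ⟨c⁻¹, by group⟩))

theorem conjT {a : G} (ha : IsConj t a) : H12 z a := by
  have e : ∀ u, IsConj a u ↔ IsConj t u := fun u => ⟨ha.trans, ha.symm.trans⟩
  obtain ⟨c, hc⟩ := isConj_iff.1 ha
  have key : ∀ w : G, {u | IsConj t u ∧ IsConj w (u * a)}.ncard =
      {u | IsConj t u ∧ IsConj w (u * t)}.ncard := fun w =>
    Set.ncard_congr (fun u _ => c⁻¹ * u * c) (fun u hu => ⟨hu.1.trans (isConj_iff.2 ⟨c⁻¹, by simp⟩),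
      hu.2.trans (isConj_iff.2 ⟨c⁻¹, by rw [← hc]; group⟩)⟩) (fun _ _ _ _ e => by simpa using e)
      fun u hu => ⟨c * u * c⁻¹, ⟨hu.1.trans (isConj_iff.2 ⟨c, rfl⟩),
        hu.2.trans (isConj_iff.2 ⟨c, by rw [← hc]; group⟩)⟩, by group⟩
  exact ⟨h.card, h.z2, h.oA ha, h.cz, (cc_eq_of_isConj ha).symm.trans h.ct,
    by simpa only [e] using h.cls, by simpa only [e] using h.n1, by simpa only [e] using h.n2,
    by simpa only [e, key] using h.n3, by simpa only [e, key] using h.n4, h.c5, h.noE⟩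

/-- an element of the class of `z` times a commuting element of the class of `t` -/
theorem mulA {u a : G} (hu : IsConj z u) (ha : IsConj t a) (hc : Commute u a) : IsConj t (u * a) := by
  have uu := Block.mul_self_of_orderOf (h.oB hu)
  have aa := Block.mul_self_of_orderOf (h.oA ha)
  refine (h.cls _ (orderOf_eq_prime (by rw [hc.mul_pow, pow_two, pow_two, uu, aa, one_mul]) fun e =>
    h.nc hu ?_)).resolve_left fun e => h.n2' hu e (by rwa [← mul_assoc, uu, one_mul])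
  rwa [← inv_eq_of_mul_eq_one_left e, inv_eq_of_mul_eq_one_right aa]

theorem str : ∃ f : centralizer ({t} : Set G) →* Perm (Fin 5), Function.Surjective f ∧
    (∀ g : centralizer ({t} : Set G), (g : G) = t → f g = 1) ∧
    (∀ g g', f g = f g' → (g : G) = g' ∨ (g : G) = g' * t) ∧
    (∀ σ, DT σ → ∃ v, f v = σ ∧ IsConj z v) ∧ (∀ σ, TP σ → ∃ b, f b = σ ∧ IsConj t b ∧ IsConj t (b * t)) ∧
    ∀ v : centralizer ({t} : Set G), IsConj z v → DT (f v) := by
  classical
  have mC : ∀ {g x : G}, g ∈ centralizer {x} ↔ Commute g x := mem_centralizer_singleton_iff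
  have tt := Block.mul_self_of_orderOf h.t2
  set K := centralizer ({t} : Set G)
  obtain ⟨f, hf, hk⟩ := s5_of (K := K) h.ct (a := ⟨t, mC.2 rfl⟩) ((orderOf_mk _ _).trans h.t2)
    (fun g => Subtype.ext (mC.1 g.2)) fun x hx => ((FT.card_centralizer_coe x).le.trans
      (card_le_of_le inf_le_right)).trans (h.c5 x ((orderOf_coe x).trans hx)).le
  have h1 : ∀ g g', f g = f g' → (g : G) = g' ∨ (g : G) = g' * t := fun g g' e =>
    ((hk (g'⁻¹ * g)).1 (by rw [map_mul, map_inv, e, inv_mul_cancel])).imp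
      (fun e => (inv_mul_eq_one.1 (congrArg Subtype.val e)).symm)
      fun e => inv_mul_eq_iff_eq_mul.1 (congrArg Subtype.val e)
  have cm : ∀ {u : G}, orderOf u = 2 → orderOf (u * t) = 2 → Commute u t := fun {u} h1 h2 => by
    have h3 := Block.mul_self_of_orderOf h1
    rw [Commute, SemiconjBy, ← inv_eq_of_mul_eq_one_right (Block.mul_self_of_orderOf h2), mul_inv_rev,
      inv_eq_of_mul_eq_one_right h3, inv_eq_of_mul_eq_one_right tt]
  have tJ : ∀ u : K, orderOf (u : G) = 2 → (u : G) ≠ t → DT (f u) ∨ TP (f u) := fun u h1 h2 => by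
    have h3 : f u * f u = 1 := by
      rw [← map_mul, show u * u = 1 from Subtype.ext (Block.mul_self_of_orderOf h1), map_one]
    have h4 : f u ≠ 1 := fun e => ((hk u).1 e).elim (fun e => by simp [e] at h1)
      fun e => h2 (congrArg Subtype.val e)
    by_cases h5 : Perm.sign (f u) = 1
    exacts [Or.inl ⟨h3, h4, h5⟩, Or.inr ⟨h3, h5⟩]
  set P1 := {u : K | IsConj t (u : G) ∧ IsConj t (u * t : G)}
  set P3 := {u : K | IsConj z (u : G)}
  have c1 : P1.ncard = 20 := h.n3 ▸ Set.ncard_congr (fun u _ => (u : G)) (fun _ hu => hu)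
    (fun _ _ _ _ e => Subtype.ext e) fun u hu => ⟨⟨u, mC.2 (cm (h.oA hu.1) (h.oA hu.2))⟩, hu, rfl⟩
  have c3 : P3.ncard = 15 := h.n4 ▸ Set.ncard_congr (fun u _ => (u * t : G))
    (fun u hu => ⟨h.mulA hu (IsConj.refl t) (mC.1 u.2), by rwa [mul_assoc, tt, mul_one]⟩)
    (fun _ _ _ _ e => Subtype.ext (mul_right_cancel e)) fun u hu => ⟨⟨u * t, mul_mem
      (mC.2 (cm (h.oA hu.1) (h.oB hu.2))) (mC.2 rfl)⟩, hu.2, by rw [mul_assoc, tt, mul_one]⟩
  have c4 : (f '' P3).ncard = 15 := c3 ▸ Set.InjOn.ncard_image fun u hu w hw e =>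
    (h1 u w e).elim Subtype.ext fun e => (h.nc hu (e ▸ h.mulA hw (IsConj.refl t) (mC.1 w.2))).elim
  have c2 : 10 ≤ (f '' P1).ncard := by
    have := Finset.card_le_mul_card_image (f := f) P1.toFinite.toFinset 2 fun σ hσ => by
      obtain ⟨w, -, rfl⟩ := Finset.mem_image.1 hσ
      exact (Finset.card_le_card (t := {w, w * ⟨t, mC.2 rfl⟩}) fun u hu => by
        rw [Finset.mem_insert, Finset.mem_singleton]
        exact (h1 u w (Finset.mem_filter.1 hu).2).imp Subtype.ext Subtype.ext).trans Finset.card_le_two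
    rw [← Set.ncard_eq_toFinset_card, c1, ← Set.ncard_coe_finset, Finset.coe_image,
      Set.Finite.coe_toFinset] at this
    omega
  have cD : {σ | DT σ}.ncard = 15 := by rw [← s5_a.1, ← Set.ncard_coe_finset, Finset.coe_filter]; simp
  have cT : {σ | TP σ}.ncard = 10 := by rw [← s5_a.2.1, ← Set.ncard_coe_finset, Finset.coe_filter]; simp
  have i3 : ∀ σ ∈ f '' P3, ∀ c, c * σ * c⁻¹ ∈ f '' P3 := by
    rintro _ ⟨u, hu, rfl⟩ c
    obtain ⟨c, rfl⟩ := hf c
    exact ⟨c * u * c⁻¹, hu.trans (isConj_iff.2 ⟨c, rfl⟩), by simp⟩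
  have j3 : ∀ u ∈ P3, DT (f u) ∨ TP (f u) := fun u hu =>
    tJ u (h.oB hu) fun e => h.nc hu (e ▸ IsConj.refl t)
  have e3 : {σ | DT σ} = f '' P3 := by
    obtain ⟨_, ⟨u, hu, rfl⟩, h2⟩ := Set.exists_mem_notMem_of_ncard_lt_ncard (s := {σ | TP σ})
      (t := f '' P3) (by omega)
    exact Set.eq_of_subset_of_ncard_le (le_of_inv i3 (fun σ => (s5_b σ).1) ⟨u, hu, rfl⟩
      ((j3 u hu).resolve_right h2)) (by omega)
  have e1 : f '' P1 = {σ | TP σ} := Set.eq_of_subset_of_ncard_le (by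
    rintro _ ⟨u, hu, rfl⟩
    refine (tJ u (h.oA hu.1) fun e => ?_).resolve_left fun e => ?_
    · have := h.oA hu.2
      rw [e, tt, orderOf_one] at this
      omega
    · obtain ⟨w, hw, e⟩ := e3.le e
      exact (h1 w u e).elim (fun e => h.nc hw (e ▸ hu.1)) fun e => h.nc hw (e ▸ hu.2)) (by omega)
  exact ⟨f, hf, fun g e => (hk g).2 (Or.inr (Subtype.ext e)), h1, fun σ hσ => let ⟨v, h2, h3⟩ := e3.le hσ; ⟨v, h3, h2⟩,
    fun σ hσ => let ⟨v, h2, h3⟩ := e1.ge hσ; ⟨v, h3, h2⟩, fun v hv => e3.ge ⟨v, hv, rfl⟩⟩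

theorem nosq {a g : G} (ha : IsConj t a) : g * g ≠ a := fun e => by
  have h' := h.conjT ha
  obtain ⟨f, -, h0, h1, h2, h3, -⟩ := h'.str
  have aa := Block.mul_self_of_orderOf h'.t2
  have a1 := ne_one_of_orderOf_eq_prime Nat.prime_two h'.t2
  have mC : ∀ {g x : G}, g ∈ centralizer {x} ↔ Commute g x := mem_centralizer_singleton_iff
  have hg : g ∈ centralizer {a} := mC.2 (e ▸ (Commute.refl g).mul_right (Commute.refl g))
  have key : ∀ u : centralizer {a}, (u : G) * u = 1 → f ⟨g, hg⟩ ≠ f u := fun u hu e' => by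
    rcases h1 _ _ e' with e' | e' <;> rw [show g = _ from e'] at e
    · exact a1 (e.symm.trans hu)
    · rw [(mC.1 u.2).symm.mul_mul_mul_comm, hu, aa, mul_one] at e
      exact a1 e.symm
  have h4 : f ⟨g, hg⟩ * f ⟨g, hg⟩ = 1 := (map_mul f _ _).symm.trans (h0 _ e)
  by_cases h5 : Perm.sign (f ⟨g, hg⟩) = 1
  · obtain ⟨v, h6, h7⟩ := h2 _ ⟨h4, by simpa using key 1 (by simp), h5⟩
    exact key v (Block.mul_self_of_orderOf (h'.oB h7)) h6.symm
  · obtain ⟨v, h6, h7, -⟩ := h3 _ ⟨h4, h5⟩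
    exact key v (Block.mul_self_of_orderOf (h'.oA h7)) h6.symm

theorem loc {a : G} (ha : IsConj t a) (hc : Commute a z) : ∃ v b, IsConj z v ∧ IsConj t b ∧
    IsConj t (a * b) ∧ IsConj t (a * v) ∧ v ≠ z ∧ Commute v z ∧ Commute b z ∧ Commute v a ∧
    Commute b a ∧ v * b * v = b * z ∧ Nat.card ↥(centralizer {a} ⊓ centralizer {z}) = 16 ∧
    ∀ g, Commute g a → Commute g z →
      ∃ i j k l : Fin 2, g = a ^ i.val * z ^ j.val * v ^ k.val * b ^ l.val := by
  classical
  have h' := h.conjT ha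
  have mC : ∀ {g x : G}, g ∈ centralizer {x} ↔ Commute g x := mem_centralizer_singleton_iff
  obtain ⟨f, hf, h0, h1, h2, h3, h4⟩ := h'.str
  have hz : z ∈ centralizer {a} := mC.2 hc.symm
  obtain ⟨c, hc'⟩ := (s5_b _).1 (h4 ⟨z, hz⟩ (IsConj.refl z))
  obtain ⟨s1, s2, s3, s4, s5, s6, s7⟩ := s5_c
  obtain ⟨v, v1, v2⟩ := h2 _ (s2.conj c⁻¹)
  obtain ⟨b, b1, b2, b3⟩ := h3 _ (s3.conj c⁻¹)
  obtain ⟨F, hF⟩ : ∃ F : centralizer ({a} : Set G) →* Perm (Fin 5), ∀ g, F g = c * f g * c⁻¹ :=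
    ⟨(MulAut.conj c).toMonoidHom.comp f, fun _ => rfl⟩
  have F1 : ∀ g g', F g = F g' → (g : G) = g' ∨ (g : G) = g' * a := fun g g' e =>
    h1 g g' (by simpa [hF] using e)
  have Fz : F ⟨z, hz⟩ = d0 := (hF _).trans hc'
  have Fv : F v = n0 := by rw [hF, v1]; group
  have Fb : F b = swap 0 1 := by rw [hF, b1]; group
  have za := h.mulA (IsConj.refl z) ha hc.symm
  have F2 : ∀ g, F g * d0 = d0 * F g ↔ Commute (g : G) z := fun g => by
    refine ⟨fun e => mul_inv_eq_iff_eq_mul.1 ((F1 (g * ⟨z, hz⟩ * g⁻¹) ⟨z, hz⟩ (by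
      rw [map_mul, map_mul, map_inv, Fz, e, mul_inv_cancel_right])).resolve_right fun e' =>
        h.nc (isConj_iff.2 ⟨g, e'⟩) za), fun e => ?_⟩
    rw [← Fz, ← map_mul, ← map_mul]
    exact congrArg F (Subtype.ext e)
  have vz := (F2 v).1 (Fv ▸ s4)
  have bz := (F2 b).1 (Fb ▸ s5)
  have va := mC.1 v.2
  have ba := mC.1 b.2
  refine ⟨v, b, v2, ha.trans b2, ba.eq ▸ ha.trans b3, va.eq ▸ h.mulA v2 ha va,
    fun e => s6 (by rw [← Fv, ← Fz]; exact congrArg F (Subtype.ext e)), vz, bz, va, ba, ?_, ?_,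
    fun g ga gz => ?_⟩
  · refine (F1 (v * b * v) (b * ⟨z, hz⟩) (by simp only [map_mul, Fv, Fb, Fz, s7])).resolve_right
      fun e => h.nosq za (g := v * b) ?_
    change (v : G) * b * v = b * z * a at e
    rw [← mul_assoc, e, mul_assoc, ← ba.eq, ← mul_assoc, mul_assoc _ z, ← bz.eq, ← mul_assoc,
      Block.mul_self_of_orderOf (h'.oA b2), one_mul]
  · have h5 : (centralizer {d0}).comap F = (centralizer {z}).subgroupOf (centralizer {a}) := by
      ext g
      rw [mem_comap, mem_subgroupOf, mem_centralizer_singleton_iff, mC, F2]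
    have h6 := (centralizer {d0}).index_comap_of_surjective (f := F) fun σ => by
      obtain ⟨g, hg⟩ := hf (c⁻¹ * σ * c)
      exact ⟨g, by rw [hF, hg]; group⟩
    have h7 : Nat.card (centralizer {d0}) = 8 := by
      rw [← s5_a.2.2, ← Fintype.card_subtype, ← Nat.card_eq_fintype_card]
      exact Nat.card_congr (Equiv.subtypeEquivRight fun _ => mem_centralizer_singleton_iff)
    have h8 := (centralizer {d0}).card_mul_index
    have h9 := ((centralizer {d0}).comap F).card_mul_index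
    rw [h7, Nat.card_perm, Nat.card_fin] at h8
    rw [h6, h5, show Nat.card (centralizer {a}) = 240 from h'.ct, ← inf_subgroupOf_left,
      Nat.card_congr (subgroupOfEquivOfLe inf_le_left).toEquiv] at h9
    change _ = 120 at h8
    rw [show (centralizer {d0}).index = 15 by omega] at h9
    omega
  · obtain ⟨j, k, l, e⟩ := s1 _ ((F2 ⟨g, mC.2 ga⟩).2 gz)
    rcases F1 ⟨g, mC.2 ga⟩ (⟨z, hz⟩ ^ j.val * v ^ k.val * b ^ l.val) (by
      simp only [map_mul, map_pow, Fv, Fb, Fz, e]) with e | e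
    · exact ⟨0, j, k, l, by simpa using e⟩
    · refine ⟨1, j, k, l, e.trans ((mC.1 (Subtype.prop _)).eq.trans ?_)⟩
      simp [mul_assoc]

end H12

end Cfsg.Agent.M12R
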