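import Cfsg.Agent.M12R.H12
import Cfsg.Agent.M12C.Frame

/-!
# The involution centraliser of order 192: the subgroup `Q`
-/

set_option autoImplicit false
set_option linter.unusedSectionVars false

namespace Cfsg.Agent.M12R

open Subgroup Cfsg.Agent.M11

variable {G : Type*} [Group G] {z t : G}

/-- Equality modulo the involution `z`. -/
def Ez (z p q : G) : Prop := p = q ∨ p = q * z

namespace Ez

theorem rfl' {p : G} : Ez z p p := Or.inl rfl

theorem mz {p : G} : Ez z (p * z) p := Or.inr rfl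

theorem symm (hz : z * z = 1) {p q : G} (h : Ez z p q) : Ez z q p :=
  h.elim (fun e => Or.inl e.symm) fun e => Or.inr (by rw [e, mul_assoc, hz, mul_one])

theorem trans (hz : z * z = 1) {p q r : G} (h : Ez z p q) (h' : Ez z q r) : Ez z p r := by
  rcases h with rfl | rfl <;> rcases h' with rfl | rfl
  exacts [rfl', mz, mz, Or.inl (by rw [mul_assoc, hz, mul_one])]

theorem mul (hz : z * z = 1) {p q p' q' : G} (h : Ez z p q) (h' : Ez z p' q') (hc : Commute q' z) :
    Ez z (p * p') (q * q') := by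
  rcases h with rfl | rfl <;> rcases h' with rfl | rfl
  · exact rfl'
  · exact Or.inr (mul_assoc _ _ _).symm
  · exact Or.inr (by rw [mul_assoc, ← hc.eq, mul_assoc])
  · exact Or.inl (by rw [mul_assoc, ← mul_assoc z, ← hc.eq, mul_assoc q', hz, mul_one])

theorem mul_left (g : G) {p q : G} (h : Ez z p q) : Ez z (g * p) (g * q) :=
  h.elim (fun e => Or.inl (by rw [e])) fun e => Or.inr (by rw [e, mul_assoc])

theorem mul_right {g : G} (hg : Commute g z) {p q : G} (h : Ez z p q) : Ez z (p * g) (q * g) :=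
  h.elim (fun e => Or.inl (by rw [e])) fun e => Or.inr (by rw [e, mul_assoc, ← hg.eq, mul_assoc])

theorem conj {g : G} (hg : Commute g z) {p q : G} (h : Ez z p q) : Ez z (g * p * g⁻¹) (g * q * g⁻¹) :=
  (h.mul_left g).mul_right hg.inv_left

theorem comm {p q r : G} (h : Ez z p q) (hz : Commute z r) (hq : Commute q r) : Commute p r := by
  rcases h with rfl | rfl
  exacts [hq, hq.mul_left hz]

theorem cz {p q : G} (h : Ez z p q) (hq : Commute q z) : Commute p z := h.comm (Commute.refl z) hq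

end Ez

theorem two_mul_le_ncard [Finite G] (hz : z * z = 1) (z1 : z ≠ 1) {l : List G} (hl : l.Pairwise fun p q => ¬ Ez z p q)
    {s : Set G} (hs : ∀ p ∈ l, p ∈ s ∧ p * z ∈ s) : 2 * l.length ≤ s.ncard := by
  classical
  have h1 : l.Nodup := hl.imp fun h e => h (Or.inl e)
  have h2 : (l ++ l.map (· * z)).Nodup := by
    refine List.nodup_append.mpr ⟨h1, h1.map (mul_left_injective z), fun p hp q hq e => ?_⟩
    obtain ⟨r, hr, rfl⟩ := List.mem_map.mp hq
    by_cases hpr : p = r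
    · exact z1 (by rw [hpr] at e; exact mul_eq_left.mp e.symm)
    · have : Std.Symm fun p q : G => ¬ Ez z p q := ⟨fun a b h h' => h (h'.symm hz)⟩
      exact hl.forall hp hr hpr (Or.inr e)
  have h3 := Set.ncard_le_ncard (s := ((l ++ l.map (· * z)).toFinset : Set G)) (t := s) (fun p hp => by
    simp only [List.coe_toFinset, List.mem_append, List.mem_map, Set.mem_ofPred_eq] at hp
    rcases hp with hp | ⟨r, hr, rfl⟩
    exacts [(hs p hp).1, (hs r hr).2])
  rw [Set.ncard_coe_finset, List.toFinset_card_of_nodup h2, List.length_append, List.length_map] at h3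
  omega

/-- Involutions of the second class commuting with `z`. -/
def AA (z t a : G) : Prop := IsConj t a ∧ Commute a z

/-- The structure of `C(a) ∩ C(z)`. -/
structure Lc (z t a v b : G) : Prop where
  zv : IsConj z v
  tb : IsConj t b
  tab : IsConj t (a * b)
  tav : IsConj t (a * v)
  vz : v ≠ z
  cvz : Commute v z
  cbz : Commute b z
  cva : Commute v a
  cba : Commute b a
  vbv : v * b * v = b * z
  card : Nat.card ↥(centralizer {a} ⊓ centralizer {z} : Subgroup G) = 16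
  gen : ∀ g, Commute g a → Commute g z → ∃ i j k l : Fin 2, g = a ^ i.val * z ^ j.val * v ^ k.val * b ^ l.val

/-- The local hypothesis. -/
def HL (z t : G) : Prop := ∀ a, IsConj t a → Commute a z → ∃ v b, IsConj z v ∧ IsConj t b ∧ IsConj t (a*b) ∧
  IsConj t (a*v) ∧ v ≠ z ∧ Commute v z ∧ Commute b z ∧ Commute v a ∧ Commute b a ∧ v*b*v = b*z ∧
  Nat.card ↥(centralizer {a} ⊓ centralizer {z} : Subgroup G) = 16 ∧
  ∀ g, Commute g a → Commute g z → ∃ i j k l : Fin 2, g = a^i.val * z^j.val * v^k.val * b^l.val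

theorem HL.lc (hl : HL z t) {a : G} (ha : AA z t a) : ∃ v b, Lc z t a v b := by
  obtain ⟨v, b, h1, h2, h3, h4, h5, h6, h7, h8, h9, h10, h11, h12⟩ := hl a ha.1 ha.2
  exact ⟨v, b, h1, h2, h3, h4, h5, h6, h7, h8, h9, h10, h11, h12⟩

/-- The stabiliser of the pair `{a, a z}`. -/
def Nn (z a : G) (hz : z * z = 1) : Subgroup G where
  carrier := {g | Commute g z ∧ Ez z (g * a * g⁻¹) a}
  one_mem' := ⟨Commute.one_left z, Or.inl (by simp)⟩
  mul_mem' := fun {g k} hg hk => ⟨hg.1.mul_left hk.1, by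
    rw [show g * k * a * (g * k)⁻¹ = g * (k * a * k⁻¹) * g⁻¹ by group]
    exact (hk.2.conj hg.1).trans hz hg.2⟩
  inv_mem' := fun {g} hg => ⟨hg.1.inv_left, by
    have := (hg.2.conj hg.1.inv_left).symm hz
    rwa [show g⁻¹ * (g * a * g⁻¹) * g⁻¹⁻¹ = a by group] at this⟩

theorem mem_Nn {a g : G} {hz : z * z = 1} : g ∈ Nn z a hz ↔ Commute g z ∧ Ez z (g * a * g⁻¹) a := Iff.rfl

theorem conj_eq_of_commute {g a : G} (h : Commute g a) : g * a * g⁻¹ = a := by rw [h.eq]; group

theorem commute_of_conj_eq {g a : G} (h : g * a * g⁻¹ = a) : Commute g a := mul_inv_eq_iff_eq_mul.mp h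

theorem commute_conj {a b : G} (g : G) (h : Commute a b) : Commute (g * a * g⁻¹) (g * b * g⁻¹) := by
  rw [commute_iff_eq, conj_mul, conj_mul, h.eq]

theorem commute_conj_iff {a b : G} (g : G) : Commute (g * a * g⁻¹) (g * b * g⁻¹) ↔ Commute a b :=
  ⟨fun h => by simpa [mul_assoc] using commute_conj g⁻¹ h, commute_conj g⟩

variable [Finite G]

namespace H12

variable (h : H12 z t)
include h

theorem sqB {u : G} (hu : IsConj z u) : u * u = 1 := by
  rw [← pow_two, ← h.z2, orderOf_eq_of_isConj hu, pow_orderOf_eq_one]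

theorem neB {u : G} (hu : IsConj z u) : u ≠ 1 := fun e => by
  have := orderOf_eq_of_isConj hu
  rw [h.z2, e, orderOf_one] at this
  cases this

theorem sqA {u : G} (hu : IsConj t u) : u * u = 1 := by
  rw [← pow_two, ← h.t2, orderOf_eq_of_isConj hu, pow_orderOf_eq_one]

theorem neA {u : G} (hu : IsConj t u) : u ≠ 1 := fun e => by
  have := orderOf_eq_of_isConj hu
  rw [h.t2, e, orderOf_one] at this
  cases this

theorem zz : z * z = 1 := h.sqB (IsConj.refl z)

theorem z1 : z ≠ 1 := h.neB (IsConj.refl z)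

theorem notAB {u : G} (h1 : IsConj t u) (h2 : IsConj z u) : False := by
  have := (cc_eq_of_isConj h1).trans (cc_eq_of_isConj h2).symm
  rw [h.cz, h.ct] at this
  cases this

theorem cls' {u : G} (h1 : u * u = 1) (h2 : u ≠ 1) : IsConj z u ∨ IsConj t u :=
  h.cls u (orderOf_eq_prime (by rw [pow_two, h1]) h2)

theorem BB {u w : G} (hu : IsConj z u) (hw : IsConj z w) (hc : Commute u w) : u * w = 1 ∨ IsConj z (u * w) := by
  by_cases e : u * w = 1
  · exact Or.inl e
  refine Or.inr ((h.cls' (by rw [hc.symm.mul_mul_mul_comm, h.sqB hu, h.sqB hw, mul_one]) e).resolve_right fun e1 => ?_)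
  obtain ⟨g, rfl⟩ := isConj_iff.mp hw
  refine h.n2 (g⁻¹ * u * g) (hu.trans (isConj_iff.mpr ⟨g⁻¹, by simp⟩)) (e1.trans (isConj_iff.mpr ⟨g⁻¹, by group⟩))

theorem AA_mz {a : G} (ha : AA z t a) : AA z t (a * z) := by
  refine ⟨(h.cls' (by rw [ha.2.symm.mul_mul_mul_comm, h.sqA ha.1, h.zz, mul_one]) fun e => h.notAB ha.1 ?_).resolve_left
    fun e => h.n2 _ e (by rw [mul_assoc, h.zz, mul_one]; exact ha.1), ha.2.mul_left (Commute.refl z)⟩
  rw [show a = z by rw [← mul_one a, ← h.zz, ← mul_assoc, e, one_mul]]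

theorem AA_ez {a p : G} (ha : AA z t a) (e : Ez z p a) : AA z t p := by
  rcases e with rfl | rfl
  exacts [ha, h.AA_mz ha]

omit h in
theorem AA_conj {a g : G} (ha : AA z t a) (hg : Commute g z) : AA z t (g * a * g⁻¹) :=
  ⟨ha.1.trans (isConj_iff.mpr ⟨g, rfl⟩), (hg.mul_left ha.2).mul_left hg.inv_left⟩

theorem ncard_AA : {a | AA z t a}.ncard = 12 := by
  rw [← h.n1]
  congr 1
  ext a
  refine ⟨fun ha => ⟨ha.1, (h.AA_mz ha).1⟩, fun ha => ⟨ha.1, ?_⟩⟩
  have e := h.sqA ha.2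
  rw [commute_iff_eq, ← inv_eq_of_mul_eq_one_right e, mul_inv_rev, inv_eq_of_mul_eq_one_right h.zz,
    inv_eq_of_mul_eq_one_right (h.sqA ha.1)]

theorem not_ez_one {c : G} (hc : IsConj t c) : ¬ Ez z c 1 := fun e =>
  e.elim (h.neA hc) fun e => h.notAB hc (by rw [e, one_mul])

theorem B_mz {v : G} (hv : IsConj z v) (vz : v ≠ z) (hc : Commute v z) : IsConj z (v * z) :=
  (h.BB hv (IsConj.refl z) hc).resolve_left fun e => vz (by rw [← mul_one v, ← h.zz, ← mul_assoc, e, one_mul])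

theorem B_ez {v p : G} (hv : IsConj z v) (vz : v ≠ z) (hc : Commute v z) (e : Ez z p v) : IsConj z p ∧ p ≠ z := by
  rcases e with rfl | rfl
  exacts [⟨hv, vz⟩, ⟨h.B_mz hv vz hc, fun e => h.neB hv (mul_eq_right.mp e)⟩]

end H12

namespace Lc

variable (h : H12 z t) {a v b : G} (ha : AA z t a) (l : Lc z t a v b)
include h ha l

theorem vb : v * b = b * v * z := by
  have h1 := h.sqB l.zv
  calc v * b = v * b * v * v := by rw [mul_assoc _ v, h1, mul_one]
    _ = b * v * z := by rw [l.vbv, mul_assoc, ← l.cvz.eq, mul_assoc]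

theorem nvb : ¬ Commute v b := fun e => h.z1 (by
  have := l.vb h ha
  rw [e.eq] at this
  exact mul_eq_left.mp this.symm)

theorem aav : AA z t (a * v) := ⟨l.tav, ha.2.mul_left l.cvz⟩

theorem aab : AA z t (a * b) := ⟨l.tab, ha.2.mul_left l.cbz⟩

theorem ab : AA z t b := ⟨l.tb, l.cbz⟩

theorem rep {g : G} (h1 : Commute g a) (h2 : Commute g z) : Ez z g 1 ∨ Ez z g a ∨ Ez z g v ∨ Ez z g (a * v) ∨
    Ez z g b ∨ Ez z g (a * b) ∨ Ez z g (v * b) ∨ Ez z g (a * (v * b)) := by
  obtain ⟨i, j, k, m, rfl⟩ := l.gen g h1 h2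
  have h3 : Ez z (a ^ i.val * z ^ j.val * v ^ k.val * b ^ m.val) (a ^ i.val * v ^ k.val * b ^ m.val) := by
    refine Ez.mul_right (l.cbz.pow_left _) (Ez.mul_right (l.cvz.pow_left _) ?_)
    fin_cases j
    · exact Or.inl (by simp)
    · exact Or.inr (by simp)
  fin_cases i <;> fin_cases k <;> fin_cases m <;> simp only [pow_zero, pow_one, one_mul, mul_one, mul_assoc] at h3 ⊢ <;>
    simp only [h3, true_or, or_true]

theorem repA {c : G} (hc : AA z t c) (h1 : Commute c a) :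
    Ez z c a ∨ Ez z c (a * v) ∨ Ez z c b ∨ Ez z c (a * b) := by
  have h0 : ∀ w, Commute w z → w * w = z → ¬ Ez z c w := fun w w1 w2 e => h.z1 (by
    have := h.sqA hc.1
    rcases e with rfl | rfl
    · rw [← w2, this]
    · rw [w1.symm.mul_mul_mul_comm, h.zz, mul_one] at this
      rw [← w2, this])
  have h2 : v * b * (v * b) = z := by
    rw [← mul_assoc, l.vbv, mul_assoc, ← l.cbz.eq, ← mul_assoc, h.sqA l.tb, one_mul]
  rcases l.rep h ha h1 hc.2 with e | e | e | e | e | e | e | e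
  · exact absurd e (h.not_ez_one hc.1)
  · exact Or.inl e
  · exact (h.notAB hc.1 (h.B_ez l.zv l.vz l.cvz e).1).elim
  · exact Or.inr (Or.inl e)
  · exact Or.inr (Or.inr (Or.inl e))
  · exact Or.inr (Or.inr (Or.inr e))
  · exact absurd e (h0 _ (l.cvz.mul_left l.cbz) h2)
  · exact absurd e (h0 _ (ha.2.mul_left (l.cvz.mul_left l.cbz)) (by
      rw [(l.cva.mul_left l.cba).mul_mul_mul_comm, h.sqA ha.1, h2, one_mul]))

theorem cen {g : G} (h1 : Commute g a) (h2 : Commute g z) (h3 : Commute g v) (h4 : Commute g b) :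
    Ez z g 1 ∨ Ez z g a := by
  have hv : ∀ w, Ez z g w → Commute w v := fun w e => (e.symm h.zz).comm l.cvz.symm h3
  have hb : ∀ w, Ez z g w → Commute w b := fun w e => (e.symm h.zz).comm l.cbz.symm h4
  have nb := l.nvb h ha
  rcases l.rep h ha h1 h2 with e | e | e | e | e | e | e | e
  · exact Or.inl e
  · exact Or.inr e
  · exact absurd (hb _ e) nb
  · exact absurd (by simpa using l.cba.symm.inv_left.mul_left (hb _ e)) nb
  · exact absurd (hv _ e).symm nb
  · exact absurd (Commute.symm (by simpa using l.cva.symm.inv_left.mul_left (hv _ e))) nb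
  · exact absurd (Commute.symm (by simpa using (Commute.refl v).inv_left.mul_left (hv _ e))) nb
  · exact absurd (Commute.symm (by
      simpa using (Commute.refl v).inv_left.mul_left (l.cva.symm.inv_left.mul_left (hv _ e)))) nb

omit h ha in
theorem le_sub {K : Subgroup G} (k1 : a ∈ K) (k2 : z ∈ K) (k3 : v ∈ K) (k4 : b ∈ K) {g : G} (h1 : Commute g a)
    (h2 : Commute g z) : g ∈ K := by
  obtain ⟨i, j, k, m, rfl⟩ := l.gen g h1 h2
  exact mul_mem (mul_mem (mul_mem (pow_mem k1 _) (pow_mem k2 _)) (pow_mem k3 _)) (pow_mem k4 _)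

theorem le_N {c g : G} (hc : AA z t c) (h0 : Commute c a) (h1 : Commute g a) (h2 : Commute g z) : g ∈ Nn z c h.zz := by
  have k0 : ∀ {u w : G}, Commute u z → Ez z c w → Ez z (u * w * u⁻¹) w → Ez z (u * c * u⁻¹) c := fun hu e e' =>
    ((e.conj hu).trans h.zz e').trans h.zz (e.symm h.zz)
  have e1 : v * b * v⁻¹ = b * z := by rw [inv_eq_of_mul_eq_one_right (h.sqB l.zv), l.vbv]
  have e2 : b * v * b⁻¹ = v * z := by
    rw [mul_inv_eq_iff_eq_mul, mul_assoc v, ← l.cbz.eq, ← mul_assoc, l.vb h ha, mul_assoc _ z, h.zz, mul_one]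
  refine l.le_sub (mem_Nn.mpr ⟨ha.2, Or.inl (conj_eq_of_commute h0.symm)⟩)
    (mem_Nn.mpr ⟨Commute.refl z, Or.inl (conj_eq_of_commute hc.2.symm)⟩)
    (mem_Nn.mpr ⟨l.cvz, ?_⟩) (mem_Nn.mpr ⟨l.cbz, ?_⟩) h1 h2 <;> rcases l.repA h ha hc h0 with e | e | e | e
  · exact k0 l.cvz e (Or.inl (conj_eq_of_commute l.cva))
  · exact k0 l.cvz e (Or.inl (conj_eq_of_commute (l.cva.mul_right (Commute.refl v))))
  · exact k0 l.cvz e (Or.inr e1)
  · exact k0 l.cvz e (Or.inr (by rw [← conj_mul, conj_eq_of_commute l.cva, e1, mul_assoc]))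
  · exact k0 l.cbz e (Or.inl (conj_eq_of_commute l.cba))
  · exact k0 l.cbz e (Or.inr (by rw [← conj_mul, conj_eq_of_commute l.cba, e2, mul_assoc]))
  · exact k0 l.cbz e (Or.inl (conj_eq_of_commute (Commute.refl b)))
  · exact k0 l.cbz e (Or.inl (conj_eq_of_commute (l.cba.mul_right (Commute.refl b))))

theorem n_av_b : ¬ Commute (a * v) b := fun e => l.nvb h ha (by simpa using l.cba.symm.inv_left.mul_left e)

theorem n_av_ab : ¬ Commute (a * v) (a * b) := fun e =>
  l.n_av_b h ha (by simpa using ((Commute.refl a).mul_left l.cva).inv_right.mul_right e)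

theorem n_b_ab : ¬ Ez z b (a * b) := fun e => h.not_ez_one ha.1 (by
  simpa using (e.mul_right l.cbz.inv_left).symm h.zz)

theorem eight : 8 ≤ {c | AA z t c ∧ Commute c a}.ncard := by
  have nb := l.nvb h ha
  refine two_mul_le_ncard h.zz h.z1 (l := [a, a * v, b, a * b]) ?_ ?_
  · simp only [List.pairwise_cons, List.mem_cons, List.not_mem_nil, or_false, forall_eq_or_imp, forall_eq, false_imp_iff,
      implies_true, List.Pairwise.nil, and_true]
    refine ⟨⟨fun e => ?_, fun e => ?_, fun e => ?_⟩, ⟨fun e => ?_, fun e => ?_⟩, l.n_b_ab h ha⟩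
    · have : Ez z v 1 := by simpa using (e.mul_left a⁻¹).symm h.zz
      exact this.elim (h.neB l.zv) fun e => l.vz (by simpa using e)
    · exact nb ((e.symm h.zz).comm l.cvz.symm l.cva.symm).symm
    · exact h.not_ez_one l.tb (by simpa using (e.mul_left a⁻¹).symm h.zz)
    · exact l.n_av_b h ha (e.comm l.cbz.symm (Commute.refl b))
    · exact l.n_av_b h ha (e.comm l.cbz.symm (l.cba.symm.mul_left (Commute.refl b)))
  · have k : ∀ c, AA z t c → Commute c a → c ∈ {c | AA z t c ∧ Commute c a} ∧ c * z ∈ {c | AA z t c ∧ Commute c a} :=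
      fun c h1 h2 => ⟨⟨h1, h2⟩, h.AA_mz h1, h2.mul_left ha.2.symm⟩
    simp only [List.mem_cons, List.not_mem_nil, or_false, forall_eq_or_imp, forall_eq]
    exact ⟨k _ ha (Commute.refl a), k _ (l.aav h ha) ((Commute.refl a).mul_left l.cva), k _ (l.ab h ha) l.cba,
      k _ (l.aab h ha) ((Commute.refl a).mul_left l.cba)⟩

end Lc

namespace H12

variable (h : H12 z t) (hl : HL z t)
include h hl

theorem four {a : G} (ha : AA z t a) : {c | AA z t c ∧ ¬ Commute c a}.ncard ≤ 4 := by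
  obtain ⟨v, b, l⟩ := hl.lc ha
  have h1 := l.eight h ha
  have h2 := Set.ncard_union_eq (s := {c | AA z t c ∧ Commute c a}) (t := {c | AA z t c ∧ ¬ Commute c a})
    (Set.disjoint_left.mpr fun c h1 h2 => h2.2 h1.2)
  rw [show {c | AA z t c ∧ Commute c a} ∪ {c | AA z t c ∧ ¬ Commute c a} = {c | AA z t c} by
    ext c; simp only [Set.mem_union, Set.mem_ofPred_eq]; tauto, h.ncard_AA] at h2
  omega

theorem transA {a c : G} (ha : AA z t a) (hc : AA z t c) : ∃ g, Commute g z ∧ g * a * g⁻¹ = c := by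
  obtain ⟨v, b, l⟩ := hl.lc ha
  have h1 := card_inf_centralizer_mul (centralizer {z}) a
  rw [inf_comm, l.card, show Nat.card (centralizer {z} : Subgroup G) = 192 from h.cz] at h1
  have h2 := Set.eq_of_subset_of_ncard_le (s := {w | ∃ r ∈ centralizer {z}, r * a * r⁻¹ = w}) (t := {c | AA z t c})
    (by rintro _ ⟨r, hr, rfl⟩; exact AA_conj ha (mem_centralizer_singleton_iff.mp hr)) (by rw [h.ncard_AA]; omega)
  obtain ⟨r, hr, e⟩ := h2.ge hc
  exact ⟨r, mem_centralizer_singleton_iff.mp hr, e⟩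

theorem N_le {a c : G} (ha : AA z t a) (hc : AA z t c) (h0 : Commute c a) : Nn z a h.zz ≤ Nn z c h.zz := by
  obtain ⟨v, b, l⟩ := hl.lc ha
  obtain ⟨v', b', l'⟩ := hl.lc hc
  intro g hg
  by_cases e : ∀ x, Commute x c → Commute x z → Commute x a
  · have e1 := (l'.cen h hc h0.symm ha.2 (e _ l'.cva l'.cvz).symm (e _ l'.cba l'.cbz).symm).resolve_left
      (h.not_ez_one ha.1)
    exact ⟨hg.1, (((e1.symm h.zz).conj hg.1).trans h.zz hg.2).trans h.zz e1⟩
  push Not at e
  obtain ⟨x, x1, x2, x3⟩ := e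
  have x4 := (l'.le_N h hc ha h0.symm x1 x2).2.resolve_left fun e => x3 (commute_of_conj_eq e)
  rcases hg.2 with e | e
  · exact l.le_N h ha hc h0 (commute_of_conj_eq e) hg.1
  · have := l.le_N h ha hc h0 (g := x⁻¹ * g) (commute_of_conj_eq (by
      rw [show x⁻¹ * g * a * (x⁻¹ * g)⁻¹ = x⁻¹ * (g * a * g⁻¹) * x by group, e, ← x4]; group)) (x2.inv_left.mul_left hg.1)
    simpa using mul_mem (show x ∈ Nn z c h.zz from ⟨x2, Or.inl (conj_eq_of_commute x1)⟩) this

theorem N_le' {a c : G} (ha : AA z t a) (hc : AA z t c) : Nn z a h.zz ≤ Nn z c h.zz := by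
  obtain ⟨v, b, l⟩ := hl.lc hc
  obtain ⟨d, d1, d2, d3⟩ : ∃ d, AA z t d ∧ Commute d a ∧ Commute d c := by
    by_contra! e
    have := Set.ncard_le_ncard (s := {d | AA z t d ∧ Commute d c}) (t := {d | AA z t d ∧ ¬ Commute d a})
      fun d hd => ⟨hd.1, fun e1 => e d hd.1 e1 hd.2⟩
    have := l.eight h hc
    have := h.four hl ha
    omega
  exact (h.N_le hl ha d1 d2).trans (h.N_le hl d1 hc d3.symm)

theorem card_N {a : G} (ha : AA z t a) : Nat.card (Nn z a h.zz) = 32 := by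
  obtain ⟨v, b, l⟩ := hl.lc ha
  have h1 := card_inf_centralizer_mul (Nn z a h.zz) a
  have h2 : Nn z a h.zz ⊓ centralizer {a} = centralizer {a} ⊓ centralizer {z} := by
    ext g
    simp only [mem_inf, mem_centralizer_singleton_iff, mem_Nn]
    exact ⟨fun e => ⟨e.2, e.1.1⟩, fun e => ⟨⟨e.2, Or.inl (conj_eq_of_commute e.1)⟩, e.1⟩⟩
  have h3 : {w | ∃ r ∈ Nn z a h.zz, r * a * r⁻¹ = w} = {a, a * z} := by
    ext w
    refine ⟨fun ⟨r, hr, e⟩ => e ▸ hr.2, fun e => e.elim (fun e => ⟨1, one_mem _, by simp [e]⟩) fun e => ?_⟩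
    obtain ⟨g, g1, g2⟩ := h.transA hl ha (h.AA_mz ha)
    exact ⟨g, ⟨g1, Or.inr g2⟩, g2.trans (Eq.symm e)⟩
  rw [h2, h3, l.card, Set.ncard_pair (fun e => h.z1 (mul_eq_left.mp e.symm))] at h1
  omega

theorem exists_nc {a : G} (ha : AA z t a) : ∃ c, AA z t c ∧ ¬ Commute c a := by
  obtain ⟨v, b, l⟩ := hl.lc ha
  by_contra! e
  have := Set.ncard_le_ncard (s := {c | AA z t c}) (t := {a, a * z, a * v, a * v * z, b, b * z, a * b, a * b * z})
    fun c hc => by
      have := l.repA h ha hc (e c hc)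
      simp only [Ez, Set.mem_insert_iff, Set.mem_singleton_iff] at this ⊢
      tauto
  rw [h.ncard_AA] at this
  have h2 : ∀ (x : G) (s : Set G) (n : ℕ), s.ncard ≤ n → (insert x s).ncard ≤ n + 1 := fun x s n hn =>
    (Set.ncard_insert_le x s).trans (by omega)
  exact absurd (this.trans (h2 _ _ _ (h2 _ _ _ (h2 _ _ _ (h2 _ _ _ (h2 _ _ _ (h2 _ _ _ (h2 _ _ _
    (Set.ncard_singleton _).le)))))))) (by norm_num)

theorem mem_N {a c : G} (ha : AA z t a) (hc : AA z t c) : c ∈ Nn z a h.zz :=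
  h.N_le' hl hc ha ⟨hc.2, Or.inl (by group)⟩

theorem gen {a : G} (ha : AA z t a) {K : Subgroup G} (hK : ∀ c, AA z t c → c ∈ K) : Nn z a h.zz ≤ K := by
  obtain ⟨v, b, l⟩ := hl.lc ha
  have k : ∀ g, Commute g a → Commute g z → g ∈ K := fun g => l.le_sub (hK a ha)
    (by simpa using mul_mem (inv_mem (hK a ha)) (hK _ (h.AA_mz ha)))
    (by simpa using mul_mem (inv_mem (hK a ha)) (hK _ (l.aav h ha))) (hK b (l.ab h ha))
  obtain ⟨x, x1, x3⟩ := h.exists_nc hl ha
  have x4 := (h.mem_N hl ha x1).2.resolve_left fun e => x3 (commute_of_conj_eq e)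
  intro g hg
  rcases hg.2 with e | e
  · exact k g (commute_of_conj_eq e) hg.1
  · have := k (x⁻¹ * g) (commute_of_conj_eq (by
      rw [show x⁻¹ * g * a * (x⁻¹ * g)⁻¹ = x⁻¹ * (g * a * g⁻¹) * x by group, e, ← x4]; group))
      (x1.2.inv_left.mul_left hg.1)
    simpa using mul_mem (hK x x1) this

theorem hexagon {a c d : G} (ha : AA z t a) (hc : AA z t c) (hd : AA z t d) (h1 : ¬ Commute c a) (h2 : ¬ Commute d a) :
    Commute c d := by
  obtain ⟨v, b, l⟩ := hl.lc ha
  obtain ⟨g, g1, g2⟩ := h.transA hl ha (l.aav h ha)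
  have k : ∀ c, AA z t c → ¬ Commute c (a * v) → Ez z c b ∨ Ez z c (a * b) := fun c c1 c2 => by
    by_contra! e
    have k1 : ∀ c, AA z t c → ¬ Commute c (a * v) → c ∈ {c | AA z t c ∧ ¬ Commute c (a * v)} ∧
        c * z ∈ {c | AA z t c ∧ ¬ Commute c (a * v)} := fun c h1 h2 =>
      ⟨⟨h1, h2⟩, h.AA_mz h1, fun e => h2 ((Ez.mz.symm h.zz).comm (l.aav h ha).2.symm e)⟩
    have := (two_mul_le_ncard h.zz h.z1 (l := [c, b, a * b]) (by simpa using ⟨e, l.n_b_ab h ha⟩) (by
      simp only [List.mem_cons, List.not_mem_nil, or_false, forall_eq_or_imp, forall_eq]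
      exact ⟨k1 c c1 c2, k1 _ (l.ab h ha) fun e => l.n_av_b h ha e.symm,
        k1 _ (l.aab h ha) fun e => l.n_av_ab h ha e.symm⟩)).trans (h.four hl (l.aav h ha))
    simp at this
  have k2 : ∀ c, AA z t c → ¬ Commute c (a * v) → Commute c b ∧ Commute c (a * b) := fun c c1 c2 => by
    have e0 : Commute b (a * b) := l.cba.mul_right (Commute.refl b)
    rcases k c c1 c2 with e | e
    · exact ⟨e.comm l.cbz.symm (Commute.refl b), e.comm (l.aab h ha).2.symm e0⟩
    · exact ⟨e.comm l.cbz.symm e0.symm, e.comm (l.aab h ha).2.symm (Commute.refl _)⟩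
  rw [← commute_conj_iff g, g2] at h1 h2
  rw [← commute_conj_iff g]
  have c1 := AA_conj hc g1
  have d1 := AA_conj hd g1
  rcases k _ c1 h1 with e | e
  exacts [e.comm d1.2.symm (k2 _ d1 h2).1.symm, e.comm d1.2.symm (k2 _ d1 h2).2.symm]

end H12

end Cfsg.Agent.M12R
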