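import Cfsg.Agent.M12R.Loc12
import Cfsg.Agent.M12R.Loc12a

/-!
# A simple group with the involution data of `M₁₂` is `M₁₂`
-/

set_option autoImplicit false

namespace Cfsg.Agent.M12R

theorem H12.m12 {G : Type*} [Group G] [Finite G] [IsSimpleGroup G] {z t : G} (h : H12 z t) : Spor.IsoM12 G :=
  h.m12_of_loc fun _ ha hc => h.loc ha hc

end Cfsg.Agent.M12R
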