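import Cfsg.Agent.M12R.Kill
import Cfsg.Agent.Small.NonS
import Cfsg.Agent.Mat.M12I

/-!
# Reduction to a simple group
-/

set_option autoImplicit false

namespace Cfsg.Agent.M12R

open Subgroup MulAction Equiv Cfsg.Agent.Local Cfsg.Agent.M11 Cfsg.Agent.Char Cfsg.Agent.Zass
  Cfsg.Agent.Small
open scoped ComplexConjugate

variable {G : Type*} [Group G] [Finite G]

theorem cent11 (hG : Nat.card G ∣ 95040) {x : G} (hx : orderOf x = 11) {R : Subgroup G} [R.Normal]
    (hR : (Nat.card R).Coprime 11) : R ≤ centralizer {x} :=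
  le_of_forall_exists_isSylowIn_le fun r hr hd => by
    have := Fact.mk hr
    obtain ⟨T, h1, h2⟩ := exists_invariant_isSylowIn (le_normalizer_of_normal' (zpowers x) R)
      (by rw [Nat.card_zpowers, hx]; exact hR.symm) (Or.inl (isSolvable_zpowers x)) r
    refine ⟨T, h1, ?_⟩
    obtain ⟨b, hb⟩ := h1.isPGroup.exists_card_eq
    obtain ⟨d, hd'⟩ := card_dvd_of_le (inf_le_left : T ⊓ centralizer {x} ≤ T)
    obtain ⟨j, -, rfl⟩ := (Nat.dvd_prime_pow hr).1 (hb ▸ Dvd.intro_left _ hd'.symm)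
    obtain ⟨i, -, hi⟩ := (Nat.dvd_prime_pow hr).1 (hb ▸ Dvd.intro _ hd'.symm)
    have h3 := card_modEq_cent (by norm_num) hx (h2 (mem_zpowers x))
    rw [hd', hi] at h3
    have h4 : r ^ j ≡ 1 [MOD 11] := Nat.ModEq.cancel_left_of_coprime
      ((Nat.Coprime.coprime_dvd_left hd hR).symm.pow_right i) (by rwa [mul_one])
    rcases j with _ | j
    · exact inf_eq_left.1 (eq_of_le_of_card_ge inf_le_left (by rw [hd']; simp))
    have h5 : r ^ (j + 1) ∣ 95040 :=
      ((Dvd.intro_left _ hd'.symm).trans (card_subgroup_dvd_card T)).trans hG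
    have h6 : j + 1 ≤ 17 := by
      by_contra h
      have := (Nat.pow_le_pow_left hr.two_le 17).trans (Nat.pow_le_pow_right hr.pos (by omega : 17 ≤ j + 1))
      have := Nat.le_of_dvd (by norm_num) h5
      omega
    have h7 := (by decide +kernel : ∀ d ∈ dvs 95040, d % 11 = 1 → d = 1 ∨ d.minFac ^ 17 % d ≠ 0) _
      (mem_dvs (by norm_num) (by norm_num) h5) h4
    rw [hr.pow_minFac j.succ_ne_zero, Nat.mod_eq_zero_of_dvd (pow_dvd_pow r h6)] at h7
    exact absurd (h7.resolve_right (by simp)) (Nat.one_lt_pow j.succ_ne_zero hr.one_lt).ne'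

theorem frattini {p : ℕ} [Fact p.Prime] {x : G} {P : Sylow p G} (hP : (P : Subgroup G) = zpowers x)
    {M : Subgroup G} [M.Normal] (hx : x ∈ M) : (normalizer (zpowers x : Set G)).index *
      Nat.card ↥(normalizer (zpowers x : Set G) ⊓ M) = Nat.card M := by
  have h1 := card_sup_mul_card_inf (le_normalizer_of_normal' (normalizer (zpowers x : Set G)) M)
  have h2 := P.normalizer_sup_eq_top' (N := M) (hP.le.trans (zpowers_le_of_mem hx))
  rw [← Sylow.coe_coe, hP] at h2
  rw [sup_comm, h2, card_top, ← (normalizer (zpowers x : Set G)).card_mul_index, mul_assoc,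
    mul_comm (Nat.card M), inf_comm] at h1
  exact Nat.eq_of_mul_eq_mul_left Nat.card_pos h1

theorem syl11 (hG : Nat.card G ∣ 95040) {x : G} (hx : orderOf x = 11) :
    ∃ (_ : Fact (Nat.Prime 11)) (P : Sylow 11 G) (e : ℕ), (P : Subgroup G) = zpowers x ∧ e ≤ 10 ∧
      Nat.card (Sylow 11 G) = (normalizer (zpowers x : Set G)).index ∧ Nat.card (Sylow 11 G) % 11 = 1 ∧
      cc x * e = Nat.card (normalizer (zpowers x : Set G)) := by
  have := Fintype.ofFinite G
  have := Fact.mk Nat.prime_eleven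
  have h : PP 11 x := ⟨by norm_num, hx, fun e => absurd (e.trans hG) (by norm_num)⟩
  obtain ⟨P, hP⟩ := h.syl.exists_sylow_of_top
  have h3 := P.card_eq_index_normalizer
  rw [← Sylow.coe_coe, hP] at h3
  exact ⟨this, P, _, hP, Finset.card_le_card (t := Finset.univ.erase 0) fun i hi =>
    Finset.mem_erase.2 ⟨fun e => h.E0 (e ▸ hi), Finset.mem_univ _⟩, h3, card_sylow_modEq_one 11 G,
    h.card_norm⟩

theorem dvd_mult {χ : G → ℂ} (hχ : IsCharacter G χ) (R : Subgroup G) [Fintype R] {x : G}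
    (hc : x ∈ centralizer (R : Set G)) (h0 : ∀ u ∈ zpowers x, u ≠ 1 → ∀ r ∈ R, χ (u * r) = 0)
    {η : R → ℂ} (hη : IsCharacter R η) :
    ∃ m : ℕ, classInner (fun r : R => χ r) η = orderOf x * m := by
  classical
  have := Fintype.ofFinite (zpowers x)
  obtain ⟨F, hF⟩ : ∃ F : zpowers x × R →* G, ∀ u r, F (u, r) = u * r :=
    ⟨(zpowers x).subtype.noncommCoprod R.subtype
      fun u r => (mem_centralizer_iff.1 (zpowers_le_of_mem hc u.2) r r.2).symm, fun _ _ => rfl⟩
  obtain ⟨m, hm⟩ := inner_char_char (char_comp hχ F) (char_comp hη (MonoidHom.snd _ _))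
  refine ⟨m, ?_⟩
  rw [← hm, classInner, classInner, Fintype.sum_prod_type, Finset.sum_eq_single 1
    (fun u _ hu => Finset.sum_eq_zero fun r _ => by
      simp [hF, h0 u u.2 (fun e => hu (Subtype.ext e)) r r.2]) (by simp), Nat.card_prod,
    Nat.card_zpowers]
  have h1 : (orderOf x : ℂ) ≠ 0 := Nat.cast_ne_zero.2 (orderOf_pos x).ne'
  simp only [hF, OneMemClass.coe_one, one_mul, MonoidHom.coe_snd]
  push_cast
  rw [mul_inv, mul_assoc, mul_inv_cancel_left₀ h1]

theorem red (hG : Nat.card G = 95040) (h : Rho G 55) :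
    ∃ M : Subgroup (G ⧸ pPrimeCore 11 G), M.Normal ∧ IsSimpleGroup M ∧ ¬ IsMulCommutative M ∧
      11 ∣ Nat.card M ∧ 6000 ≤ Nat.card M := by
  classical
  have := Fintype.ofFinite G
  obtain ⟨χ, hχ, hd⟩ := h
  have hc := fun (x : G) (hx : orderOf x = 11) => cent11 hG.dvd hx (coprime_card_pPrimeCore 11)
  obtain ⟨M, h1, h2, h3, h4⟩ := struct (m := 8640) Nat.prime_eleven hG (by norm_num)
    ⟨χ, hχ, (by norm_num : 11 ∣ 55).trans hd⟩ hc
  refine ⟨M, h1, h2, h3, h4, by_contra fun h5 => ?_⟩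
  have hO := pPrimeCore_quotient_eq_bot (G := G) 11
  have hco := coprime_card_pPrimeCore (G := G) 11
  set R := pPrimeCore 11 G
  have := Fintype.ofFinite R
  have hQ : Nat.card (G ⧸ R) ∣ 95040 := hG ▸ card_quotient_dvd_card R
  have hM : Nat.card M = 660 := by
    have h6 := card_mem h3 (not_le.1 h5)
    have h7 := (card_subgroup_dvd_card M).trans hQ
    simp only [List.mem_cons, List.not_mem_nil, or_false] at h6
    omega
  obtain ⟨y, hyM, hy⟩ := exists_mem_orderOf_eq_of_dvd_card Nat.prime_eleven h4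
  have y1 := ne_one_of_orderOf_eq_prime Nat.prime_eleven hy
  obtain ⟨_, P, e, hP, he, n1, n2, n3⟩ := syl11 hQ hy
  have h6 := frattini hP hyM
  have h7 : Nat.card (Sylow 11 (G ⧸ R)) = 12 := by
    have h7 : Nat.card (Sylow 11 (G ⧸ R)) ≠ 1 := fun e => by
      have := normalizer_eq_top_iff.1 (index_eq_one.1 (n1 ▸ e))
      have := card_le_of_le (le_of_simple hyM (mem_zpowers y) y1)
      rw [Nat.card_zpowers] at this
      omega
    obtain ⟨k, hk⟩ := hy ▸ orderOf_dvd_card_of_mem (mem_inf.2 ⟨le_normalizer (mem_zpowers y), hyM⟩)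
    rw [← n1, hk, hM] at h6
    have h8 : Nat.card (Sylow 11 (G ⧸ R)) ∣ 60 := ⟨k, by linarith⟩
    have := Nat.le_of_dvd (by norm_num) h8
    interval_cases Nat.card (Sylow 11 (G ⧸ R)) <;> omega
  rw [cc_of_sylow (fun e => absurd (e.trans hQ) (by norm_num)) hO h7 hy hP] at n3
  have h8 := (normalizer (zpowers y : Set (G ⧸ R))).card_mul_index
  have h9 := R.card_mul_index
  rw [← n1, h7, ← n3] at h8
  rw [index, ← h8, hG] at h9
  obtain ⟨x, hx⟩ := exists_prime_orderOf_dvd_card' (G := G) 11 (by omega)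
  have hxC : x ∈ centralizer (R : Set G) := mem_centralizer_iff.2 fun r hr =>
    mem_centralizer_singleton_iff.1 (hc x hx hr)
  have h10 : 660 ∣ Nat.card ((centralizer (R : Set G)).map (QuotientGroup.mk' R)) := by
    obtain ⟨w, h10, h11⟩ := exists_mem_orderOf_eq_of_dvd_card Nat.prime_eleven
      (H := (centralizer (R : Set G)).map (QuotientGroup.mk' R)) (by
        have h10 := orderOf_map_dvd (QuotientGroup.mk' R) x
        rw [hx, Nat.dvd_prime Nat.prime_eleven, orderOf_eq_one_iff] at h10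
        exact (h10.resolve_left fun e => Nat.prime_eleven.coprime_iff_not_dvd.1 hco.symm
          (hx ▸ orderOf_dvd_card_of_mem ((QuotientGroup.eq_one_iff x).1 e))).symm.dvd.trans
          (orderOf_dvd_card_of_mem (mem_map_of_mem _ hxC)))
    obtain ⟨g, hg⟩ := exists_conj_zpowers Nat.prime_eleven
      (fun e => absurd (e.trans hQ) (by norm_num)) hy h11
    exact hM ▸ card_dvd_of_le (le_of_simple hyM (zpowers_le_of_mem
      (Normal.conj_mem' inferInstance w h10 g) (hg.ge (mem_zpowers y))) y1)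
  obtain ⟨w, hwC, hw⟩ := exists_mem_orderOf_eq_of_dvd_card Nat.prime_five
    (((by norm_num : 5 ∣ 660).trans h10).trans (card_map_dvd _ _))
  have hR5 : ¬ 5 ∣ Nat.card R := fun ⟨k, hk⟩ => by
    obtain ⟨l, hl⟩ := hM ▸ card_subgroup_dvd_card M
    rw [h8, hk, hl] at h9
    have : 25 * (132 * k * l) = 95040 := by linarith
    omega
  have key : ∀ {p : ℕ} {u : G}, p.Prime → ¬ p ∣ 1728 → ¬ p ∣ Nat.card R → orderOf u = p →
      u ∈ centralizer (R : Set G) → ∀ η : IrrCharacter R,
      ∃ m : ℕ, classInner (fun r : R => χ r) η.1 = p * m := fun {p u} hp h1 h2 h3 h4 η =>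
    h3 ▸ dvd_mult (irr_isCharacter hχ) R h4 (fun v hv v1 r hr =>
      PSL2Rec.irr_eq_zero_of_dvd hχ hp (hG.trans (by norm_num : _ = 55 * 1728)) hd h1 (by
        have h5 := orderOf_dvd_card_of_mem hv
        rw [Nat.card_zpowers, h3, Nat.dvd_prime hp, orderOf_eq_one_iff] at h5
        rw [Commute.orderOf_mul_eq_mul_orderOf_of_coprime
          (mem_centralizer_iff.1 (zpowers_le_of_mem h4 hv) r hr).symm, h5.resolve_left v1]
        · exact dvd_mul_right _ _
        · rw [h5.resolve_left v1]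
          exact hp.coprime_iff_not_dvd.2 fun e => h2 (e.trans (orderOf_dvd_card_of_mem hr))))
      (irr_isCharacter η.2)
  have hψ := char_restrict (irr_isCharacter hχ) R
  choose n hn using fun η : IrrCharacter R => inner_char_char hψ (irr_isCharacter η.2)
  have h11 := inner_eq_sum_irr (char_isClassFunction hψ) fun r : R => χ r
  simp only [hn, map_natCast, inner_self_eq] at h11
  have h12 : (Nat.card R : ℝ)⁻¹ * ∑ r : R, ‖χ r‖ ^ 2 = (∑ η, n η * n η : ℕ) := by exact_mod_cast h11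
  have h13 := inner_irr_self hχ
  rw [inner_self_eq] at h13
  have h14 : (Nat.card G : ℝ)⁻¹ * ∑ g, ‖χ g‖ ^ 2 = 1 := by exact_mod_cast h13
  have h15 : ∑ r : R, ‖χ r‖ ^ 2 ≤ ∑ g, ‖χ g‖ ^ 2 := by
    rw [← Finset.sum_subtype (Finset.univ.filter (· ∈ R)) (by simp) fun g => ‖χ g‖ ^ 2]
    exact Finset.sum_le_sum_of_subset_of_nonneg (Finset.subset_univ _) fun _ _ _ => sq_nonneg _
  rw [inv_mul_eq_iff_eq_mul₀ (Nat.cast_ne_zero.2 Nat.card_pos.ne')] at h12 h14
  have h16 : 0 < ∑ r : R, ‖χ r‖ ^ 2 := Finset.sum_pos' (fun _ _ => sq_nonneg _)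
    ⟨1, Finset.mem_univ _, pow_pos (norm_pos_iff.2 (irr_one_ne_zero hχ)) 2⟩
  rw [h12, h14, mul_one, hG] at h15
  rw [h12] at h16
  have h17 : Nat.card R * ∑ η, n η * n η ≤ 95040 := by exact_mod_cast h15
  have h18 : 0 < Nat.card R * ∑ η, n η * n η := by exact_mod_cast h16
  have h19 : 55 * 55 ∣ ∑ η, n η * n η := Finset.dvd_sum fun η _ => by
    obtain ⟨a, ha⟩ := key Nat.prime_eleven (by norm_num)
      (Nat.prime_eleven.coprime_iff_not_dvd.1 hco.symm) hx hxC η
    obtain ⟨b, hb⟩ := key Nat.prime_five (by norm_num) hR5 hw hwC η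
    rw [hn] at ha hb
    have h20 : n η = 11 * a := by exact_mod_cast ha
    have h21 : n η = 5 * b := by exact_mod_cast hb
    have : 55 ∣ n η := by omega
    exact mul_dvd_mul this this
  have h20 := Nat.le_of_dvd (Nat.pos_of_mul_pos_left h18) h19
  have h21 : 72 ≤ Nat.card R := by nlinarith
  nlinarith

theorem simple_of (hG : Nat.card G = 95040) (c5 : ∀ x : G, orderOf x = 5 → cc x = 10)
    (c11 : ∀ x : G, orderOf x = 11 → cc x = 11) : IsSimpleGroup G := by
  have := Fact.mk Nat.prime_eleven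
  have := Fact.mk Nat.prime_five
  have : Nontrivial G := Finite.one_lt_card_iff_nontrivial.1 (by omega)
  refine ⟨fun N hN => or_iff_not_imp_left.2 fun h0 => ?_⟩
  have h1 : 11 ∣ Nat.card N := by_contra fun h => by
    obtain ⟨x, hx⟩ := exists_prime_orderOf_dvd_card' (G := G) 11 (by omega)
    have h1 : Nat.card N ∣ cc x := card_dvd_of_le (cent11 hG.dvd hx
      (Nat.prime_eleven.coprime_iff_not_dvd.2 h).symm)
    rw [c11 x hx, Nat.dvd_prime Nat.prime_eleven] at h1
    exact h1.elim (fun e => h0 (card_eq_one.1 e)) fun e => h e.symm.dvd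
  obtain ⟨x, hxN, hx⟩ := exists_mem_orderOf_eq_of_dvd_card Nat.prime_eleven h1
  obtain ⟨_, P, e, hP, he, n1, n2, n3⟩ := syl11 hG.dvd hx
  have h2 := frattini hP hxN
  have h3 := (normalizer (zpowers x : Set G)).card_mul_index
  have h4 := card_dvd_of_le (inf_le_left : normalizer (zpowers x : Set G) ⊓ N ≤ _)
  have h5 := hx ▸ orderOf_dvd_card_of_mem (mem_inf.2 ⟨le_normalizer (mem_zpowers x), hxN⟩)
  rw [← n3, c11 x hx] at h3 h4
  rw [← n1] at h2 h3
  obtain ⟨rfl, h6⟩ : e = 5 ∧ Nat.card (Sylow 11 G) = 1728 := by interval_cases e <;> omega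
  have h7 := Nat.le_of_dvd (by norm_num) h4
  refine eq_top_of_card_eq _ (by_contra fun h8 => ?_)
  have h9 : Nat.card N = 19008 := by
    rw [h6] at h2
    interval_cases Nat.card ↥(normalizer (zpowers x : Set G) ⊓ N) <;> omega
  obtain ⟨y, hy⟩ := exists_prime_orderOf_dvd_card' (G := G) 5 (by omega)
  have h10 := card_modEq_cent Nat.prime_five hy (le_normalizer_of_normal' ⊤ N (mem_top y))
  have h11 : Nat.card ↥(N ⊓ centralizer {y}) ∣ cc y := card_dvd_of_le inf_le_right
  rw [c5 y hy] at h11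
  rw [h9, Nat.ModEq] at h10
  have := Nat.le_of_dvd (by norm_num) h11
  interval_cases Nat.card ↥(N ⊓ centralizer {y}) <;> omega

theorem simple_congr {H : Type*} [Group H] [Finite H] (e : G ≃* H) (h : Mat.N12 H) :
    IsSimpleGroup G ∧ Nat.card G = 95040 :=
  have := simple_of h.card h.c5 h.c11
  ⟨e.isSimpleGroup, by rw [Nat.card_congr e.toEquiv, h.card]⟩

theorem simple_sub {A B : Type*} [Group A] [Group B] [Finite A] [Finite B] {K : Subgroup A}
    {L : Subgroup B} (e : K ≃* L) (h : Mat.N12 L) : IsSimpleGroup K ∧ Nat.card K = 95040 :=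
  simple_congr e h

theorem simple12 : IsSimpleGroup Spor.M12 ∧ Nat.card Spor.M12 = 95040 :=
  simple_sub ((Spor.M12.equivMapOfInjective Mat.eM.toMonoidHom Mat.eM.injective).trans
    (MulEquiv.subgroupCongr Mat.cl12_eq.symm)) (Mat.n12_of_nse Mat.card_cl12 Mat.nse12)

theorem rho_prod {R H : Type*} [Group R] [Finite R] [Group H] [Finite H] {χ : R × H → ℂ}
    (hχ : IsIrrCharacter (R × H) χ) : ∃ φ ψ, IsIrrCharacter R φ ∧ IsIrrCharacter H ψ ∧
      deg χ = deg φ * deg ψ := by
  have h : FT.DProd (MonoidHom.inl R H).range (MonoidHom.inr R H).range ⊤ :=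
    ⟨eq_top_iff.2 fun g _ => by
      rw [← Prod.fst_mul_snd g]
      exact mul_mem (mem_sup_left ⟨_, rfl⟩) (mem_sup_right ⟨_, rfl⟩), by
      rintro _ ⟨b, rfl⟩ _ ⟨a, rfl⟩
      simp, eq_bot_iff.2 (by
      rintro _ ⟨⟨a, rfl⟩, b, e⟩
      exact Prod.ext (congrArg Prod.fst e).symm rfl)⟩
  obtain ⟨φ, ψ, h1, h2, e⟩ := h.exists_irr (isIrr_top hχ)
  have h3 := irr_comp h1.irr _ (MonoidHom.inl R H).rangeRestrict_surjective
  have h4 := irr_comp h2.irr _ (MonoidHom.inr R H).rangeRestrict_surjective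
  refine ⟨_, _, h3, h4, deg_of_eq ?_⟩
  rw [e, h.cfDprod_one, Nat.cast_mul, ← irr_deg h3, ← irr_deg h4]
  rfl

theorem a4 {R H : Type*} [Group R] [Finite R] [Group H] [Finite H] (hR : Nat.card R = 12)
    (hH : ¬ Rho H 33) (h : Rho (R × H) 33) : Nonempty (R ≃* alternatingGroup (Fin 4)) := by
  have := Fact.mk Nat.prime_three
  obtain ⟨χ, hχ, hd⟩ := h
  obtain ⟨φ, ψ, h1, h2, e⟩ := rho_prod hχ
  have h3 : Rho R 3 := ⟨φ, h1, by_contra fun h => hH ⟨ψ, h2, by
    have h3 := hR ▸ deg_dvd_card h1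
    have h4 := Nat.le_of_dvd (by norm_num) h3
    rw [e] at hd
    interval_cases deg φ <;> omega⟩⟩
  obtain ⟨P⟩ : Nonempty (Sylow 3 R) := inferInstance
  have hP : ∀ P : Sylow 3 R, Nat.card P = 3 := fun P => card_sylow_eq P 1 4 hR (by norm_num)
  have h4 : ∀ P : Sylow 3 R, ¬ (P : Subgroup R).Normal := fun P h =>
    not_rho Nat.prime_three (isSylowIn_top P) (isCyclic_of_prime_card (hP P)).isMulCommutative h3
  have h5 := P.card_eq_index_normalizer
  have h6 := (normalizer (P : Set R)).card_mul_index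
  have h7 : Nat.card (Sylow 3 R) = 4 := by
    have h7 := card_sylow_modEq_one 3 R
    have h8 : Nat.card (Sylow 3 R) ≠ 1 := fun e =>
      h4 P (normalizer_eq_top_iff.1 (index_eq_one.1 (h5 ▸ e)))
    have h9 := P.card_dvd_index
    have h10 := (P : Subgroup R).card_mul_index
    rw [hP, hR] at h10
    rw [show (P : Subgroup R).index = 4 by omega] at h9
    have := Nat.le_of_dvd (by norm_num) h9
    rw [Nat.ModEq] at h7
    interval_cases Nat.card (Sylow 3 R) <;> omega
  let e := Finite.equivFinOfCardEq h7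
  let f := e.permCongrHom.toMonoidHom.comp (toPermHom R (Sylow 3 R))
  have h8 : f.ker ≤ P := fun l hl => by
    have h8 : l • P = P := e.injective (by simpa [f] using congrArg (· (e P)) (MonoidHom.mem_ker.1 hl))
    rw [eq_of_le_of_card_ge (le_normalizer (H := (P : Subgroup R))) (by
      rw [← h5, h7, hR] at h6
      rw [hP]
      change Nat.card (normalizer (P : Set R)) ≤ 3
      omega)]
    exact Sylow.smul_eq_iff_mem_normalizer.1 h8
  have h9 : f.ker = ⊥ := by
    have h9 := card_dvd_of_le h8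
    rw [hP, Nat.dvd_prime Nat.prime_three, card_eq_one] at h9
    exact h9.resolve_right fun e => h4 P (eq_of_le_of_card_ge h8 (by rw [hP, e]) ▸ f.normal_ker)
  have h10 := MonoidHom.ofInjective (f.ker_eq_bot_iff.1 h9)
  have hA4 : f.range = alternatingGroup (Fin 4) := Perm.eq_alternatingGroup_of_index_eq_two (by
    have h1 := f.range.card_mul_index
    rw [Nat.card_perm, Nat.card_fin, ← Nat.card_congr h10.toEquiv, hR] at h1
    change _ = 24 at h1
    omega)
  exact ⟨h10.trans (MulEquiv.subgroupCongr hA4)⟩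

end Cfsg.Agent.M12R
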