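import Cfsg.Agent.Small.Comb

/-!
# A generic search for the columns of a principal block
-/

set_option autoImplicit false

namespace Cfsg.Agent.M12R

open Finset Cfsg.Agent.Block Cfsg.Agent.Small

def go (fin : List Row → ℕ → Bool) : ℕ → List Row → ℕ → ℕ → ℕ → ℤ → ℤ → List Row → Bool
  | 0, _, k, r, _, s, sv, acc => k == 0 && (s == 0 && (sv == 0 && fin acc r))
  | f + 1, l, k, r, q, s, sv, acc => match k with
    | 0 => s == 0 && (sv == 0 && fin acc r)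
    | k + 1 => anyT (fun x tl => Nat.ble (x.1 * x.1) r &&
        (Nat.ble (x.2.2.natAbs * x.2.2.natAbs) q && (Nat.ble (x.2.1.natAbs * x.2.1.natAbs) (k + 1) &&
        fN (k + 1 - x.2.1.natAbs * x.2.1.natAbs) fun k' => fN (r - x.1 * x.1) fun r' =>
        fN (q - x.2.2.natAbs * x.2.2.natAbs) fun q' => fI (s + x.2.1 * x.1) fun s' =>
        fI (sv + x.2.1 * x.2.2) fun sv' =>
        go fin f (x :: tl) k' r' q' s' sv' (x :: acc)))) l

theorem go_sound {fin : List Row → ℕ → Bool} (f : ℕ) :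
    ∀ (l : List Row) (M : Multiset Row) (k r q : ℕ) (s sv : ℤ) (acc : List Row),
      (∀ x ∈ M, x ∈ l) → (∀ x ∈ M, x.2.1 ≠ 0) → k ≤ f →
      k = (M.map fun x : Row => x.2.1.natAbs * x.2.1.natAbs).sum →
      (M.map fun x : Row => x.1 * x.1).sum ≤ r →
      (M.map fun x : Row => x.2.2.natAbs * x.2.2.natAbs).sum ≤ q →
      s + (M.map fun x : Row => x.2.1 * x.1).sum = 0 →
      sv + (M.map fun x : Row => x.2.1 * x.2.2).sum = 0 →
      (∀ l' : List Row, (l' : Multiset Row) = M + acc →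
        fin l' (r - (M.map fun x : Row => x.1 * x.1).sum) = true) →
      go fin f l k r q s sv acc = true := by
  have h0 : ∀ M : Multiset Row, (∀ x ∈ M, x.2.1 ≠ 0) →
      0 = (M.map fun x : Row => x.2.1.natAbs * x.2.1.natAbs).sum → M = 0 := fun M h1 h2 => by
    refine Multiset.eq_zero_of_forall_notMem fun x hx => h1 x hx ?_
    have := Multiset.sum_eq_zero_iff.1 h2.symm _ (Multiset.mem_map_of_mem _ hx)
    simpa using this
  induction f with
  | zero =>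
    intro l M k r q s sv acc _ ha hk hk' _ _ hs hsv hf
    obtain rfl : k = 0 := by omega
    obtain rfl := h0 M ha hk'
    have := hf acc (by simp)
    simp at hs hsv this
    simp [go, hs, hsv, this]
  | succ f ih =>
    intro l M k r q s sv acc hl ha hk hk' hr hq hs hsv hf
    rcases k with _ | k
    · obtain rfl := h0 M ha hk'
      have := hf acc (by simp)
      simp at hs hsv this
      simp [go, hs, hsv, this]
    rw [go]
    refine anyT_of (M := M) (by rintro rfl; simp at hk') hl fun x tl hx hy => ?_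
    obtain ⟨M, rfl⟩ := Multiset.exists_cons_of_mem hx
    simp only [Multiset.map_cons, Multiset.sum_cons] at hk' hr hq hf hs hsv
    have h1 : 0 < x.2.1.natAbs * x.2.1.natAbs := by
      have := Int.natAbs_pos.2 (ha x hx)
      positivity
    simp only [fN_eq, fI_eq, Bool.and_eq_true, Nat.ble_eq]
    refine ⟨by omega, by omega, by omega, ih _ M _ _ _ _ _ _
      (fun y h => hy y (Multiset.mem_cons_of_mem h)) (fun y h => ha y (Multiset.mem_cons_of_mem h))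
      (by omega) (by omega) (by omega) (by omega) (by rw [add_assoc]; exact hs)
      (by rw [add_assoc]; exact hsv) fun l' e => ?_⟩
    rw [Nat.sub_sub]
    refine hf l' ?_
    rw [e, ← Multiset.cons_coe, Multiset.add_cons, Multiset.cons_add]

def rows (dl : List ℕ) (vl : ℕ → ℤ → List ℤ) (p e n : ℕ) : List Row :=
  dl.flatMap fun d : ℕ =>
    (aL.filter fun a : ℤ => Nat.ble (a.natAbs * a.natAbs) e && (((d : ℤ) - a) % p == 0 &&
      (decide (0 ≤ (d : ℤ) + (p - 1) * a) && (decide (a < d) &&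
        (n * a.natAbs) % d == 0)))).flatMap fun a : ℤ =>
      (vl d (d + (p - 1) * a)).map fun v => (d, a, v)

def B (dl : List ℕ) (vl : ℕ → ℤ → List ℤ) (N p e n q : ℕ) (fin : List Row → ℕ → Bool) : Bool :=
  fR (rows dl vl p e n) fun l =>
  if e + 1 = p then go fin e l e (N - 1) q 1 1 [] else
  fN ((p - 1) / e) fun t => dl.any fun d : ℕ => Nat.ble (t * (d * d)) (N - 1) &&
    ([1, -1] : List ℤ).any fun ε => (0 :: aL).any fun b =>
      ((d : ℤ) + e * ε - b) % p == 0 &&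
      fN ((t - 1) * (b.natAbs * b.natAbs) + (b + ε).natAbs * (b + ε).natAbs) fun nb =>
      Nat.ble nb e && (decide (0 ≤ (d : ℤ) + (p - 1) * b + e * ε) &&
      (vl d (d + (p - 1) * b + e * ε)).any fun v =>
        Nat.ble (t * (v.natAbs * v.natAbs)) q &&
        go fin e l (e - nb) (N - 1 - t * (d * d))
          (q - t * (v.natAbs * v.natAbs)) (1 + (t * b + ε) * d) (1 + (t * b + ε) * v)
          ((d, b + ε, v) :: List.replicate (t - 1) (d, b, v)))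

variable {ι : Type*} [Fintype ι] [DecidableEq ι] {p : ℕ} [hp : Fact p.Prime]

/-- The generalized decomposition numbers. -/
structure BD (N e n : ℕ) (o : ι) (d : ι → ℕ) (a : ZMod p → ι → ℤ) (E : Finset (ZMod p)) : Prop where
  e80 : e ≤ 80
  E0 : 0 ∉ E
  E1 : 1 ∈ E
  Emul : ∀ i ∈ E, ∀ j ∈ E, i * j ∈ E
  Einv : ∀ i ∈ E, i⁻¹ ∈ E
  Ecard : E.card = e
  gram : ∀ k l, k ≠ 0 → l ≠ 0 → ∑ χ, a k χ * a l χ = e + if k * l⁻¹ ∈ E then 1 else 0
  deg0 : ∀ k, k ≠ 0 → ∑ χ, a k χ * d χ = 0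
  ao : ∀ k, k ≠ 0 → a k o = 1
  a0 : ∀ χ, a 0 χ = 0
  d1 : d o = 1
  dpos : ∀ χ, 0 < d χ
  sumd : ∑ χ, d χ * d χ = N
  mult : ∀ χ k, a k χ ≠ 0 → (p : ℤ) ∣ d χ + ∑ k, a k χ ∧ ∀ k, p * a k χ ≤ d χ + ∑ k, a k χ
  cen : ∀ χ, χ ≠ o → a 1 χ ≠ 0 → (∀ k, k ≠ 0 → a k χ = a 1 χ) →
    a 1 χ < d χ ∧ d χ ∣ n * (a 1 χ).natAbs

namespace BD

variable {N e n : ℕ} {o : ι} {d : ι → ℕ} {a : ZMod p → ι → ℤ} {E : Finset (ZMod p)}
  (h : BD N e n o d a E)
include h

theorem eq_of {k l : ZMod p} (hk : k ≠ 0) (hl : l ≠ 0) (hkl : k * l⁻¹ ∈ E) (χ : ι) :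
    a k χ = a l χ := by
  have h1 := h.gram k k hk hk
  have h2 := h.gram l l hl hl
  have h3 := h.gram k l hk hl
  rw [mul_inv_cancel₀ hk, if_pos h.E1] at h1
  rw [mul_inv_cancel₀ hl, if_pos h.E1] at h2
  rw [if_pos hkl] at h3
  have h4 : ∑ χ, (a k χ - a l χ) ^ 2 = 0 := by
    simp only [sub_sq]
    simp only [sum_add_distrib, sum_sub_distrib, sq, mul_assoc, ← mul_sum]
    linarith
  have := (sum_eq_zero_iff_of_nonneg fun χ _ => sq_nonneg _).1 h4 χ (mem_univ _)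
  exact sub_eq_zero.1 (pow_eq_zero_iff two_ne_zero |>.1 this)

theorem sumT : ∑ χ ∈ TT o a, (a 1 χ).natAbs * (a 1 χ).natAbs = e := by
  have h1 := h.gram 1 1 one_ne_zero one_ne_zero
  rw [sum_TT (o := o), h.ao 1 one_ne_zero, inv_one, mul_one, mul_one, if_pos h.E1] at h1
  zify
  simp only [abs_mul_abs_self]
  linarith

theorem sum_split (F : ZMod p → ℤ) (h0 : F 0 = 0) :
    ∑ k, F k = ∑ k ∈ E, F k + ∑ k ∈ (insert 0 E)ᶜ, F k := by
  rw [← sum_add_sum_compl (insert 0 E), sum_insert h.E0, h0, zero_add]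

theorem card_compl : (insert 0 E)ᶜ.card + e + 1 = p := by
  have := card_add_card_compl (insert 0 E)
  rw [card_insert_of_notMem h.E0, h.Ecard, ZMod.card] at this
  omega

theorem ne0 {k : ZMod p} (hk : k ∈ E) : k ≠ 0 := fun e => h.E0 (e ▸ hk)

variable {dl : List ℕ} {vl : ℕ → ℤ → List ℤ} {v : ι → ℤ} {q : ℕ}
  (hdl : ∀ χ ∈ TT o a, d χ ∈ dl) (hvl : ∀ χ ∈ TT o a, v χ ∈ vl (d χ) (d χ + ∑ k, a k χ))
include hdl hvl

theorem mem_rows {χ : ι} (hχ : χ ∈ TT o a) (hc : ∀ k, k ≠ 0 → a k χ = a 1 χ) :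
    a 1 χ ≠ 0 ∧ (d χ, a 1 χ, v χ) ∈ rows dl vl p e n := by
  obtain ⟨h1, k, h2⟩ := mem_TT.1 hχ
  have h3 : a 1 χ ≠ 0 := by rwa [← hc k (by rintro rfl; exact h2 (h.a0 χ))]
  have h4 : ∑ k, a k χ = (p - 1) * a 1 χ := by
    rw [← sum_erase (a := 0) _ (h.a0 χ), sum_congr rfl fun k hk => hc k (ne_of_mem_erase hk),
      sum_const, card_erase_of_mem (mem_univ _), card_univ, ZMod.card, nsmul_eq_mul,
      Nat.cast_pred hp.out.pos]
  obtain ⟨h5, h6⟩ := h.mult χ k h2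
  have h7 := h6 0
  have h9 := hvl χ hχ
  obtain ⟨h8, h11⟩ := h.cen χ h1 h3 hc
  rw [h4] at h5 h7 h9
  rw [h.a0] at h7
  have h10 : (a 1 χ).natAbs * (a 1 χ).natAbs ≤ e := h.sumT ▸
    single_le_sum (f := fun χ => (a 1 χ).natAbs * (a 1 χ).natAbs) (fun _ _ => Nat.zero_le _) hχ
  refine ⟨h3, ?_⟩
  simp only [rows, List.mem_flatMap, List.mem_filter, List.mem_map, Bool.and_eq_true, Nat.ble_eq,
    beq_iff_eq, decide_eq_true_eq]
  refine ⟨_, hdl χ hχ, _, ⟨mem_aL h3 (h10.trans h.e80), h10, Int.emod_eq_zero_of_dvd ?_,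
    by linarith, h8, Nat.mod_eq_zero_of_dvd h11⟩, _, h9, rfl⟩
  have := dvd_sub h5 (dvd_mul_right (p : ℤ) (a 1 χ))
  rwa [show (d χ : ℤ) + (p - 1) * a 1 χ - p * a 1 χ = d χ - a 1 χ by ring] at this

variable (vo : v o = 1) (val0 : ∀ k, k ≠ 0 → ∑ χ, a k χ * v χ = 0)
  (hq : ∑ χ ∈ TT o a, (v χ).natAbs * (v χ).natAbs ≤ q) {fin : List Row → ℕ → Bool}
  (hf : ∀ l : List Row, (l : Multiset Row) = (TT o a).val.map (fun χ => (d χ, a 1 χ, v χ)) →
    fin l (N - 1 - ∑ χ ∈ TT o a, d χ * d χ) = true)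
include vo val0 hq hf

theorem go_of {S : Finset ι} (hS : S ⊆ TT o a) (hc : ∀ χ ∈ TT o a \ S, ∀ k, k ≠ 0 → a k χ = a 1 χ)
    {acc : List Row} (hacc : (acc : Multiset Row) = S.val.map (fun χ => (d χ, a 1 χ, v χ))) :
    ∑ χ ∈ S, (a 1 χ).natAbs * (a 1 χ).natAbs ≤ e ∧ ∑ χ ∈ S, d χ * d χ ≤ N - 1 ∧
    ∑ χ ∈ S, (v χ).natAbs * (v χ).natAbs ≤ q ∧
    go fin e (rows dl vl p e n)
      (e - ∑ χ ∈ S, (a 1 χ).natAbs * (a 1 χ).natAbs) (N - 1 - ∑ χ ∈ S, d χ * d χ)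
      (q - ∑ χ ∈ S, (v χ).natAbs * (v χ).natAbs) (1 + ∑ χ ∈ S, a 1 χ * d χ)
      (1 + ∑ χ ∈ S, a 1 χ * v χ) acc = true := by
  have e1 := h.sumT
  have e2 := sum_TT_le (o := o) (a := a) fun χ => d χ * d χ
  have e4 := h.deg0 1 one_ne_zero
  have e5 := val0 1 one_ne_zero
  rw [sum_TT (o := o)] at e4 e5
  simp only [h.sumd, h.d1, vo, h.ao 1 one_ne_zero, mul_one, Nat.cast_one] at e2 e4 e5
  rw [← sum_sdiff hS] at e1 e2 hq e4 e5 hf
  refine ⟨by omega, by omega, by omega,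
    go_sound _ _ ((TT o a \ S).val.map fun χ => (d χ, a 1 χ, v χ)) _ _ _ _ _ _ ?_ ?_
    (by omega) ?_ ?_ ?_ ?_ ?_ fun l hl => ?_⟩
  · intro x hx
    obtain ⟨χ, hχ, rfl⟩ := Multiset.mem_map.1 hx
    exact (h.mem_rows hdl hvl (mem_sdiff.1 hχ).1 (hc χ hχ)).2
  · intro x hx
    obtain ⟨χ, hχ, rfl⟩ := Multiset.mem_map.1 hx
    exact (h.mem_rows hdl hvl (mem_sdiff.1 hχ).1 (hc χ hχ)).1
  all_goals simp only [Multiset.map_map, Function.comp_def, ← sum_eq_multiset_sum]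
  · omega
  · omega
  · omega
  · rw [add_assoc, add_comm (∑ χ ∈ S, _), e4]
  · rw [add_assoc, add_comm (∑ χ ∈ S, _), e5]
  · rw [Nat.sub_sub (N - 1), add_comm (∑ χ ∈ S, _)]
    refine hf l ?_
    rw [hl, hacc, ← Multiset.map_add, sdiff_val, tsub_add_cancel_of_le (val_le_iff.2 hS)]

theorem search : B dl vl N p e n q fin = true := by
  rw [B, fR_eq]
  have hcc := h.card_compl
  split_ifs with he
  · have h1 : ∀ k : ZMod p, k ≠ 0 → k ∈ E := fun k hk => by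
      have : (insert 0 E)ᶜ = ∅ := card_eq_zero.1 (by omega)
      have h2 : k ∈ insert 0 E := by rw [(compl_eq_empty_iff _).1 this]; exact mem_univ k
      simpa [hk] using h2
    simpa using (h.go_of hdl hvl vo val0 hq hf (empty_subset _) (fun χ _ k hk =>
      h.eq_of hk one_ne_zero (h1 _ (by simpa using hk)) χ) (acc := []) (by simp)).2.2.2
  obtain ⟨l₀, hl₀⟩ : ((insert 0 E)ᶜ).Nonempty := card_pos.1 (by omega)
  have hL : ∀ l : ↥(insert 0 E)ᶜ, (l : ZMod p) ≠ 0 ∧ (l : ZMod p) ∉ E := fun l => by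
    simpa using l.2
  have hw : ∀ l m : ↥(insert 0 E)ᶜ, ∑ χ, (a 1 χ - a l χ) * (a 1 χ - a m χ) =
      1 + if (l : ZMod p) * (m : ZMod p)⁻¹ ∈ E then 1 else 0 := fun l m => by
    have h1 := h.gram 1 1 one_ne_zero one_ne_zero
    have h2 := h.gram 1 m one_ne_zero (hL m).1
    have h3 := h.gram l 1 (hL l).1 one_ne_zero
    have h4 := h.gram l m (hL l).1 (hL m).1
    rw [inv_one, mul_one, if_pos h.E1] at h1
    rw [one_mul, if_neg fun e => (hL m).2 (by simpa using h.Einv _ e)] at h2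
    rw [inv_one, mul_one, if_neg (hL l).2] at h3
    simp only [sub_mul, mul_sub, sum_sub_distrib]
    linarith
  obtain ⟨ψ, ε, ρ, hε, hρ⟩ := coh (⟨l₀, hl₀⟩ : ↥(insert 0 E)ᶜ)
    (w := fun l χ => a 1 χ - a l χ) h.dpos
    (fun l => by simp only [sq, hw, mul_inv_cancel₀ (hL l).1, if_pos h.E1]; rfl)
    (fun l => by simp only [sub_mul, sum_sub_distrib, h.deg0 1 one_ne_zero, h.deg0 _ (hL l).1]; rfl)
    (fun l m => by rw [hw]; split_ifs <;> omega)
  have hε2 : ε * ε = 1 := by rcases hε with rfl | rfl <;> rfl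
  have hε0 : ε ≠ 0 := by rintro rfl; simp at hε2
  have hF : ∀ (F : ι → ℤ), (∀ k, k ≠ 0 → ∑ χ, a k χ * F χ = 0) → ∀ l, F (ρ l) = F ψ := by
    intro F hF l
    have h1 : ∑ χ, (a 1 χ - a l χ) * F χ = 0 := by
      simp only [sub_mul, sum_sub_distrib, hF 1 one_ne_zero, hF _ (hL l).1]; rfl
    simp only [(hρ l).2, mul_assoc, ← mul_sum, sum_pm] at h1
    exact (sub_eq_zero.1 ((mul_eq_zero.1 h1).resolve_left hε0)).symm
  have hd : ∀ l, d (ρ l) = d ψ := fun l => by exact_mod_cast hF (fun χ => d χ) h.deg0 l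
  have hv' : ∀ l, v (ρ l) = v ψ := hF v val0
  have hρρ : ∀ l m, ρ l = ρ m ↔ (l : ZMod p) * (m : ZMod p)⁻¹ ∈ E := fun l m => by
    have h1 := hw l m
    simp only [(hρ l).2, mul_assoc, ← mul_sum, sum_pm] at h1
    rw [(hρ m).2, (hρ m).2, if_pos rfl, if_neg (hρ m).1, if_neg (hρ l).1.symm] at h1
    have h2 : ∀ x y : ℤ, ε * (ε * x - ε * y) = x - y := fun x y => by
      linear_combination (x - y) * hε2
    rw [h2] at h1
    split_ifs at h1 <;> simp_all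
  have hfib : ∀ m, (univ.filter fun l => ρ l = ρ m).card = e := fun m => by
    rw [← h.Ecard]
    refine card_bij (fun l _ => (l : ZMod p) * (m : ZMod p)⁻¹)
      (fun l hl => (hρρ l m).1 (mem_filter.1 hl).2)
      (fun l _ l' _ e => Subtype.ext (mul_right_cancel₀ (inv_ne_zero (hL m).1) e)) fun i hi => ?_
    have h1 : i * m ∈ (insert 0 E)ᶜ := by
      simp only [mem_compl, mem_insert, not_or]
      refine ⟨mul_ne_zero (h.ne0 hi) (hL m).1, fun e => (hL m).2 ?_⟩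
      simpa [h.ne0 hi] using h.Emul _ (h.Einv _ hi) _ e
    have h2 : i * m * (m : ZMod p)⁻¹ = i := mul_inv_cancel_right₀ (hL m).1 i
    exact ⟨⟨_, h1⟩, mem_filter.2 ⟨mem_univ _, (hρρ _ _).2 (h2.symm ▸ hi)⟩, h2⟩
  set R := univ.image ρ with hR
  have hRc : (insert 0 E)ᶜ.card = R.card * e := by
    rw [← Fintype.card_coe, ← card_univ, card_eq_sum_card_image ρ, sum_const_nat]
    intro x hx
    obtain ⟨m, -, rfl⟩ := mem_image.1 hx
    exact hfib m
  have he0 : 0 < e := h.Ecard ▸ card_pos.2 ⟨1, h.E1⟩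
  have ht : (p - 1) / e = R.card + 1 := Nat.div_eq_of_eq_mul_left he0 (by rw [add_mul]; omega)
  have hR0 : 0 < R.card := card_pos.2 ⟨_, mem_image_of_mem ρ (mem_univ ⟨l₀, hl₀⟩)⟩
  have hψR : ψ ∉ R := fun e => by
    obtain ⟨m, -, e⟩ := mem_image.1 e
    exact (hρ m).1 e.symm
  have hE : ∀ χ, ∑ k ∈ E, a k χ = e * a 1 χ := fun χ => by
    rw [sum_congr rfl fun k hk => h.eq_of (h.ne0 hk) one_ne_zero (by simpa using hk) χ, sum_const,
      h.Ecard, nsmul_eq_mul]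
  have hal : ∀ (l : ↥(insert 0 E)ᶜ) χ, a l χ =
      a 1 χ - ε * ((if χ = ψ then 1 else 0) - if χ = ρ l then 1 else 0) := fun l χ => by
    rw [← (hρ l).2]; ring
  have hpc : (((insert 0 E)ᶜ.card : ℕ) : ℤ) = p - 1 - e := by omega
  have hMψ : ∑ k, a k ψ = (p - 1) * (a 1 ψ - ε) + e * ε := by
    rw [h.sum_split _ (h.a0 ψ), hE, ← sum_coe_sort]
    simp only [hal, if_pos, if_neg (hρ _).1, sum_const, card_univ, Fintype.card_coe, nsmul_eq_mul,
      hpc]
    ring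
  have hMρ : ∀ m, ∑ k, a k (ρ m) = (p - 1) * a 1 (ρ m) + e * ε := fun m => by
    rw [h.sum_split _ (h.a0 _), hE, ← sum_coe_sort]
    simp only [hal, if_neg (hρ m).1.symm, zero_sub, mul_neg, sub_neg_eq_add]
    simp only [sum_add_distrib,
      sum_const, card_univ, Fintype.card_coe, nsmul_eq_mul, hpc, ← mul_sum, sum_boole,
      eq_comm (a := ρ m), hfib]
    ring
  have hT : ∀ (l : ↥(insert 0 E)ᶜ) χ, a l χ ≠ a 1 χ → χ ∈ TT o a := fun l χ e => by
    refine mem_TT.2 ⟨?_, ?_⟩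
    · rintro rfl
      exact e ((h.ao _ (hL l).1).trans (h.ao 1 one_ne_zero).symm)
    · by_contra h1
      push Not at h1
      exact e ((h1 _).trans (h1 _).symm)
  have hψT : ψ ∈ TT o a := hT ⟨l₀, hl₀⟩ ψ (by rw [hal]; simp [(hρ _).1, hε0])
  have hρT : ∀ m, ρ m ∈ TT o a := fun m => hT m _ (by simp [hal, (hρ _).1.symm, hε0])
  have hS : insert ψ R ⊆ TT o a := insert_subset hψT fun x hx => by
    obtain ⟨m, -, rfl⟩ := mem_image.1 hx
    exact hρT m
  obtain ⟨b, hb⟩ : ∃ b, a 1 ψ = b + ε := ⟨a 1 ψ - ε, by ring⟩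
  obtain ⟨k, hk⟩ := (mem_TT.1 hψT).2
  obtain ⟨g1, g2⟩ := h.mult ψ k hk
  have g3 := g2 0
  rw [hMψ, hb, add_sub_cancel_right, ← add_assoc] at g1 g3
  rw [h.a0, mul_zero] at g3
  have hle : ∀ m, (a 1 ψ).natAbs * (a 1 ψ).natAbs +
      (a 1 (ρ m)).natAbs * (a 1 (ρ m)).natAbs ≤ e := fun m => by
    rw [← h.sumT, ← sum_pair (f := fun χ => (a 1 χ).natAbs * (a 1 χ).natAbs) (hρ m).1]
    exact sum_le_sum_of_subset (insert_subset hψT (singleton_subset_iff.2 (hρT m)))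
  have hb' : ∀ m, a 1 (ρ m) = b := fun m => by
    obtain ⟨k, hk⟩ := (mem_TT.1 (hρT m)).2
    obtain ⟨g4, -⟩ := h.mult _ k hk
    rw [hMρ, hd] at g4
    have g5 : (p : ℤ) ∣ a 1 (ρ m) - b := by
      have := dvd_add (dvd_sub g1 g4) (dvd_mul_right (p : ℤ) (a 1 (ρ m) - b))
      rwa [show (d ψ : ℤ) + (p - 1) * b + e * ε - (d ψ + ((p - 1) * a 1 (ρ m) + e * ε)) +
        p * (a 1 (ρ m) - b) = a 1 (ρ m) - b by ring] at this
    have g6 := hle m
    rw [hb] at g6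
    have g7 : 2 * e + 1 ≤ p := by nlinarith
    refine sub_eq_zero.1 (Int.eq_zero_of_dvd_of_natAbs_lt_natAbs g5 ?_)
    have g8 : (a 1 (ρ m) - b).natAbs ≤ (b + ε).natAbs + (a 1 (ρ m)).natAbs + 1 := by omega
    rw [Int.natAbs_natCast]
    generalize (b + ε).natAbs = x at *
    generalize (a 1 (ρ m)).natAbs = y at *
    have g9 := Nat.le_mul_self x
    have g10 := Nat.le_mul_self y
    omega
  have hsum : ∀ {M : Type} [AddCommMonoid M] (F : ℕ → ℤ → ℤ → M),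
      ∑ χ ∈ insert ψ R, F (d χ) (a 1 χ) (v χ) =
        F (d ψ) (b + ε) (v ψ) + R.card • F (d ψ) b (v ψ) := fun F => by
    rw [sum_insert hψR, hb, ← sum_const]
    refine congrArg _ (sum_congr rfl fun x hx => ?_)
    obtain ⟨m, -, rfl⟩ := mem_image.1 hx
    rw [hd, hv', hb']
  obtain ⟨f1, f2, f3, f4⟩ := h.go_of hdl hvl vo val0 hq hf hS (fun χ hχ k hk => by
    simp only [mem_sdiff, mem_insert, not_or] at hχ
    by_cases hkE : k ∈ E
    · exact h.eq_of hk one_ne_zero (by simpa using hkE) χ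
    · rw [hal ⟨k, by simp [hk, hkE]⟩, if_neg hχ.2.1, if_neg, sub_zero, mul_zero, sub_zero]
      rintro rfl
      exact hχ.2.2 (mem_image_of_mem _ (mem_univ _)))
    (acc := (d ψ, b + ε, v ψ) :: List.replicate R.card (d ψ, b, v ψ)) (by
      rw [insert_val_of_notMem hψR, Multiset.map_cons, hb, ← Multiset.cons_coe,
        Multiset.coe_replicate]
      refine congrArg _ (Multiset.eq_replicate.2 ⟨by simp, fun x hx => ?_⟩).symm
      obtain ⟨y, hy, rfl⟩ := Multiset.mem_map.1 hx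
      obtain ⟨m, -, rfl⟩ := mem_image.1 hy
      rw [hd, hv', hb'])
  rw [hsum fun _ a _ => a.natAbs * a.natAbs] at f1 f4
  rw [hsum fun d _ _ => d * d] at f2 f4
  rw [hsum fun _ _ v => v.natAbs * v.natAbs] at f3 f4
  rw [hsum fun d a _ => a * d, hsum fun _ a v => a * v] at f4
  have f5 := hvl ψ hψT
  rw [hMψ, hb, add_sub_cancel_right, ← add_assoc] at f5
  simp only [smul_eq_mul, nsmul_eq_mul] at f1 f2 f3 f4
  simp only [fN_eq, ht, List.any_eq_true, Bool.and_eq_true, Nat.ble_eq, beq_iff_eq,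
    decide_eq_true_eq, Nat.add_sub_cancel]
  rw [add_comm, ← add_one_mul] at f2 f3
  refine ⟨_, hdl ψ hψT, f2, ε, by simpa using hε, b, ?_, Int.emod_eq_zero_of_dvd ?_,
    by omega, g3, _, f5, f3, ?_⟩
  · by_cases hb0 : b = 0
    · simp [hb0]
    · have := hle ⟨l₀, hl₀⟩
      rw [hb'] at this
      exact List.mem_cons_of_mem _ (mem_aL hb0 (by have := h.e80; omega))
  · have := dvd_sub g1 (dvd_mul_right (p : ℤ) b)
    rwa [show (d ψ : ℤ) + (p - 1) * b + e * ε - p * b = d ψ + e * ε - b by ring] at this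
  · convert f4 using 2
    all_goals first | (congr 1; ring1) | ring1 | (push_cast; ring1)

end BD

end Cfsg.Agent.M12R
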