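import Cfsg.Agent.M11.Model
import Cfsg.Agent.Small.NonS

/-! Automorphisms and central extensions of the Mathieu group of degree 11. -/

set_option autoImplicit false

namespace Cfsg.Agent.M12R

open Subgroup Cfsg.Agent.M11 Cfsg.Agent.Local

namespace Spl

section Gen

variable {G : Type*} [Group G]

theorem mem_zpowers_of_cc [Finite G] {z g : G} (h : cc z = orderOf z) (hg : z * g = g * z) :
    g ∈ zpowers z := by
  have h1 : zpowers z ≤ centralizer {z} := zpowers_le_of_mem (mem_centralizer_singleton_iff.2 rfl)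
  rw [eq_of_le_of_card_ge h1 (by rw [Nat.card_zpowers]; exact h.le)]
  exact mem_centralizer_singleton_iff.2 hg.symm

theorem exists_pow_lt [Finite G] {z g : G} {n : ℕ} (hn : orderOf z = n) (hg : g ∈ zpowers z) :
    ∃ i < n, g = z ^ i := by
  classical
  obtain ⟨i, hi, e⟩ := Finset.mem_image.1 (mem_zpowers_iff_mem_range_orderOf.1 hg)
  exact ⟨i, hn ▸ Finset.mem_range.1 hi, e.symm⟩

theorem pow_index_mem [Finite G] {z : G} (hz : ∀ g, z * g = g * z) (hc : z ∈ commutator G)
    (H : Subgroup G) {N : Subgroup G} (hN : H ≤ normalizer (N : Set G))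
    (hH : ∀ a ∈ H, ∀ b ∈ H, a * b * a⁻¹ * b⁻¹ ∈ N) : z ^ H.index ∈ N := by
  have hn : (N.subgroupOf H).Normal := (normal_subgroupOf_iff_le_normalizer_inf.2 (by
    intro g hg
    exact mem_normalizer_iff.2 fun a => ⟨fun ha => ⟨(mem_normalizer_iff.1 (hN hg) a).1 ha.1,
      H.mul_mem (H.mul_mem hg ha.2) (H.inv_mem hg)⟩, fun ha => ⟨(mem_normalizer_iff.1 (hN hg) a).2 ha.1, by
        have := H.mul_mem (H.mul_mem (H.inv_mem hg) ha.2) hg
        simpa [mul_assoc] using this⟩⟩))
  have h1 : commutator H ≤ N.subgroupOf H := by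
    rw [commutator_def, commutator_le]
    intro a _ b _
    exact hH a a.2 b b.2
  have key : ∀ (k : ℕ) (g₀ : G), g₀⁻¹ * z ^ k * g₀ ∈ H → g₀⁻¹ * z ^ k * g₀ = z ^ k := fun k g _ => by
    rw [mul_assoc, (Commute.pow_left (hz g) k).eq, inv_mul_cancel_left]
  have h2 := MonoidHom.transfer_eq_pow (Abelianization.of : H →* Abelianization H) z key
  rw [Abelianization.commutator_subset_ker _ hc] at h2
  have h3 : _ ∈ (Abelianization.of : H →* Abelianization H).ker := h2.symm
  rw [Abelianization.ker_of] at h3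
  exact h1 h3

/-- A central element of the derived group lies in the commutator of two lifts. -/
theorem mem_of_lifts {M : Type*} [Group M] [Finite G] (π : G →* M) (hπ : Function.Surjective π)
    (hk : ∀ z, π z = 1 → ∀ g, z * g = g * z) {p : ℕ} (hp : p.Prime) {x y z : G}
    (h1 : zpowers (π y) ≤ normalizer ((zpowers (π x) : Subgroup M) : Set M))
    (h2 : ¬ p ∣ (zpowers (π y) ⊔ zpowers (π x)).index) {N : Subgroup G}
    (hx : x ∈ normalizer (N : Set G)) (hy : y ∈ normalizer (N : Set G)) (hc : y * x * y⁻¹ * x⁻¹ ∈ N)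
    (hz : π z = 1) (hz' : z ∈ commutator G) (hzp : z ^ p = 1) : z ∈ N := by
  set H := (zpowers (π y) ⊔ zpowers (π x)).comap π
  have hkN : ∀ w, π w = 1 → w ∈ normalizer (N : Set G) := fun w hw =>
    mem_normalizer_iff.2 fun a => by rw [hk w hw a, mul_inv_cancel_right]
  have hf : ∀ a ∈ H, ∃ (i j : ℤ) (w : G), π w = 1 ∧ a = y ^ i * x ^ j * w := fun a ha => by
    have : π a ∈ ((zpowers (π y) ⊔ zpowers (π x) : Subgroup M) : Set M) := ha
    rw [coe_mul_of_left_le_normalizer_right _ _ h1] at this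
    obtain ⟨_, ⟨i, rfl⟩, _, ⟨j, rfl⟩, e⟩ := this
    refine ⟨i, j, (y ^ i * x ^ j)⁻¹ * a, ?_, by group⟩
    simp only at e
    rw [map_mul, map_inv, map_mul, map_zpow, map_zpow, e, inv_mul_cancel]
  have hN : H ≤ normalizer (N : Set G) := fun a ha => by
    obtain ⟨i, j, w, hw, rfl⟩ := hf a ha
    exact mul_mem (mul_mem (zpow_mem hy i) (zpow_mem hx j)) (hkN w hw)
  have h3 := pow_index_mem (hk z hz) hz' H hN fun a ha b hb => by
    obtain ⟨i, j, w, hw, rfl⟩ := hf a ha
    obtain ⟨i', j', w', hw', rfl⟩ := hf b hb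
    let f := QuotientGroup.mk' (N.subgroupOf (normalizer (N : Set G)))
    have key : ∀ u v : normalizer (N : Set G), Commute (f u) (f v) ↔ (u * v * u⁻¹ * v⁻¹ : G) ∈ N :=
      fun u v => by
        rw [← commutatorElement_eq_one_iff_commute, ← map_commutatorElement, QuotientGroup.mk'_apply,
          QuotientGroup.eq_one_iff]
        rfl
    have c1 : Commute (f ⟨y, hy⟩) (f ⟨x, hx⟩) := (key _ _).2 hc
    have c2 : ∀ (w : G) (hw : π w = 1) (u : normalizer (N : Set G)), Commute (f ⟨w, hkN w hw⟩) (f u) :=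
      fun w hw u => (key _ _).2 (by simp [hk w hw u])
    have := (key (⟨y, hy⟩ ^ i * ⟨x, hx⟩ ^ j * ⟨w, hkN w hw⟩)
      (⟨y, hy⟩ ^ i' * ⟨x, hx⟩ ^ j' * ⟨w', hkN w' hw'⟩)).1 (by
        simp only [map_mul, map_zpow]
        refine Commute.mul_left (Commute.mul_left ?_ ?_) ?_
        · exact ((Commute.zpow_zpow (Commute.refl _) _ _).mul_right (c1.zpow_zpow _ _)).mul_right
            ((c2 w' hw' _).symm.zpow_left _)
        · exact ((c1.symm.zpow_zpow _ _).mul_right (Commute.zpow_zpow (Commute.refl _) _ _)).mul_right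
            ((c2 w' hw' _).symm.zpow_left _)
        · exact (((c2 w hw _).zpow_right _).mul_right ((c2 w hw _).zpow_right _)).mul_right (c2 w hw _))
    simpa using this
  rw [index_comap_of_surjective _ hπ] at h3
  have h4 := (mem_zpowers_pow_iff (g := z) (k := (zpowers (π y) ⊔ zpowers (π x)).index)).2
    (Nat.Coprime.coprime_dvd_right (orderOf_dvd_of_pow_eq_one hzp)
      ((Nat.Prime.coprime_iff_not_dvd hp).2 h2).symm)
  exact zpowers_le_of_mem h3 h4

theorem index_ndvd [Finite G] {p a m : ℕ} (hp : p.Prime) (hG : Nat.card G = p ^ (a + 1) * m)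
    (hm : ¬ p ∣ m) {x y : G} (hx : orderOf x = p ^ a) (hy : orderOf y = p) (hxy : y ∉ zpowers x)
    (h1 : zpowers y ≤ normalizer ((zpowers x : Subgroup G) : Set G)) :
    ¬ p ∣ (zpowers y ⊔ zpowers x).index := by
  have := Fact.mk hp
  have h2 : IsPGroup p ↥(zpowers y ⊔ zpowers x) :=
    (IsPGroup.of_card (n := 1) (by rw [Nat.card_zpowers, hy, pow_one])).to_sup_of_normal_right'
      (IsPGroup.of_card (by rw [Nat.card_zpowers, hx])) h1
  obtain ⟨n, hn⟩ := h2.exists_card_eq
  have h3 : a < n := by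
    by_contra h
    refine hxy ((eq_of_le_of_card_ge (le_sup_right : zpowers x ≤ zpowers y ⊔ zpowers x) ?_).ge
      (mem_sup_left (mem_zpowers y)))
    rw [hn, Nat.card_zpowers, hx]
    exact Nat.pow_le_pow_right hp.pos (not_lt.1 h)
  rintro ⟨c, hc⟩
  have h4 := (zpowers y ⊔ zpowers x).card_mul_index
  obtain ⟨d, rfl⟩ := Nat.exists_eq_add_of_lt h3
  rw [hn, hG, hc] at h4
  refine hm ⟨p ^ d * c, Nat.eq_of_mul_eq_mul_left (pow_pos hp.pos (a + 1)) ?_⟩
  rw [← h4]; ring

theorem zpowers_le_norm [Finite G] {x y : G} (n : ℕ) (h : y * x * y⁻¹ = x ^ n) :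
    zpowers y ≤ normalizer ((zpowers x : Subgroup G) : Set G) := by
  refine zpowers_le_of_mem (mem_normalizer_fintype ?_)
  rintro _ ⟨i, rfl⟩
  simp only [← conj_zpow, h]
  exact zpow_mem (pow_mem (mem_zpowers x) n) i

end Gen

theorem pa_mem : pa ∈ Mx := subset_closure ⟨0, by decide, rfl⟩

theorem pb_mem : pb ∈ Mx := subset_closure ⟨1, by decide, rfl⟩

/-- Words in the generators. -/
noncomputable def wd : List Bool → Mx
  | [] => 1
  | c :: l => (if c then ⟨pa, pa_mem⟩ else ⟨pb, pb_mem⟩) * wd l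

/-- The first generator. -/
noncomputable def ea : Mx := wd [true]

/-- The second generator. -/
noncomputable def eb : Mx := wd [false]

/-- Multiplication by three. -/
noncomputable def ek : Mx := wd [false, false, true, false, true, false, true, true, true, false, true]

theorem ord_a : orderOf ea = 11 := have : Fact (Nat.Prime 11) := ⟨by decide⟩
  orderOf_eq_prime (by decide +kernel) (by decide +kernel)

theorem ord_k : orderOf ek = 5 := have : Fact (Nat.Prime 5) := ⟨by decide⟩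
  orderOf_eq_prime (by decide +kernel) (by decide +kernel)

theorem hom_ext {H : Type*} [Group H] {f g : Mx →* H} (ha : f ea = g ea) (hb : f eb = g eb) : f = g := by
  have h : Mx ≤ (f.eqLocus g).map Mx.subtype := Mx_le ⟨ea, ha, mul_one _⟩ ⟨eb, hb, mul_one _⟩
  ext x
  obtain ⟨y, hy, e⟩ := h x.2
  rwa [← show y = x from Subtype.ext e]

theorem chk1 : ∀ j < 11, ∃ i < 11, ea ^ i * (ek * ea ^ j) * (ea ^ i)⁻¹ = ek := by decide +kernel

set_option synthInstance.maxSize 1000 in
theorem chk2 : ∀ m < 11, ∀ j < 5, m = 0 ∨ (∃ i < 5, ek ^ i * ea * (ek ^ i)⁻¹ = ea ^ m ∧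
    ek ^ i * eb * (ek ^ i)⁻¹ = eb * ek ^ j) ∨ ((ea ^ m) ^ 3 * (eb * ek ^ j)) ^ 5 ≠ 1 := by
  decide +kernel

theorem out3 (φ : MulAut Mx) {m : ℕ} (hm : m < 11) (ha : φ ea = ea ^ m) (hk : φ ek = ek) :
    ∃ g : Mx, φ = MulAut.conj g := by
  have h1 : eb * ek * eb⁻¹ = ek ^ 2 := by decide +kernel
  have h2 := congrArg φ h1
  simp only [map_mul, map_inv, map_pow, hk] at h2
  obtain ⟨j, hj, e⟩ := exists_pow_lt ord_k (mem_zpowers_of_cc (z := ek) (g := eb⁻¹ * φ eb)
    (by rw [(data_Mx.1 ek).2, ord_k]; rfl) (by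
      calc ek * (eb⁻¹ * φ eb) = eb⁻¹ * (eb * ek * eb⁻¹) * φ eb := by group
        _ = _ := by rw [h1, ← h2]; group))
  have hb : φ eb = eb * ek ^ j := by rw [← e]; group
  rcases chk2 m hm j hj with rfl | ⟨i, -, h3, h4⟩ | h
  · have := φ.orderOf_eq ea
    rw [ha, pow_zero, orderOf_one, ord_a] at this
    omega
  · refine ⟨ek ^ i, MulEquiv.toMonoidHom_injective (hom_ext ?_ ?_)⟩
    · exact ha.trans h3.symm
    · exact hb.trans h4.symm
  · refine absurd ?_ h
    have h5 : (ea ^ 3 * eb) ^ 5 = 1 := by decide +kernel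
    rw [← ha, ← hb, ← map_pow, ← map_mul, ← map_pow, h5, map_one]

theorem out2 (φ : MulAut Mx) {m : ℕ} (hm : m < 11) (ha : φ ea = ea ^ m) :
    ∃ g : Mx, φ = MulAut.conj g := by
  have h1 : ek * ea * ek⁻¹ = ea ^ 3 := by decide +kernel
  have h2 := congrArg φ h1
  simp only [map_mul, map_inv, map_pow] at h2
  have ho : orderOf (φ ea) = 11 := by rw [φ.orderOf_eq, ord_a]
  have h3 : ek * φ ea * ek⁻¹ = φ ea ^ 3 := by rw [ha, ← conj_pow, h1, ← pow_mul, ← pow_mul, mul_comm]
  have h4 := mem_zpowers_of_cc (z := φ ea) (g := ek⁻¹ * φ ek)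
    (by rw [(data_Mx.1 _).2, ho]; rfl) (by
      calc φ ea * (ek⁻¹ * φ ek) = ek⁻¹ * (ek * φ ea * ek⁻¹) * φ ek := by group
        _ = _ := by rw [h3, ← h2]; group)
  obtain ⟨j, hj, e⟩ := exists_pow_lt ord_a (zpowers_le_of_mem (ha ▸ pow_mem (mem_zpowers ea) m) h4)
  obtain ⟨i, -, hi⟩ := chk1 j hj
  obtain ⟨g, hg⟩ := out3 (MulAut.conj (ea ^ i) * φ) hm (by
    rw [MulAut.mul_apply, ha, MulAut.conj_apply, ← pow_add, add_comm, pow_add, mul_inv_cancel_right]) (by
    rw [MulAut.mul_apply, MulAut.conj_apply, ← mul_inv_cancel_left ek (φ ek), e, hi])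
  exact ⟨(ea ^ i)⁻¹ * g, by rw [map_mul, map_inv, ← hg, inv_mul_cancel_left]⟩

/-- An element of order eight. -/
noncomputable def ex : Mx := wd [true, true, false]

/-- An involution normalising it. -/
noncomputable def ey : Mx := wd [false, false, true, true, false, true, true, true, true, true]

/-- An element of order three. -/
noncomputable def eu : Mx := wd [true, true, false, false, true, false, true]

/-- Another element of order three. -/
noncomputable def ev : Mx :=
  wd [true, false, true, false, false, false, true, true, false, true, true, false, true, true]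

theorem ord_x : orderOf ex = 2 ^ 3 := have : Fact (Nat.Prime 2) := ⟨by decide⟩
  orderOf_eq_prime_pow (by decide +kernel) (by decide +kernel)

theorem ord_u : orderOf eu = 3 := have : Fact (Nat.Prime 3) := ⟨by decide⟩
  orderOf_eq_prime (by decide +kernel) (by decide +kernel)

theorem inf_eq_bot {C : Type*} [Group C] [Finite C] (π : C →* Mx) (hπ : Function.Surjective π)
    (hk : ∀ z, π z = 1 → ∀ g, z * g = g * z) (hc : Nat.card π.ker ∣ 12) :
    commutator C ⊓ π.ker = ⊥ := by
  by_contra hne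
  obtain ⟨p, hp, hd⟩ := Nat.exists_prime_and_dvd (mt card_eq_one.1 hne)
  have := Fact.mk hp
  obtain ⟨⟨z, hz'⟩, hz⟩ := exists_prime_orderOf_dvd_card' p hd
  rw [orderOf_mk] at hz
  obtain ⟨hz1, hz2⟩ := mem_inf.1 hz'
  have hz0 : z ≠ 1 := fun e => hp.ne_one (by rw [← hz, e, orderOf_one])
  have hzp : z ^ p = 1 := hz ▸ pow_orderOf_eq_one z
  have h23 : p = 2 ∨ p = 3 := by
    have h := (hd.trans (card_dvd_of_le inf_le_right)).trans hc
    have := Nat.le_of_dvd (by decide) h
    interval_cases p <;> simp_all (config := {decide := true})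
  rcases h23 with rfl | rfl
  · obtain ⟨x, hx⟩ := hπ ex
    obtain ⟨y, hy⟩ := hπ ey
    have r1 : ey * ex * ey⁻¹ = ex ^ 3 := by decide +kernel
    have r2 : ey ^ 2 = 1 := by decide +kernel
    obtain ⟨w, hw⟩ : ∃ w, y * x * y⁻¹ = x ^ 3 * w := ⟨(x ^ 3)⁻¹ * (y * x * y⁻¹), by group⟩
    have hw1 : π w = 1 := by
      have := congrArg π hw
      simp only [map_mul, map_inv, map_pow, hx, hy, r1] at this
      exact (mul_eq_left.1 this.symm)
    have cw : Commute w x := hk w hw1 x
    have cy : y * w * y⁻¹ = w := by rw [← hk w hw1 y, mul_inv_cancel_right]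
    have e1 : y * x * y⁻¹ * x⁻¹ = x ^ 2 * w := by rw [hw, mul_assoc, cw.inv_right.eq]; group
    have e2 : (x ^ 2 * w) ^ 4 = 1 := by
      have h1 : y * (y * x * y⁻¹) * y⁻¹ = x := by
        have := hk (y ^ 2) (by rw [map_pow, hy, r2]) x
        calc _ = y ^ 2 * x * (y ^ 2)⁻¹ := by rw [sq]; group
          _ = x := by rw [this, mul_inv_cancel_right]
      rw [hw, show y * (x ^ 3 * w) * y⁻¹ = (y * x * y⁻¹) ^ 3 * (y * w * y⁻¹) by rw [conj_pow]; group, hw, cy,
        (cw.symm.pow_left 3).mul_pow] at h1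
      rw [(cw.symm.pow_left 2).mul_pow]
      refine mul_left_cancel (a := x) ?_
      rw [mul_one]
      calc _ = (x ^ 3) ^ 3 * w ^ 3 * w := by group
        _ = x := h1
    have h1 := zpowers_le_norm 3 r1
    have h2 := mem_of_lifts π hπ hk hp (x := x) (y := y) (by rwa [hx, hy]) (by
        rw [hx, hy]
        refine index_ndvd (a := 3) (m := 495) hp card_Mx (by decide) ord_x
          (orderOf_eq_prime r2 (by decide +kernel)) (fun h => ?_) h1
        obtain ⟨i, hi, e⟩ := exists_pow_lt ord_x h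
        revert i; decide +kernel) (N := zpowers (x ^ 2 * w))
      (zpowers_le_norm 1 (by rw [pow_one, ((Commute.refl x).pow_right 2).mul_right cw.symm |>.eq,
        mul_inv_cancel_right]) (mem_zpowers x))
      (zpowers_le_norm 3 (by
        rw [show y * (x ^ 2 * w) * y⁻¹ = (y * x * y⁻¹) ^ 2 * (y * w * y⁻¹) by rw [conj_pow]; group, hw, cy,
          (cw.symm.pow_left 3).mul_pow, (cw.symm.pow_left 2).mul_pow]
        group) (mem_zpowers y)) (e1 ▸ mem_zpowers _) hz2 hz1 hzp
    obtain ⟨i, hi, e⟩ := exists_pow_lt rfl h2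
    have hi4 : i < 4 := hi.trans_le (Nat.le_of_dvd (by decide) (orderOf_dvd_of_pow_eq_one e2))
    have h3 : (ex ^ 2) ^ i = 1 := by
      rw [← show π z = 1 from hz2, e, map_pow, map_mul, hw1, mul_one, map_pow, hx]
    have h4 : ∀ i < 4, (ex ^ 2) ^ i = 1 → i = 0 := by decide +kernel
    exact hz0 (by rw [e, h4 i hi4 h3, pow_zero])
  · obtain ⟨x, hx⟩ := hπ eu
    obtain ⟨y, hy⟩ := hπ ev
    obtain ⟨t, ht⟩ := hπ (eb ^ 2)
    have r1 : ev * eu * ev⁻¹ = eu ^ 1 := by decide +kernel
    have r2 : ev ^ 3 = 1 := by decide +kernel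
    have r3 : eb ^ 2 * eu * (eb ^ 2)⁻¹ = eu := by decide +kernel
    have r4 : eb ^ 2 * ev * (eb ^ 2)⁻¹ = ev⁻¹ := by decide +kernel
    obtain ⟨c, hc⟩ : ∃ c, y * x * y⁻¹ = c * x := ⟨y * x * y⁻¹ * x⁻¹, by group⟩
    obtain ⟨a, ha⟩ : ∃ a, t * x * t⁻¹ = a * x := ⟨t * x * t⁻¹ * x⁻¹, by group⟩
    obtain ⟨b, hb⟩ : ∃ b, t * y * t⁻¹ = b * y⁻¹ := ⟨t * y * t⁻¹ * y, by group⟩
    have hc1 : π c = 1 := by
      have := congrArg π hc
      simp only [map_mul, map_inv, hx, hy, r1, pow_one] at this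
      exact mul_eq_right.1 this.symm
    have ha1 : π a = 1 := by
      have := congrArg π ha
      simp only [map_mul, map_inv, hx, ht, r3] at this
      exact mul_eq_right.1 this.symm
    have hb1 : π b = 1 := by
      have := congrArg π hb
      simp only [map_mul, map_inv, hy, ht, r4] at this
      exact mul_eq_right.1 this.symm
    have e3 : c ^ 3 = 1 := by
      have h1 := hk (x ^ 3) (by rw [map_pow, hx, ← ord_u, pow_orderOf_eq_one]) y
      have h2 : (y * x * y⁻¹) ^ 3 = x ^ 3 := by rw [conj_pow, ← h1, mul_inv_cancel_right]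
      rw [hc, (show Commute c x from hk c hc1 x).mul_pow] at h2
      exact mul_eq_right.1 h2
    have e2 : c ^ 2 = 1 := by
      have h1 : (t * y * t⁻¹) * (t * x * t⁻¹) * (t * y * t⁻¹)⁻¹ = c * (t * x * t⁻¹) := by
        calc _ = t * (y * x * y⁻¹) * t⁻¹ := by group
          _ = _ := by rw [hc, ← mul_assoc, ← hk c hc1 t]; group
      rw [ha, hb] at h1
      have h2 : b * y⁻¹ * (a * x) * (b * y⁻¹)⁻¹ = a * (y⁻¹ * x * y) := by
        rw [show b * y⁻¹ * (a * x) * (b * y⁻¹)⁻¹ = b * (y⁻¹ * a * x * y) * b⁻¹ by group, hk b hb1,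
          mul_inv_cancel_right, ← hk a ha1]
        group
      have h3 : y⁻¹ * x * y = c * x := by
        rw [h2, ← mul_assoc c, ← hk a ha1 c, mul_assoc a c] at h1
        exact mul_left_cancel h1
      have h4 : x = c * (c * x) := by
        calc x = y * (y⁻¹ * x * y) * y⁻¹ := by group
          _ = c * (y * x * y⁻¹) := by rw [h3, ← mul_assoc, ← hk c hc1 y]; group
          _ = _ := by rw [hc]
      rw [← mul_assoc] at h4
      rw [sq]; exact mul_eq_right.1 h4.symm
    have e1 : c = 1 := by rw [pow_succ, e2, one_mul] at e3; exact e3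
    have h1 := zpowers_le_norm 1 r1
    refine hz0 (mem_bot.1 (mem_of_lifts π hπ hk hp (x := x) (y := y) (by rwa [hx, hy]) (by
        rw [hx, hy]
        refine index_ndvd (a := 1) (m := 880) hp card_Mx (by decide) ord_u
          (orderOf_eq_prime r2 (by decide +kernel)) (fun h => ?_) h1
        obtain ⟨i, hi, e⟩ := exists_pow_lt ord_u h
        revert i; decide +kernel) (N := ⊥) (le_normalizer_of_normal (mem_top _))
          (le_normalizer_of_normal (mem_top _)) (by rw [hc, e1]; simp) hz2 hz1 hzp))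

theorem cent12 {G : Type*} [Group G] [Finite G] (R : Subgroup G) [R.Normal] (hR : Nat.card R = 12)
    {x : G} (hx : orderOf x = 11) : R ≤ centralizer {x} := by
  have h11 : Nat.Prime 11 := by decide
  have : Fact (Nat.Prime 3) := ⟨by decide⟩
  have h1 := Small.card_modEq_cent h11 hx (K := R) (le_normalizer_of_normal (mem_top _))
  obtain ⟨⟨t, ht⟩, ht3⟩ := exists_prime_orderOf_dvd_card' (G := R) 3 (by rw [hR]; decide)
  obtain ⟨⟨s, hs⟩, hs2⟩ := exists_prime_orderOf_dvd_card' (G := R) 2 (by rw [hR]; decide)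
  rw [orderOf_mk] at ht3 hs2
  have h2 : {u | u ∈ R ∧ orderOf u = 2}.ncard + 2 ≤ 12 := by
    have h3 : t ≠ 1 := fun e => by simp [e] at ht3
    have h4 := Set.ncard_union_eq (s := {u | u ∈ R ∧ orderOf u = 2}) (t := {t, 1}) (Set.disjoint_right.2 (by
      rintro _ (rfl | rfl) ⟨-, h⟩
      · omega
      · simp at h))
    rw [Set.ncard_pair h3] at h4
    rw [← h4, ← hR]
    refine Set.ncard_le_ncard (t := (R : Set G)) ?_
    rintro u (h | rfl | rfl)
    exacts [h.1, ht, R.one_mem]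
  have h3 : 0 < {u | u ∈ R ∧ orderOf u = 2}.ncard := (Set.ncard_pos (Set.toFinite _)).2 ⟨s, hs, hs2⟩
  obtain ⟨u, hu, hc⟩ := exists_commute_of_not_dvd h11 (hx ▸ pow_orderOf_eq_one x)
    (X := {u | u ∈ R ∧ orderOf u = 2}) (fun u hu => ⟨Normal.conj_mem inferInstance u hu.1 x, by
      rw [← hu.2]; exact (orderOf_eq_of_isConj (isConj_iff.2 ⟨x, rfl⟩)).symm⟩)
    (fun h => by have := Nat.le_of_dvd h3 h; omega)
  have h4 : 2 ∣ Nat.card ↥(R ⊓ centralizer {x}) := by
    rw [← hu.2, ← orderOf_mk u (show u ∈ R ⊓ centralizer {x} from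
      ⟨hu.1, mem_centralizer_singleton_iff.2 hc.symm.eq⟩)]
    exact orderOf_dvd_natCard _
  have h5 := card_le_of_le (inf_le_left : R ⊓ centralizer {x} ≤ R)
  rw [← inf_eq_left]
  refine eq_of_le_of_card_ge inf_le_left ?_
  unfold Nat.ModEq at h1
  omega

end Spl

open Spl

theorem outMx (φ : MulAut M11.Mx) : ∃ g : M11.Mx, φ = MulAut.conj g := by
  have : Fact (Nat.Prime 11) := ⟨by decide⟩
  have ho : orderOf (φ ea) = 11 := by rw [φ.orderOf_eq, ord_a]
  obtain ⟨P, hP⟩ := exists_sylow_mem ho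
  obtain ⟨Q, hQ⟩ := exists_sylow_mem ord_a
  obtain ⟨c, hc⟩ := MulAction.exists_smul_eq Mx P Q
  have h1 : zpowers ea = Q := eq_of_le_of_card_ge (zpowers_le_of_mem hQ) (by
    rw [card_sylow_eq Q 1 720 card_Mx (by decide), Nat.card_zpowers, ord_a]; rfl)
  have h2 : c * φ ea * c⁻¹ ∈ zpowers ea := by
    rw [h1, ← hc]
    exact smul_mem_pointwise_smul _ (MulAut.conj c) _ hP
  obtain ⟨m, hm, e⟩ := exists_pow_lt ord_a h2
  obtain ⟨g, hg⟩ := out2 (MulAut.conj c * φ) hm e
  exact ⟨c⁻¹ * g, by rw [map_mul, map_inv, ← hg, inv_mul_cancel_left]⟩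

theorem split12 {G : Type*} [Group G] [Finite G] (R : Subgroup G) [R.Normal] (hR : Nat.card R = 12)
    (hs : IsSimpleGroup (G ⧸ R)) (e : G ⧸ R ≃* M11.Mx) : Nonempty (G ≃* R × M11.Mx) := by
  have : Fact (Nat.Prime 11) := ⟨by decide⟩
  have hM : IsSimpleGroup Mx := e.symm.isSimpleGroup
  let π : G →* Mx := e.toMonoidHom.comp (QuotientGroup.mk' R)
  have hπ : Function.Surjective π := e.surjective.comp (QuotientGroup.mk'_surjective R)
  have hk : ∀ g, π g = 1 ↔ g ∈ R := fun g => by simp [π]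
  have hG : Nat.card G = 7920 * 12 := by
    rw [card_eq_card_quotient_mul_card_subgroup R, hR, Nat.card_congr e.toEquiv, card_Mx]
  obtain ⟨x, hx⟩ := exists_prime_orderOf_dvd_card' (G := G) 11 (by rw [hG]; decide)
  set C := centralizer (R : Set G)
  have hxC : x ∈ C := mem_centralizer_iff.2 fun r hr =>
    mem_centralizer_singleton_iff.1 (cent12 R hR hx hr)
  have h1 : C.map π = ⊤ := (Normal.map inferInstance π hπ).eq_bot_or_eq_top.resolve_left fun h => by
    have h2 : x ∈ R := (hk x).1 (mem_bot.1 (h.le (mem_map_of_mem π hxC)))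
    have h3 := orderOf_dvd_natCard (⟨x, h2⟩ : R)
    rw [orderOf_mk, hx, hR] at h3
    omega
  let τ : C →* Mx := π.comp C.subtype
  have hτ : Function.Surjective τ := fun m => by
    obtain ⟨g, hg, e⟩ := h1.ge (mem_top m)
    exact ⟨⟨g, hg⟩, e⟩
  have h2 := inf_eq_bot τ hτ (fun z hz g => Subtype.ext (mem_centralizer_iff.1 g.2 z ((hk z).1 hz))) (by
    rw [← hR, ← card_map_of_injective C.subtype_injective]
    refine card_dvd_of_le ?_
    rintro _ ⟨z, hz, rfl⟩
    exact (hk z).1 hz)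
  have h3 : (commutator C).map τ = ⊤ := by
    rw [map_commutator_eq, MonoidHom.range_eq_top.2 hτ]
    refine (Normal.eq_bot_or_eq_top inferInstance).resolve_left fun h => ?_
    have h4 : ea * eb * ea⁻¹ * eb⁻¹ = 1 := mem_bot.1 (h.le (commutator_mem_commutator (mem_top _) (mem_top _)))
    revert h4; decide +kernel
  let ι : commutator C →* G := C.subtype.comp (commutator C).subtype
  have hb : Function.Bijective (π.comp ι) := ⟨(injective_iff_map_eq_one _).2 fun a ha =>
    Subtype.ext (mem_bot.1 (h2.le ⟨a.2, ha⟩)), fun m => by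
      obtain ⟨g, hg, e⟩ := h3.ge (mem_top m)
      exact ⟨⟨g, hg⟩, e⟩⟩
  let s : Mx →* G := ι.comp (MulEquiv.ofBijective _ hb).symm.toMonoidHom
  have hs1 : ∀ m, π (s m) = m := (MulEquiv.ofBijective _ hb).apply_symm_apply
  let f : R × Mx →* G := R.subtype.noncommCoprod s fun r m =>
    mem_centralizer_iff.1 ((MulEquiv.ofBijective _ hb).symm m).1.2 r r.2
  refine ⟨(MulEquiv.ofBijective f ((Nat.bijective_iff_surjective_and_card f).2 ⟨fun g => ?_, ?_⟩)).symm⟩
  · exact ⟨(⟨g * (s (π g))⁻¹, (hk _).1 (by rw [map_mul, map_inv, hs1, mul_inv_cancel])⟩, π g),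
      inv_mul_cancel_right g _⟩
  · rw [Nat.card_prod, hR, card_Mx, hG]

theorem split {G : Type*} [Group G] [Finite G] (hG : Nat.card G = 95040)
    {M : Subgroup (G ⧸ pPrimeCore 11 G)} [M.Normal] [IsSimpleGroup M] (e : M ≃* M11.Mx) :
    Nat.card (pPrimeCore 11 G) = 12 ∧ Nonempty (G ≃* pPrimeCore 11 G × M11.Mx) := by
  have hM : Nat.card M = 7920 := by rw [Nat.card_congr e.toEquiv, card_Mx]
  have h1 : Disjoint (centralizer (M : Set (G ⧸ pPrimeCore 11 G))) M := disjoint_def.2 fun {g} h1 h2 => by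
    by_contra h3
    have h4 := Small.le_of_simple h2 h1 h3
    have h5 : e.symm ea * e.symm eb = e.symm eb * e.symm ea :=
      Subtype.ext (mem_centralizer_iff.1 (h4 (e.symm eb).2) _ (e.symm ea).2)
    rw [← map_mul, ← map_mul, e.symm.apply_eq_iff_eq] at h5
    revert h5; decide +kernel
  have h2 : centralizer (M : Set (G ⧸ pPrimeCore 11 G)) = ⊥ := by
    rw [eq_bot_iff, ← pPrimeCore_quotient_eq_bot 11]
    refine le_pPrimeCore inferInstance ?_
    have h3 : Nat.card (centralizer (M : Set (G ⧸ pPrimeCore 11 G))) ∣ M.index := by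
      rw [index_eq_card]
      exact card_dvd_of_injective ((QuotientGroup.mk' M).comp (Subgroup.subtype _))
        ((injective_iff_map_eq_one _).2 fun a ha =>
          Subtype.ext (disjoint_def.1 h1 a.2 ((QuotientGroup.eq_one_iff _).1 ha)))
    have h4 : 7920 * M.index ∣ 7920 * 12 := by
      rw [← hM, card_mul_index, hM]
      exact (card_quotient_dvd_card _).trans hG.dvd
    exact Nat.Coprime.coprime_dvd_left (h3.trans (Nat.dvd_of_mul_dvd_mul_left (by decide) h4)) (by decide)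
  have h3 : M = ⊤ := eq_top_iff.2 fun g _ => by
    obtain ⟨m, hm⟩ := outMx (e.symm.trans ((MulAut.conjNormal g).trans e))
    have h4 : ((e.symm m : M) : G ⧸ pPrimeCore 11 G)⁻¹ * g ∈ centralizer (M : Set _) :=
      mem_centralizer_iff.2 fun a ha => by
        have h5 := congrArg e.symm (DFunLike.congr_fun hm (e ⟨a, ha⟩))
        simp only [MulEquiv.trans_apply, MulEquiv.symm_apply_apply, MulAut.conj_apply, map_mul,
          map_inv] at h5
        have h6 : g * a * g⁻¹ = e.symm m * a * (e.symm m : G ⧸ pPrimeCore 11 G)⁻¹ := congrArg Subtype.val h5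
        calc _ = (e.symm m : G ⧸ pPrimeCore 11 G)⁻¹ * (e.symm m * a * (e.symm m : G ⧸ pPrimeCore 11 G)⁻¹) * g := by
              group
          _ = _ := by rw [← h6]; group
    rw [h2, mem_bot, inv_mul_eq_one] at h4
    exact h4 ▸ (e.symm m).2
  subst h3
  have h4 := card_eq_card_quotient_mul_card_subgroup (pPrimeCore 11 G)
  rw [← card_top, ← card_top (G := G ⧸ pPrimeCore 11 G), hM, card_top, hG] at h4
  have h5 : Nat.card (pPrimeCore 11 G) = 12 := by omega
  exact ⟨h5, split12 _ h5 topEquiv.symm.isSimpleGroup (topEquiv.symm.trans e)⟩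

end Cfsg.Agent.M12R
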